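import Groth.Agent.H1.Central.ExtDefs

set_option autoImplicit false
universe u
open CategoryTheory CategoryTheory.Limits MonoidalCategory CartesianMonoidalCategory MonObj GrpObj
  AlgebraicGeometry
open Groth.Agent.H1.Central

namespace Groth.Agent.H17.ExtKN

theorem kernel_mono_normal {S : Scheme.{u}} {E H U : Over S} [GrpObj E] [GrpObj H] [GrpObj U] (p : E ⟶ U) [IsMonHom p] (i : H ⟶ E) [IsMonHom i] (hker : AlgGrp.IsKernel i p) : Mono i ∧ AlgGrp.IsNormalHom i := by
  have hpb : IsPullback i (toUnit H) p η[U] := hker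
  refine ⟨⟨fun {T} a b h => hpb.hom_ext h (toUnit_unique _ _)⟩, ?_⟩
  intro T g n
  have hw : i ≫ p = toUnit H ≫ η[U] := hpb.w
  have h1 : (g * (n ≫ i) * g⁻¹) ≫ p = toUnit T ≫ η[U] := by
    rw [MonObj.mul_comp, MonObj.mul_comp, GrpObj.inv_comp, Category.assoc, hw, ← Category.assoc,
      toUnit_unique (n ≫ toUnit H) (toUnit T), ← Hom.one_def]
    group
  exact ⟨hpb.lift _ _ h1, (hpb.lift_fst _ _ h1).symm⟩

end Groth.Agent.H17.ExtKN
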