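import Groth.Agent.H1.Central.ExtDefs

set_option autoImplicit false
universe u
open CategoryTheory CategoryTheory.Limits MonoidalCategory CartesianMonoidalCategory MonObj GrpObj
  AlgebraicGeometry
open Groth.Agent.H1.Central

namespace Groth.Agent.H17.ExtSAT

theorem field_hom_props {K L : CommRingCat.{u}} (hK : IsField K) (hL : IsField L)
    (r : Spec L ⟶ Spec K) : Flat r ∧ Surjective r ∧ QuasiCompact r := by
  have := Groth.Agent.H43.MT.field_map_props hK hL (Spec.preimage r)
  rwa [Spec.map_preimage] at this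

theorem locus_saturated {S : Scheme.{u}} {E H U : Over S} [GrpObj E] [GrpObj H] [GrpObj U] (p : E ⟶ U) [IsMonHom p] (i : H ⟶ E) [IsMonHom i] [Mono i] (hker : AlgGrp.IsKernel i p) (hcomm : ∀ (T : Over S) (a b : T ⟶ H), a * b = b * a) (a : Red.bc E.hom H ⟶ Red.bc E.hom H) (ha : ConjProp i a)
    (hB1 : ∀ {W : Scheme.{u}} (q : W ⟶ E.left), (Over.pullback q).map a = 𝟙 _ ↔ CentAt i q)
    (hB2 : ∀ {W : Scheme.{u}} (q₁ q₂ : W ⟶ E.left), q₁ ≫ p.left = q₂ ≫ p.left → CentAt i q₁ → CentAt i q₂)
    (x y : E.left) (hxy : p.left.base x = p.left.base y) (hx : (Over.pullback (E.left.fromSpecResidueField x)).map a = 𝟙 _) : (Over.pullback (E.left.fromSpecResidueField y)).map a = 𝟙 _ := by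
  set fx := E.left.fromSpecResidueField x with hfx
  set fy := E.left.fromSpecResidueField y with hfy
  let ptx : Spec (E.left.residueField x) := IsLocalRing.closedPoint (E.left.residueField x)
  let pty : Spec (E.left.residueField y) := IsLocalRing.closedPoint (E.left.residueField y)
  have hpt : (fx ≫ p.left).base ptx = (fy ≫ p.left).base pty := by
    show p.left.base (fx.base ptx) = p.left.base (fy.base pty)
    rw [hfx, hfy, Scheme.fromSpecResidueField_apply, Scheme.fromSpecResidueField_apply]
    exact hxy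
  obtain ⟨w, -, -⟩ := Scheme.Pullback.exists_preimage_pullback (f := fx ≫ p.left)
    (g := fy ≫ p.left) ptx pty hpt
  let P := pullback (fx ≫ p.left) (fy ≫ p.left)
  let qL : Spec (P.residueField w) ⟶ P := P.fromSpecResidueField w
  let rx : Spec (P.residueField w) ⟶ Spec (E.left.residueField x) := qL ≫ pullback.fst _ _
  let ry : Spec (P.residueField w) ⟶ Spec (E.left.residueField y) := qL ≫ pullback.snd _ _
  have hKw : IsField (P.residueField w) := Field.toIsField _
  have hKx : IsField (E.left.residueField x) := Field.toIsField _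
  have hKy : IsField (E.left.residueField y) := Field.toIsField _
  obtain ⟨hry1, hry2, hry3⟩ := field_hom_props hKy hKw ry
  have hq : (rx ≫ fx) ≫ p.left = (ry ≫ fy) ≫ p.left := by
    simp only [rx, ry, Category.assoc]
    rw [pullback.condition]
  have h1 : (Over.pullback (rx ≫ fx)).map a = 𝟙 _ := by
    rw [← eq_id_bc_comp rx fx (rx ≫ fx) rfl a, hx, CategoryTheory.Functor.map_id]
  have h2 : CentAt i (rx ≫ fx) := (hB1 _).mp h1
  have h3 : CentAt i (ry ≫ fy) := hB2 _ _ hq h2
  have h4 : (Over.pullback (ry ≫ fy)).map a = 𝟙 _ := (hB1 _).mpr h3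
  have h5 : (Over.pullback ry).map ((Over.pullback fy).map a) = 𝟙 _ :=
    (eq_id_bc_comp ry fy (ry ≫ fy) rfl a).mpr h4
  exact eq_id_of_bc ry _ h5

end Groth.Agent.H17.ExtSAT
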