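import Groth.Agent.H1.Central.ExtDefs

set_option autoImplicit false
universe u
open CategoryTheory CategoryTheory.Limits MonoidalCategory CartesianMonoidalCategory MonObj GrpObj
  AlgebraicGeometry
open Groth.Agent.H1.Central

namespace Groth.Agent.H17.ExtTOP

theorem eq_univ_of_saturated {S : Scheme.{u}} {E U : Over S} (p : E ⟶ U) [Surjective p.left] [Flat p.left] [QuasiCompact p.left] (eE : S ⟶ E.left) (heE : eE ≫ E.hom = 𝟙 S) (hU : ∀ s : S, _root_.IsConnected (U.hom.base ⁻¹' {s})) (Z : Set E.left) (hZ : IsClopen Z) (hsat : ∀ x y : E.left, p.left.base x = p.left.base y → x ∈ Z → y ∈ Z) (hmem : ∀ s : S, eE.base s ∈ Z) : Z = Set.univ := by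
  have hq : Topology.IsQuotientMap p.left.base := Flat.isQuotientMap_of_surjective p.left
  set Z' : Set U.left := p.left.base '' Z with hZ'
  have hpre : p.left.base ⁻¹' Z' = Z := by
    ext x
    constructor
    · rintro ⟨y, hy, hyx⟩
      exact hsat y x hyx hy
    · intro hx
      exact ⟨x, hx, rfl⟩
  have hZ'clopen : IsClopen Z' := by
    constructor
    · rw [← hq.isClosed_preimage, hpre]
      exact hZ.1
    · rw [← hq.isOpen_preimage, hpre]
      exact hZ.2
  have hw : ∀ e : E.left, U.hom.base (p.left.base e) = E.hom.base e := by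
    intro e
    have h1 : p.left ≫ U.hom = E.hom := Over.w p
    rw [← h1]
    rfl
  rw [Set.eq_univ_iff_forall]
  intro e
  have hfib : U.hom.base ⁻¹' {E.hom.base e} ⊆ Z' := by
    apply (hU (E.hom.base e)).isPreconnected.subset_isClopen hZ'clopen
    refine ⟨p.left.base (eE.base (E.hom.base e)), ?_, ⟨eE.base (E.hom.base e), hmem _, rfl⟩⟩
    show U.hom.base (p.left.base (eE.base (E.hom.base e))) = E.hom.base e
    rw [hw]
    have h2 : E.hom.base (eE.base (E.hom.base e)) = (eE ≫ E.hom).base (E.hom.base e) := rfl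
    rw [h2, heE]
    rfl
  have he : p.left.base e ∈ Z' := hfib (hw e)
  rw [← hpre]
  exact he

end Groth.Agent.H17.ExtTOP
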