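import Mathlib.Topology.NoetherianSpace
import Mathlib.Topology.Constructible
import Mathlib.Topology.Sober
import Mathlib.Topology.Semicontinuity.Basic
import Mathlib.Data.Finite.Sum

/-!
# Constructible sets in Noetherian spaces (EGA 0_III 9.2)

Noetherian induction on closed subsets (`closed_induction`) and the key facts about traces of
constructible sets on irreducible closed subsets.
-/

set_option autoImplicit false
universe u v

namespace Groth.Agent.H17.NoethConstr

open TopologicalSpace Topology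

variable {X : Type u} [TopologicalSpace X]

theorem retro_of_noeth [NoetherianSpace X] (U : Set X) : IsRetrocompact U :=
  fun V _ _ => NoetherianSpace.isCompact (U ∩ V)

/-- every constructible set is a finite union of locally closed sets -/
theorem exists_finite_locallyClosed (s : Set X) (hs : IsConstructible s) :
    ∃ (ι : Type) (_ : Finite ι) (Z : ι → Set X), (∀ i, IsLocallyClosed (Z i)) ∧ s = ⋃ i, Z i := by
  induction s, hs using BooleanSubalgebra.closure_sdiff_sup_induction with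
  | isSublattice =>
    exact ⟨fun s hs t ht ↦ ⟨hs.1.union ht.1, hs.2.union ht.2⟩,
      fun s hs t ht ↦ ⟨hs.1.inter ht.1, hs.2.inter_isOpen ht.2 ht.1⟩⟩
  | bot_mem => exact ⟨isOpen_empty, .empty⟩
  | top_mem => exact ⟨isOpen_univ, .univ⟩
  | sdiff U hU V hV =>
    refine ⟨Unit, inferInstance, fun _ => U \ V, fun _ => ?_, ?_⟩
    · exact ⟨U, Vᶜ, hU.1, hV.1.isClosed_compl, rfl⟩
    · exact (Set.iUnion_const _).symm
  | sup s _ t _ hs' ht' =>
    obtain ⟨ι, hι, Z, hZ, rfl⟩ := hs'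
    obtain ⟨κ, hκ, W, hW, rfl⟩ := ht'
    have := hι
    have := hκ
    refine ⟨ι ⊕ κ, inferInstance, Sum.elim Z W, ?_, ?_⟩
    · rintro (i | j)
      · exact hZ i
      · exact hW j
    · simp [Set.iUnion_sum]

theorem isConstructible_of_isOpen [NoetherianSpace X] {U : Set X} (hU : IsOpen U) :
    IsConstructible U := (retro_of_noeth U).isConstructible hU

theorem isConstructible_of_isClosed [NoetherianSpace X] {C : Set X} (hC : IsClosed C) :
    IsConstructible C := by
  have : C = Cᶜᶜ := (compl_compl C).symm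
  rw [this]
  exact (isConstructible_of_isOpen hC.isOpen_compl).compl

theorem isConstructible_open_inter_closed [NoetherianSpace X] {U C : Set X} (hU : IsOpen U)
    (hC : IsClosed C) : IsConstructible (U ∩ C) :=
  (isConstructible_of_isOpen hU).inter (isConstructible_of_isClosed hC)

/-- **Key lemma**: a constructible set whose trace on an irreducible set `Z` is dense in `Z`
contains a nonempty relatively open subset of `Z`. -/
theorem exists_open_of_dense_inter {Z : Set X} (hZ : IsIrreducible Z) {E : Set X}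
    (hE : IsConstructible E) (hd : Z ⊆ closure (E ∩ Z)) :
    ∃ U : Set X, IsOpen U ∧ (U ∩ Z).Nonempty ∧ U ∩ Z ⊆ E := by
  classical
  obtain ⟨ι, hι, L, hL, rfl⟩ := exists_finite_locallyClosed E hE
  have := Fintype.ofFinite ι
  have hcov : Z ⊆ ⋃₀ ((Finset.univ.image fun i => closure (L i ∩ Z) : Finset (Set X)) :
      Set (Set X)) := by
    intro z hz
    have hz' := hd hz
    rw [Set.iUnion_inter, closure_iUnion_of_finite] at hz'
    obtain ⟨i, hi⟩ := Set.mem_iUnion.mp hz'
    exact Set.mem_sUnion.mpr ⟨closure (L i ∩ Z), by simp, hi⟩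
  obtain ⟨c, hc, hZc⟩ := isIrreducible_iff_sUnion_isClosed.mp hZ _ (by
    intro c hc
    simp only [Finset.mem_image, Finset.mem_univ, true_and] at hc
    obtain ⟨i, rfl⟩ := hc
    exact isClosed_closure) hcov
  simp only [Finset.mem_image, Finset.mem_univ, true_and] at hc
  obtain ⟨i, rfl⟩ := hc
  obtain ⟨O, C, hO, hC, hLi⟩ := hL i
  have hZC : Z ⊆ C := by
    refine hZc.trans (closure_minimal ?_ hC)
    rw [hLi]
    exact fun x hx => hx.1.2
  have hOZ : O ∩ Z = L i ∩ Z := by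
    rw [hLi]
    ext x
    simp only [Set.mem_inter_iff]
    constructor
    · rintro ⟨hxO, hxZ⟩
      exact ⟨⟨hxO, hZC hxZ⟩, hxZ⟩
    · rintro ⟨⟨hxO, _⟩, hxZ⟩
      exact ⟨hxO, hxZ⟩
  refine ⟨O, hO, ?_, ?_⟩
  · rw [hOZ]
    by_contra hne
    rw [Set.not_nonempty_iff_eq_empty] at hne
    rw [hne, closure_empty] at hZc
    obtain ⟨z, hz⟩ := hZ.1
    exact hZc hz
  · rw [hOZ]
    exact fun x hx => Set.mem_iUnion.mpr ⟨i, hx.1⟩

/-- a nonempty relatively open subset of an irreducible set is dense in it -/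
theorem subset_closure_inter_of_nonempty {Z : Set X} (hZ : IsIrreducible Z) {U : Set X}
    (hU : IsOpen U) (hne : (U ∩ Z).Nonempty) : Z ⊆ closure (U ∩ Z) := by
  intro z hz
  rw [mem_closure_iff]
  intro V hV hzV
  have h1 : (Z ∩ V).Nonempty := ⟨z, hz, hzV⟩
  have h2 : (Z ∩ U).Nonempty := by rwa [Set.inter_comm]
  obtain ⟨w, hwZ, hwV, hwU⟩ := hZ.2 V U hV hU h1 h2
  exact ⟨w, hwV, hwU, hwZ⟩

theorem dense_preimage_val_iff {Y E : Set X} :
    Dense (Subtype.val ⁻¹' E : Set Y) ↔ Y ⊆ closure (E ∩ Y) := by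
  constructor
  · intro h y hy
    have := h ⟨y, hy⟩
    rw [closure_subtype, Subtype.image_preimage_coe, Set.inter_comm] at this
    exact this
  · intro h y
    rw [closure_subtype, Subtype.image_preimage_coe, Set.inter_comm]
    exact h y.2

/-- **Noetherian induction** over closed subsets, split into the empty, reducible and irreducible
cases. -/
theorem closed_induction [NoetherianSpace X] (P : Set X → Prop) (h_empty : P ∅)
    (h_union : ∀ Y₁ Y₂, IsClosed Y₁ → IsClosed Y₂ → P Y₁ → P Y₂ → P (Y₁ ∪ Y₂))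
    (h_irr : ∀ Y, IsClosed Y → IsIrreducible Y → (∀ Y', IsClosed Y' → Y' ⊂ Y → P Y') → P Y) :
    ∀ Y, IsClosed Y → P Y := by
  suffices h : ∀ Y : Closeds X, P (Y : Set X) from fun Y hY => h ⟨Y, hY⟩
  intro Y
  induction Y using WellFoundedLT.induction with
  | ind Y ih =>
    have ih' : ∀ Y' : Set X, IsClosed Y' → Y' ⊂ (Y : Set X) → P Y' := fun Y' hY' hlt =>
      ih ⟨Y', hY'⟩ (by exact_mod_cast hlt)
    by_cases hne : (Y : Set X).Nonempty
    · by_cases hirr : IsPreirreducible (Y : Set X)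
      · exact h_irr _ Y.2 ⟨hne, hirr⟩ ih'
      · rw [isPreirreducible_iff_isClosed_union_isClosed] at hirr
        push Not at hirr
        obtain ⟨z₁, z₂, hz₁, hz₂, hcov, hn₁, hn₂⟩ := hirr
        have e : (Y : Set X) = ((Y : Set X) ∩ z₁) ∪ ((Y : Set X) ∩ z₂) := by
          rw [← Set.inter_union_distrib_left]
          exact (Set.inter_eq_left.mpr hcov).symm
        rw [e]
        refine h_union _ _ (Y.2.inter hz₁) (Y.2.inter hz₂) (ih' _ (Y.2.inter hz₁) ?_)
          (ih' _ (Y.2.inter hz₂) ?_)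
        · exact ⟨Set.inter_subset_left, fun h => hn₁ (fun y hy => (h hy).2)⟩
        · exact ⟨Set.inter_subset_left, fun h => hn₂ (fun y hy => (h hy).2)⟩
    · rw [Set.not_nonempty_iff_eq_empty] at hne
      rw [hne]; exact h_empty

/-- removing a relatively open nonempty part gives a proper closed subset -/
theorem diff_ssubset {Y U : Set X} (hne : (U ∩ Y).Nonempty) : Y ∩ Uᶜ ⊂ Y := by
  refine ⟨Set.inter_subset_left, fun h => ?_⟩
  obtain ⟨y, hyU, hyY⟩ := hne
  exact (h hyY).2 hyU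

/-- S2399-type criterion for openness. -/
theorem isOpen_of_forall_irreducible [NoetherianSpace X] (E : Set X)
    (h : ∀ Y : Set X, IsClosed Y → IsIrreducible Y → (E ∩ Y).Nonempty →
        ∃ U : Set X, IsOpen U ∧ (U ∩ Y).Nonempty ∧ U ∩ Y ⊆ E) : IsOpen E := by
  have key : ∀ Y, IsClosed Y → IsClosed (Y \ E) := by
    refine closed_induction (fun Y => IsClosed (Y \ E)) (by simp) ?_ ?_
    · intro Y₁ Y₂ _ _ h₁ h₂
      rw [Set.union_sdiff_distrib]
      exact h₁.union h₂
    · intro Y hY hirr ih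
      by_cases hne : (E ∩ Y).Nonempty
      · obtain ⟨U, hU, hUY, hUE⟩ := h Y hY hirr hne
        have e : Y \ E = (Y ∩ Uᶜ) \ E := by
          ext y
          simp only [Set.mem_sdiff, Set.mem_inter_iff, Set.mem_compl_iff]
          constructor
          · rintro ⟨hyY, hyE⟩
            exact ⟨⟨hyY, fun hyU => hyE (hUE ⟨hyU, hyY⟩)⟩, hyE⟩
          · rintro ⟨⟨hyY, _⟩, hyE⟩
            exact ⟨hyY, hyE⟩
        rw [e]
        exact ih _ (hY.inter hU.isClosed_compl) (diff_ssubset hUY)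
      · have e : Y \ E = Y := by
          ext y
          simp only [Set.mem_sdiff, and_iff_left_iff_imp]
          exact fun hyY hyE => hne ⟨y, hyE, hyY⟩
        rw [e]; exact hY
  have := key Set.univ isClosed_univ
  rwa [← Set.compl_eq_univ_sdiff, isClosed_compl_iff] at this

/-- S2396 (⇐) -/
theorem isConstructible_of_forall_irreducible [NoetherianSpace X] (E : Set X)
    (h : ∀ Y : Set X, IsClosed Y → IsIrreducible Y →
        IsNowhereDense (Subtype.val ⁻¹' E : Set Y) ∨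
          ∃ U : Set X, IsOpen U ∧ (U ∩ Y).Nonempty ∧ U ∩ Y ⊆ E) : IsConstructible E := by
  have key : ∀ Y, IsClosed Y → IsConstructible (E ∩ Y) := by
    refine closed_induction (fun Y => IsConstructible (E ∩ Y)) (by simp) ?_ ?_
    · intro Y₁ Y₂ _ _ h₁ h₂
      rw [Set.inter_union_distrib_left]
      exact h₁.union h₂
    · intro Y hY hirr ih
      rcases h Y hY hirr with hnd | ⟨U, hU, hUY, hUE⟩
      · have hY'sub : closure (E ∩ Y) ⊆ Y := closure_minimal Set.inter_subset_right hY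
        have hne : closure (E ∩ Y) ≠ Y := by
          intro heq
          have hd : Dense (Subtype.val ⁻¹' E : Set Y) := dense_preimage_val_iff.mpr heq.symm.le
          have h0 := hnd
          rw [IsNowhereDense, hd.closure_eq, interior_univ] at h0
          obtain ⟨y, hy⟩ := hirr.1
          exact (Set.eq_empty_iff_forall_notMem.mp h0) ⟨y, hy⟩ trivial
        have hlt : closure (E ∩ Y) ⊂ Y := lt_of_le_of_ne hY'sub hne
        have e : E ∩ Y = E ∩ closure (E ∩ Y) := by
          ext y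
          constructor
          · intro hy; exact ⟨hy.1, subset_closure hy⟩
          · intro hy; exact ⟨hy.1, hY'sub hy.2⟩
        rw [e]
        exact ih _ isClosed_closure hlt
      · have e : E ∩ Y = (U ∩ Y) ∪ (E ∩ (Y ∩ Uᶜ)) := by
          ext y
          simp only [Set.mem_inter_iff, Set.mem_union, Set.mem_compl_iff]
          constructor
          · rintro ⟨hyE, hyY⟩
            by_cases hyU : y ∈ U
            · exact Or.inl ⟨hyU, hyY⟩
            · exact Or.inr ⟨hyE, hyY, hyU⟩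
          · rintro (⟨hyU, hyY⟩ | ⟨hyE, hyY, _⟩)
            · exact ⟨hUE ⟨hyU, hyY⟩, hyY⟩
            · exact ⟨hyE, hyY⟩
        rw [e]
        exact (isConstructible_open_inter_closed hU hY).union
          (ih _ (hY.inter hU.isClosed_compl) (diff_ssubset hUY))
  have := key Set.univ isClosed_univ
  rwa [Set.inter_univ] at this

/-- S2396 (⇒) -/
theorem forall_irreducible_of_isConstructible {E : Set X} (hE : IsConstructible E)
    (Y : Set X) (hirr : IsIrreducible Y) :
    IsNowhereDense (Subtype.val ⁻¹' E : Set Y) ∨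
      ∃ U : Set X, IsOpen U ∧ (U ∩ Y).Nonempty ∧ U ∩ Y ⊆ E := by
  by_cases hd : Y ⊆ closure (E ∩ Y)
  · exact Or.inr (exists_open_of_dense_inter hirr hE hd)
  · left
    have : PreirreducibleSpace Y := Subtype.preirreducibleSpace hirr.2
    rw [IsNowhereDense]
    by_contra hne
    have hne' : (interior (closure (Subtype.val ⁻¹' E : Set Y))).Nonempty :=
      Set.nonempty_iff_ne_empty.mpr hne
    have hdense : Dense (interior (closure (Subtype.val ⁻¹' E : Set Y))) :=
      isOpen_interior.dense hne'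
    have hd2 : Dense (closure (Subtype.val ⁻¹' E : Set Y)) := hdense.mono interior_subset
    have hd3 : Dense (Subtype.val ⁻¹' E : Set Y) := by
      rw [dense_iff_closure_eq] at hd2 ⊢
      rwa [closure_closure] at hd2
    exact hd (dense_preimage_val_iff.mp hd3)

/-- S2398 (⇐) -/
theorem mem_nhds_of_forall_irreducible [NoetherianSpace X] (x : X) {E : Set X}
    (hE : IsConstructible E)
    (h : ∀ Y : Set X, IsClosed Y → IsIrreducible Y → x ∈ Y → Y ⊆ closure (E ∩ Y)) :
    E ∈ nhds x := by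
  have key : ∀ Y, IsClosed Y → x ∈ Y → ∃ W : Set X, IsOpen W ∧ x ∈ W ∧ W ∩ Y ⊆ E := by
    refine closed_induction (fun Y => x ∈ Y → ∃ W : Set X, IsOpen W ∧ x ∈ W ∧ W ∩ Y ⊆ E)
      (fun h => h.elim) ?_ ?_
    · intro Y₁ Y₂ hY₁ hY₂ h₁ h₂ hx
      by_cases hx₁ : x ∈ Y₁
      · by_cases hx₂ : x ∈ Y₂
        · obtain ⟨W₁, hW₁, hxW₁, hs₁⟩ := h₁ hx₁
          obtain ⟨W₂, hW₂, hxW₂, hs₂⟩ := h₂ hx₂
          refine ⟨W₁ ∩ W₂, hW₁.inter hW₂, ⟨hxW₁, hxW₂⟩, ?_⟩
          rintro y ⟨⟨hy₁, hy₂⟩, hy | hy⟩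
          · exact hs₁ ⟨hy₁, hy⟩
          · exact hs₂ ⟨hy₂, hy⟩
        · obtain ⟨W₁, hW₁, hxW₁, hs₁⟩ := h₁ hx₁
          refine ⟨W₁ ∩ Y₂ᶜ, hW₁.inter hY₂.isOpen_compl, ⟨hxW₁, hx₂⟩, ?_⟩
          rintro y ⟨⟨hy₁, hy₂⟩, hy | hy⟩
          · exact hs₁ ⟨hy₁, hy⟩
          · exact (hy₂ hy).elim
      · have hx₂ : x ∈ Y₂ := hx.resolve_left hx₁
        obtain ⟨W₂, hW₂, hxW₂, hs₂⟩ := h₂ hx₂
        refine ⟨W₂ ∩ Y₁ᶜ, hW₂.inter hY₁.isOpen_compl, ⟨hxW₂, hx₁⟩, ?_⟩
        rintro y ⟨⟨hy₁, hy₂⟩, hy | hy⟩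
        · exact (hy₂ hy).elim
        · exact hs₂ ⟨hy₁, hy⟩
    · intro Y hY hirr ih hx
      obtain ⟨U, hU, hUY, hUE⟩ := exists_open_of_dense_inter hirr hE (h Y hY hirr hx)
      by_cases hxU : x ∈ U
      · exact ⟨U, hU, hxU, hUE⟩
      · obtain ⟨W, hW, hxW, hs⟩ := ih _ (hY.inter hU.isClosed_compl) (diff_ssubset hUY) ⟨hx, hxU⟩
        refine ⟨W, hW, hxW, ?_⟩
        rintro y ⟨hyW, hyY⟩
        by_cases hyU : y ∈ U
        · exact hUE ⟨hyU, hyY⟩
        · exact hs ⟨hyW, hyY, hyU⟩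
  obtain ⟨W, hW, hxW, hs⟩ := key Set.univ isClosed_univ trivial
  rw [Set.inter_univ] at hs
  exact Filter.mem_of_superset (hW.mem_nhds hxW) hs

/-- S2397 -/
theorem exists_eq_univ_of_directed [NoetherianSpace X] {ι : Type v} [Preorder ι]
    [IsDirected ι (· ≤ ·)] [Nonempty ι] (E : ι → Set X) (hmono : Monotone E)
    (hE : ∀ a, IsConstructible (E a))
    (hirr : ∀ Y : Set X, IsClosed Y → IsIrreducible Y → ∃ a, Y ⊆ closure (E a ∩ Y)) :
    ∃ a, E a = Set.univ := by
  have key : ∀ Y, IsClosed Y → ∃ a, Y ⊆ E a := by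
    refine closed_induction (fun Y => ∃ a, Y ⊆ E a) ?_ ?_ ?_
    · exact ⟨Classical.arbitrary ι, Set.empty_subset _⟩
    · rintro Y₁ Y₂ _ _ ⟨a₁, h₁⟩ ⟨a₂, h₂⟩
      obtain ⟨c, hc₁, hc₂⟩ := exists_ge_ge a₁ a₂
      exact ⟨c, Set.union_subset (h₁.trans (hmono hc₁)) (h₂.trans (hmono hc₂))⟩
    · intro Y hY hirrY ih
      obtain ⟨a, ha⟩ := hirr Y hY hirrY
      obtain ⟨U, hU, hUY, hUE⟩ := exists_open_of_dense_inter hirrY (hE a) ha
      obtain ⟨b, hb⟩ := ih _ (hY.inter hU.isClosed_compl) (diff_ssubset hUY)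
      obtain ⟨c, hc₁, hc₂⟩ := exists_ge_ge a b
      refine ⟨c, fun y hyY => ?_⟩
      by_cases hyU : y ∈ U
      · exact hmono hc₁ (hUE ⟨hyU, hyY⟩)
      · exact hmono hc₂ (hb ⟨hyY, hyU⟩)
  obtain ⟨a, ha⟩ := key Set.univ isClosed_univ
  exact ⟨a, Set.eq_univ_of_univ_subset ha⟩

/-- S2400 (⇐) -/
theorem constructible_function_of_forall_irreducible [NoetherianSpace X] {T : Type v} (h : X → T)
    (hY : ∀ Y : Set X, IsClosed Y → IsIrreducible Y →
        ∃ U : Set X, IsOpen U ∧ (U ∩ Y).Nonempty ∧ ∀ a ∈ U ∩ Y, ∀ b ∈ U ∩ Y, h a = h b) :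
    (∀ t, IsConstructible (h ⁻¹' {t})) ∧ (Set.range h).Finite := by
  have key : ∀ Y, IsClosed Y → (∀ t, IsConstructible (h ⁻¹' {t} ∩ Y)) ∧ (h '' Y).Finite := by
    refine closed_induction (fun Y => (∀ t, IsConstructible (h ⁻¹' {t} ∩ Y)) ∧ (h '' Y).Finite)
      ?_ ?_ ?_
    · exact ⟨fun t => by simp, by simp⟩
    · rintro Y₁ Y₂ _ _ ⟨h₁, f₁⟩ ⟨h₂, f₂⟩
      refine ⟨fun t => ?_, ?_⟩
      · rw [Set.inter_union_distrib_left]; exact (h₁ t).union (h₂ t)
      · rw [Set.image_union]; exact f₁.union f₂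
    · intro Y hYc hirr ih
      obtain ⟨U, hU, hUY, hconst⟩ := hY Y hYc hirr
      obtain ⟨a₀, ha₀⟩ := hUY
      obtain ⟨h', f'⟩ := ih _ (hYc.inter hU.isClosed_compl) (diff_ssubset ⟨a₀, ha₀⟩)
      refine ⟨fun t => ?_, ?_⟩
      · have e : h ⁻¹' {t} ∩ Y = (h ⁻¹' {t} ∩ (Y ∩ Uᶜ)) ∪ (h ⁻¹' {t} ∩ (U ∩ Y)) := by
          ext y
          simp only [Set.mem_inter_iff, Set.mem_union, Set.mem_compl_iff]
          constructor
          · rintro ⟨hyt, hyY⟩
            by_cases hyU : y ∈ U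
            · exact Or.inr ⟨hyt, hyU, hyY⟩
            · exact Or.inl ⟨hyt, hyY, hyU⟩
          · rintro (⟨hyt, hyY, _⟩ | ⟨hyt, _, hyY⟩)
            · exact ⟨hyt, hyY⟩
            · exact ⟨hyt, hyY⟩
        rw [e]
        refine (h' t).union ?_
        by_cases ht : t = h a₀
        · have e2 : h ⁻¹' {t} ∩ (U ∩ Y) = U ∩ Y := by
            refine Set.inter_eq_right.mpr (fun y hy => ?_)
            rw [Set.mem_preimage, Set.mem_singleton_iff, ht]
            exact hconst y hy a₀ ha₀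
          rw [e2]; exact isConstructible_open_inter_closed hU hYc
        · have e2 : h ⁻¹' {t} ∩ (U ∩ Y) = ∅ := by
            rw [Set.eq_empty_iff_forall_notMem]
            rintro y ⟨hyt, hy⟩
            rw [Set.mem_preimage, Set.mem_singleton_iff] at hyt
            exact ht (hyt.symm.trans (hconst y hy a₀ ha₀))
          rw [e2]; exact IsConstructible.empty
      · refine (f'.union (Set.finite_singleton (h a₀))).subset ?_
        rintro _ ⟨y, hyY, rfl⟩
        by_cases hyU : y ∈ U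
        · exact Or.inr (Set.mem_singleton_iff.mpr (hconst y ⟨hyU, hyY⟩ a₀ ha₀))
        · exact Or.inl ⟨y, ⟨hyY, hyU⟩, rfl⟩
  obtain ⟨h1, h2⟩ := key Set.univ isClosed_univ
  refine ⟨fun t => ?_, ?_⟩
  · have := h1 t; rwa [Set.inter_univ] at this
  · rwa [Set.image_univ] at h2

/-- S2400 (⇒) -/
theorem forall_irreducible_of_constructible_function {T : Type v} (h : X → T)
    (hc : (∀ t, IsConstructible (h ⁻¹' {t})) ∧ (Set.range h).Finite)
    (Y : Set X) (hirr : IsIrreducible Y) :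
    ∃ U : Set X, IsOpen U ∧ (U ∩ Y).Nonempty ∧ ∀ a ∈ U ∩ Y, ∀ b ∈ U ∩ Y, h a = h b := by
  classical
  obtain ⟨hfib, hfin⟩ := hc
  have hcov : Y ⊆ ⋃₀ ((hfin.toFinset.image fun t => closure (h ⁻¹' {t} ∩ Y) : Finset (Set X)) :
      Set (Set X)) := by
    intro y hy
    refine Set.mem_sUnion.mpr ⟨closure (h ⁻¹' {h y} ∩ Y), ?_, subset_closure ⟨rfl, hy⟩⟩
    simp only [Finset.coe_image, Set.mem_image, Finset.mem_coe, Set.Finite.mem_toFinset]
    exact ⟨h y, ⟨y, rfl⟩, rfl⟩
  obtain ⟨c, hc, hYc⟩ := isIrreducible_iff_sUnion_isClosed.mp hirr _ (by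
    intro c hc
    simp only [Finset.mem_image] at hc
    obtain ⟨t, -, rfl⟩ := hc
    exact isClosed_closure) hcov
  simp only [Finset.mem_image] at hc
  obtain ⟨t, -, rfl⟩ := hc
  obtain ⟨U, hU, hUY, hUE⟩ := exists_open_of_dense_inter hirr (hfib t) hYc
  refine ⟨U, hU, hUY, fun a ha b hb => ?_⟩
  have h1 : h a = t := hUE ha
  have h2 : h b = t := hUE hb
  rw [h1, h2]

/-- generic points: trace of a set containing the generic point is dense -/
theorem subset_closure_inter_of_genericPoint {Y E : Set X} {y : X} (hy : IsGenericPoint y Y)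
    (hyE : y ∈ E) : Y ⊆ closure (E ∩ Y) := by
  have hyY : y ∈ Y := hy.mem
  intro z hz
  have hz' : z ∈ closure ({y} : Set X) := by rw [hy.def]; exact hz
  have hsub : ({y} : Set X) ⊆ E ∩ Y := Set.singleton_subset_iff.mpr ⟨hyE, hyY⟩
  exact closure_mono hsub hz'

/-- constructible + stable under generalization ⇒ open (Noetherian quasi-sober) -/
theorem isOpen_of_stableUnderGeneralization [NoetherianSpace X] [QuasiSober X] {E : Set X}
    (hE : IsConstructible E) (hg : StableUnderGeneralization E) : IsOpen E := by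
  apply isOpen_of_forall_irreducible
  intro Y hY hirr ⟨z, hzE, hzY⟩
  obtain ⟨y, hy⟩ := QuasiSober.sober hirr hY
  have hyz : y ⤳ z := hy.specializes hzY
  have hyE : y ∈ E := hg hyz hzE
  exact exists_open_of_dense_inter hirr hE (subset_closure_inter_of_genericPoint hy hyE)

end Groth.Agent.H17.NoethConstr
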