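import Groth.Prelude.Def_ProCons
import Mathlib.Topology.Spectral.ConstructibleTopology
import Mathlib.Topology.Constructible
import Mathlib.Topology.Spectral.Prespectral
import Mathlib.Topology.QuasiSeparated

set_option autoImplicit false
open Topology Set

namespace Groth.Agent.H17

variable {X Y : Type*} [TopologicalSpace X] [TopologicalSpace Y]

theorem isLocallyConstructible_compl {s : Set X} (hs : IsLocallyConstructible s) :
    IsLocallyConstructible sᶜ := by
  intro x
  obtain ⟨U, hU, hUo, hc⟩ := hs x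
  refine ⟨U, hU, hUo, ?_⟩
  have : ((Subtype.val : ↥U → X) ⁻¹' sᶜ) = ((Subtype.val : ↥U → X) ⁻¹' s)ᶜ := rfl
  rw [this]
  exact hc.compl

theorem isProConstructible_iff_compl {E : Set X} :
    ProCons.IsProConstructible E ↔ ProCons.IsIndConstructible Eᶜ := by
  constructor
  · intro h x
    obtain ⟨U, hU, hxU, S, hS, hES⟩ := h x
    refine ⟨U, hU, hxU, compl '' S, ?_, ?_⟩
    · rintro _ ⟨T, hT, rfl⟩
      exact isLocallyConstructible_compl (hS T hT)
    · rw [preimage_compl, hES, compl_sInter]
  · intro h x
    obtain ⟨U, hU, hxU, S, hS, hES⟩ := h x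
    refine ⟨U, hU, hxU, compl '' S, ?_, ?_⟩
    · rintro _ ⟨T, hT, rfl⟩
      exact isLocallyConstructible_compl (hS T hT)
    · rw [← compl_sUnion, ← hES, preimage_compl, compl_compl]

theorem isIndConstructible_iff_compl {E : Set X} :
    ProCons.IsIndConstructible E ↔ ProCons.IsProConstructible Eᶜ := by
  rw [isProConstructible_iff_compl, compl_compl]

theorem isIndConstructible_preimage {E : Set X} (hE : ProCons.IsIndConstructible E)
    {j : Y → X} (hj : IsOpenEmbedding j) : ProCons.IsIndConstructible (j ⁻¹' E) := by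
  intro y
  obtain ⟨U, hU, hxU, S, hS, hES⟩ := hE (j y)
  refine ⟨j ⁻¹' U, hU.preimage hj.continuous, hxU, (fun T => (U.restrictPreimage j) ⁻¹' T) '' S, ?_, ?_⟩
  · rintro _ ⟨T, hT, rfl⟩
    exact (hS T hT).preimage_of_isOpenEmbedding (hj.restrictPreimage U)
  · have : (Subtype.val ⁻¹' (j ⁻¹' E) : Set ↥(j ⁻¹' U)) =
        (U.restrictPreimage j) ⁻¹' (Subtype.val ⁻¹' E) := rfl
    rw [this, hES, preimage_sUnion]
    ext z
    simp only [mem_iUnion, mem_preimage, sUnion_image, exists_prop]

theorem isProConstructible_preimage {E : Set X} (hE : ProCons.IsProConstructible E)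
    {j : Y → X} (hj : IsOpenEmbedding j) : ProCons.IsProConstructible (j ⁻¹' E) := by
  rw [isProConstructible_iff_compl] at hE ⊢
  exact isIndConstructible_preimage hE hj

theorem isIndConstructible_of_eq_sUnion {E : Set X} (S : Set (Set X))
    (hS : ∀ T ∈ S, IsLocallyConstructible T) (hE : E = ⋃₀ S) : ProCons.IsIndConstructible E := by
  intro x
  refine ⟨univ, isOpen_univ, mem_univ x, (fun T => (Subtype.val : ↥(univ : Set X) → X) ⁻¹' T) '' S, ?_, ?_⟩
  · rintro _ ⟨T, hT, rfl⟩
    exact (hS T hT).preimage_of_isOpenEmbedding isOpen_univ.isOpenEmbedding_subtypeVal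
  · rw [hE, preimage_sUnion]
    ext z
    simp only [mem_iUnion, mem_preimage, sUnion_image, exists_prop]

theorem isProConstructible_of_eq_sInter {E : Set X} (S : Set (Set X))
    (hS : ∀ T ∈ S, IsLocallyConstructible T) (hE : E = ⋂₀ S) : ProCons.IsProConstructible E := by
  rw [isProConstructible_iff_compl]
  refine isIndConstructible_of_eq_sUnion (compl '' S) ?_ ?_
  · rintro _ ⟨T, hT, rfl⟩
    exact isLocallyConstructible_compl (hS T hT)
  · rw [hE, compl_sInter]

/-- In a prespectral quasi-separated space an ind-constructible set is a union of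
constructible sets. -/
theorem exists_eq_sUnion_of_isIndConstructible [PrespectralSpace X] [QuasiSeparatedSpace X]
    {E : Set X} (hE : ProCons.IsIndConstructible E) :
    ∃ S : Set (Set X), (∀ T ∈ S, IsConstructible T) ∧ E = ⋃₀ S := by
  refine ⟨{T | IsConstructible T ∧ T ⊆ E}, fun T hT => hT.1, ?_⟩
  apply subset_antisymm
  · intro e he
    obtain ⟨U, hU, heU, S, hS, hES⟩ := hE e
    have he' : (⟨e, heU⟩ : ↥U) ∈ (Subtype.val ⁻¹' E : Set ↥U) := he
    rw [hES] at he'
    obtain ⟨T, hTS, heT⟩ := he'
    have hTE : T ⊆ Subtype.val ⁻¹' E := by rw [hES]; exact subset_sUnion_of_mem hTS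
    obtain ⟨V, ⟨hV₁, hV₂⟩, heV, hVU⟩ :=
      PrespectralSpace.isTopologicalBasis.mem_nhds_iff.mp (hU.mem_nhds heU)
    let ι : ↥V → ↥U := inclusion hVU
    have hι : IsOpenEmbedding ι := IsOpenEmbedding.id.restrict hVU hV₁
    have hTV : IsLocallyConstructible (ι ⁻¹' T) := (hS T hTS).preimage_of_isOpenEmbedding hι
    have : CompactSpace ↥V := isCompact_iff_compactSpace.mp hV₂
    have : PrespectralSpace ↥V := hV₁.isOpenEmbedding_subtypeVal.prespectralSpace
    have : QuasiSeparatedSpace ↥V := hV₁.isOpenEmbedding_subtypeVal.quasiSeparatedSpace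
    have hc : IsConstructible (ι ⁻¹' T) := hTV.isConstructible
    have hc' : IsConstructible ((Subtype.val : ↥V → X) '' (ι ⁻¹' T)) :=
      hc.image_of_isOpenEmbedding hV₁.isOpenEmbedding_subtypeVal
        (by simpa using hV₂.isRetrocompact hV₁)
    refine ⟨_, ⟨hc', ?_⟩, ⟨⟨e, heV⟩, heT, rfl⟩⟩
    rintro _ ⟨z, hz, rfl⟩
    exact hTE hz
  · exact sUnion_subset fun T hT => hT.2

theorem exists_eq_sInter_of_isProConstructible [PrespectralSpace X] [QuasiSeparatedSpace X]
    {E : Set X} (hE : ProCons.IsProConstructible E) :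
    ∃ S : Set (Set X), (∀ T ∈ S, IsConstructible T) ∧ E = ⋂₀ S := by
  rw [isProConstructible_iff_compl] at hE
  obtain ⟨S, hS, hES⟩ := exists_eq_sUnion_of_isIndConstructible hE
  refine ⟨compl '' S, ?_, ?_⟩
  · rintro _ ⟨T, hT, rfl⟩
    exact (hS T hT).compl
  · rw [← compl_sUnion, ← hES, compl_compl]

/-! ### The constructible topology -/

section Generic
variable {Z : Type*} (t : TopologicalSpace Z)

theorem gen_union {a b : Set Z} (ha : IsOpen[t] a) (hb : IsOpen[t] b) : IsOpen[t] (a ∪ b) :=
  IsOpen.union ha hb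

theorem gen_inter {a b : Set Z} (ha : IsOpen[t] a) (hb : IsOpen[t] b) : IsOpen[t] (a ∩ b) :=
  IsOpen.inter ha hb

theorem gen_sUnion {S : Set (Set Z)} (h : ∀ a ∈ S, IsOpen[t] a) : IsOpen[t] (⋃₀ S) :=
  isOpen_sUnion h

theorem gen_isClosed_of_compl {a : Set Z} (h : IsOpen[t] aᶜ) : IsClosed[t] a :=
  ⟨h⟩

theorem gen_finite_subfamily (hc : @CompactSpace Z t) {ι : Type*} (F : ι → Set Z)
    (hF : ∀ i, IsClosed[t] (F i)) (E : Set Z) (hE : IsOpen[t] E) (h : ⋂ i, F i ⊆ E) :
    ∃ J : Finset ι, ⋂ i ∈ J, F i ⊆ E := by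
  have hEc : IsCompact Eᶜ := hE.isClosed_compl.isCompact
  have hempty : Eᶜ ∩ ⋂ i, F i = ∅ := by
    rw [← disjoint_iff_inter_eq_empty, disjoint_compl_left_iff_subset]
    exact h
  obtain ⟨u, hu⟩ := hEc.elim_finite_subfamily_closed F hF hempty
  refine ⟨u, ?_⟩
  rw [← disjoint_iff_inter_eq_empty, disjoint_compl_left_iff_subset] at hu
  exact hu

end Generic

theorem isClopen_constructibleTopology_of_isConstructible [CompactSpace X] {s : Set X}
    (hs : IsConstructible s) :
    IsOpen[constructibleTopology X] s ∧ IsOpen[constructibleTopology X] sᶜ := by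
  induction hs using IsConstructible.empty_union_induction with
  | open_retrocompact U hUopen hUcomp =>
    refine ⟨hUcomp.isCompact.isOpen_constructibleTopology_of_isOpen hUopen, ?_⟩
    apply IsCompact.isOpen_constructibleTopology_of_isClosed
    · rw [compl_compl]; exact hUcomp.isCompact
    · exact hUopen.isClosed_compl
  | union s _ t _ hs' ht' =>
    refine ⟨gen_union _ hs'.1 ht'.1, ?_⟩
    rw [compl_union]
    exact gen_inter _ hs'.2 ht'.2
  | compl s _ hs' =>
    refine ⟨hs'.2, ?_⟩
    rw [compl_compl]; exact hs'.1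

theorem compactSpace_constructibleTopology [CompactSpace X] [QuasiSober X] [PrespectralSpace X]
    [QuasiSeparatedSpace X] : @CompactSpace X (constructibleTopology X) :=
  @Function.Surjective.compactSpace (WithConstructibleTopology X) X _ (constructibleTopology X)
    WithTopology.ofTopology (WithTopology.continuous_ofTopology _) _
    (WithTopology.ofTopology_surjective _)

theorem isOpen_constructibleTopology_of_isIndConstructible [CompactSpace X] [PrespectralSpace X]
    [QuasiSeparatedSpace X] {E : Set X} (hE : ProCons.IsIndConstructible E) :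
    IsOpen[constructibleTopology X] E := by
  obtain ⟨S, hS, rfl⟩ := exists_eq_sUnion_of_isIndConstructible hE
  exact gen_sUnion _
    fun T hT => (isClopen_constructibleTopology_of_isConstructible (hS T hT)).1

theorem isClosed_constructibleTopology_of_isProConstructible [CompactSpace X] [PrespectralSpace X]
    [QuasiSeparatedSpace X] {E : Set X} (hE : ProCons.IsProConstructible E) :
    IsClosed[constructibleTopology X] E := by
  rw [isProConstructible_iff_compl] at hE
  exact gen_isClosed_of_compl _ (isOpen_constructibleTopology_of_isIndConstructible hE)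

/-- Compactness of the constructible topology, in the form used for pro/ind-constructible sets. -/
theorem exists_finset_biInter_subset [CompactSpace X] [QuasiSober X] [PrespectralSpace X]
    [QuasiSeparatedSpace X] {ι : Type*} (F : ι → Set X)
    (hF : ∀ i, IsClosed[constructibleTopology X] (F i)) (E : Set X)
    (hE : IsOpen[constructibleTopology X] E) (h : ⋂ i, F i ⊆ E) :
    ∃ J : Finset ι, ⋂ i ∈ J, F i ⊆ E :=
  gen_finite_subfamily _ compactSpace_constructibleTopology F hF E hE h

end Groth.Agent.H17
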