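import Mathlib
import Groth.Agent.S0563
import Groth.Agent.S0604
import Groth.Agent.S0341
import Groth.Agent.S0342
import Groth.Agent.S2612
import Groth.Agent.H29.CM
import Groth.Agent.H29.CM2
import Groth.Agent.H54.AffineDim2

/-!
# Maximal Cohen–Macaulay modules over regular local rings are free
-/

set_option autoImplicit false
set_option linter.style.haveILetI false
universe u

namespace Groth.Agent.H17.CMFree

open CategoryTheory IsLocalRing

/-- full support passes to localizations (general `IsLocalizedModule` form) -/
theorem support_eq_univ_of_isLocalizedModule {A : Type*} [CommRing A] (S : Submonoid A)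
    {R : Type*} [CommRing R] [Algebra A R] [IsLocalization S R]
    {N M : Type*} [AddCommGroup N] [AddCommGroup M] [Module A N] [Module A M] [Module R M]
    [IsScalarTower A R M] (f : N →ₗ[A] M) [IsLocalizedModule S f]
    (h : Module.support A N = Set.univ) : Module.support R M = Set.univ := by
  rw [Set.eq_univ_iff_forall]
  intro Q
  have hq : PrimeSpectrum.comap (algebraMap A R) Q ∈ Module.support A N := by
    rw [h]; exact Set.mem_univ _
  rw [Module.mem_support_iff_exists_annihilator] at hq ⊢
  obtain ⟨n, hn⟩ := hq
  refine ⟨f n, ?_⟩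
  intro r hr
  obtain ⟨⟨a, s⟩, has⟩ := IsLocalization.surj S r
  simp only at has
  have hsQ : algebraMap A R s ∉ Q.asIdeal := fun hmem =>
    Q.isPrime.ne_top (Ideal.eq_top_of_isUnit_mem _ hmem (IsLocalization.map_units R s))
  have ha0 : a • f n = 0 := by
    have h1 : (algebraMap A R a) • f n = 0 := by
      rw [← has, mul_comm, mul_smul]
      have h2 : r • f n = 0 := by
        have := hr
        rw [Submodule.mem_annihilator_span_singleton] at this
        exact this
      rw [h2, smul_zero]
    rwa [algebraMap_smul] at h1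
  rw [← map_smul, IsLocalizedModule.eq_zero_iff S] at ha0
  obtain ⟨t, ht⟩ := ha0
  have hta : (t : A) * a ∈ (PrimeSpectrum.comap (algebraMap A R) Q).asIdeal := by
    apply hn
    rw [Submodule.mem_annihilator_span_singleton, mul_smul]
    exact ht
  have htQ : algebraMap A R (t : A) ∉ Q.asIdeal := fun hmem =>
    Q.isPrime.ne_top (Ideal.eq_top_of_isUnit_mem _ hmem (IsLocalization.map_units R t))
  have h3 : algebraMap A R ((t : A) * a) ∈ Q.asIdeal := hta
  rw [map_mul] at h3
  have h4 : algebraMap A R a ∈ Q.asIdeal := (Q.isPrime.mem_or_mem h3).resolve_left htQ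
  rw [← has] at h4
  exact (Q.isPrime.mem_or_mem h4).resolve_right hsQ

variable (R : Type u) [CommRing R] [IsRegularLocalRing R]

theorem ringKrullDim_eq_depth_self :
    ringKrullDim R = ((LocCoh.depth R R : ℕ∞) : WithBot ℕ∞) := by
  haveI : LocCoh.IsGorensteinLocalRing R := Groth.Agent.S0342.result R
  have hCM := (Groth.Agent.S0341.result R).supportDim_eq_depth
  rwa [Module.supportDim_self_eq_ringKrullDim] at hCM

/-- a maximal Cohen–Macaulay module over a regular local ring is free -/
theorem free_of_isCM_of_supportDim_eq (M : Type u) [AddCommGroup M] [Module R M]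
    [Module.Finite R M] [Nontrivial M] (hCM : LocCoh.IsCohenMacaulayModule R M)
    (hdim : Module.supportDim R M = ringKrullDim R) : Module.Free R M := by
  have hd : ringKrullDim R = ((maximalIdeal R).spanFinrank : WithBot ℕ∞) :=
    (IsRegularLocalRing.spanFinrank_maximalIdeal (R := R)).symm
  have hpd := Groth.Agent.S0563.result R _ hd M
  have hpdlt := projectiveDimension_lt_iff.mpr hpd
  have hpdbot : projectiveDimension (ModuleCat.of R M) ≠ ⊥ := by
    rw [Ne, projectiveDimension_eq_bot_iff]
    intro hz
    exact not_subsingleton M (ModuleCat.isZero_iff_subsingleton.mp hz)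
  obtain ⟨e, he⟩ := Groth.Agent.H54.exists_nat_eq_of_le hpdbot hpdlt.le
  have hAB := Groth.Agent.S0604.result R M e he
  have hR := ringKrullDim_eq_depth_self R
  have hM : Module.supportDim R M = ((LocCoh.depth R M : ℕ∞) : WithBot ℕ∞) := hCM
  have h1 : LocCoh.depth R R = ((maximalIdeal R).spanFinrank : ℕ∞) := by
    have : ((LocCoh.depth R R : ℕ∞) : WithBot ℕ∞) =
        (((maximalIdeal R).spanFinrank : ℕ∞) : WithBot ℕ∞) := by
      rw [← hR, hd]; rfl
    exact WithBot.coe_injective this
  have h2 : LocCoh.depth R M = ((maximalIdeal R).spanFinrank : ℕ∞) := by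
    have : ((LocCoh.depth R M : ℕ∞) : WithBot ℕ∞) =
        (((maximalIdeal R).spanFinrank : ℕ∞) : WithBot ℕ∞) := by
      rw [← hM, hdim, hd]; rfl
    exact WithBot.coe_injective this
  rw [h1, h2] at hAB
  have he0 : e = 0 := by
    have h3 : (maximalIdeal R).spanFinrank = e + (maximalIdeal R).spanFinrank := by
      exact_mod_cast hAB
    omega
  rw [he0, Nat.cast_zero, projectiveDimension_eq_zero_iff] at he
  haveI : Module.Projective R M := (IsProjective.iff_projective M).mpr he.1
  exact Module.free_of_flat_of_isLocalRing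

/-- a free module of positive finite rank over a regular local ring is Cohen–Macaulay -/
theorem isCM_of_equiv_pi (M : Type u) [AddCommGroup M] [Module R M] (n : ℕ) (hn : 0 < n)
    (e : M ≃ₗ[R] (Fin n → R)) : LocCoh.IsCohenMacaulayModule R M := by
  haveI : Nonempty (Fin n) := ⟨⟨0, hn⟩⟩
  haveI : Module.Finite R M := Module.Finite.equiv e.symm
  haveI : Nontrivial M := e.toEquiv.nontrivial
  have h1 : LocCoh.depth R R ≤ LocCoh.depth R M := by
    unfold LocCoh.depth
    rw [Groth.Agent.H29.CM.idealDepth_congr e]
    exact Groth.Agent.S2612.le_depth_pi (maximalIdeal R) R _ le_rfl n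
  apply le_antisymm
  · calc Module.supportDim R M ≤ ringKrullDim R := Module.supportDim_le_ringKrullDim R M
      _ = ((LocCoh.depth R R : ℕ∞) : WithBot ℕ∞) := ringKrullDim_eq_depth_self R
      _ ≤ ((LocCoh.depth R M : ℕ∞) : WithBot ℕ∞) := WithBot.coe_le_coe.mpr h1
  · exact Groth.Agent.H29.CM.depth_le_supportDim

end Groth.Agent.H17.CMFree
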