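import Mathlib
import Groth.Agent.H95.TildeBridge

/-!
# Relative Hartogs extension: restriction of sections of a coherent module is bijective when the
depth is at least two along the complement.
-/

set_option autoImplicit false
set_option linter.style.haveILetI false
universe u
open CategoryTheory CategoryTheory.Limits AlgebraicGeometry TopologicalSpace Opposite

namespace Groth.Agent.H17.Hartogs

open Groth.Agent.H95.ZClos Groth.Agent.H95.TB

variable {X : Scheme.{u}} [IsLocallyNoetherian X] (F : X.Modules)

/-- if `depth F_x ≥ 2` at all points of `V` outside `U`, then `F(V) → F(V ⊓ U)` is bijective. -/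
theorem res_bijective_of_depth (hF : Coh.IsCoh F) (U V : X.Opens)
    (h : ∀ x : X, x ∈ V → x ∉ U →
      (2 : ℕ∞) ≤ LocCoh.depth (X.presheaf.stalk x) (F.presheaf.stalk x)) :
    Function.Bijective (res F U V) := by
  have haff : ∀ W : X.Opens, IsAffineOpen W → W ≤ V → Function.Bijective (res F U W) :=
    fun W hW hWV => res_bijective_affine_of_depth hW F hF U (fun x hxW hxU => h x (hWV hxW) hxU)
  have hinj : ∀ W : X.Opens, W ≤ V → Function.Injective (res F U W) := fun W hWV =>
    res_injective_of_cover F U W (fun i : AffIn W => i.1) (fun i => i.2.2) (le_iSup_affIn W)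
      (fun i => (haff i.1 i.2.1 (i.2.2.trans hWV)).1)
  exact res_bijective_of_cover F U V (fun i : AffIn V => i.1) (fun i => i.2.2) (le_iSup_affIn V)
    (fun i => haff i.1 i.2.1 i.2.2) (fun k l => hinj _ (inf_le_left.trans k.2.2))

/-- the same for a pair of opens `V ≤ U`. -/
theorem map_bijective_of_depth (hF : Coh.IsCoh F) {U V : X.Opens} (hVU : V ≤ U)
    (h : ∀ x : X, x ∈ U → x ∉ V →
      (2 : ℕ∞) ≤ LocCoh.depth (X.presheaf.stalk x) (F.presheaf.stalk x)) :
    Function.Bijective (F.presheaf.map (homOfLE hVU).op) := by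
  have h1 := res_bijective_of_depth F hF V U h
  have e : U ⊓ V = V := inf_eq_right.mpr hVU
  exact (bij_congr₂ F.presheaf rfl e (homOfLE (inf_le_left : U ⊓ V ≤ U)) (homOfLE hVU)).mp h1

end Groth.Agent.H17.Hartogs
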