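import Mathlib
import Groth.Agent.H17.CMFree
import Groth.Agent.H29.KollarFlat2

/-!
# Reflexive modules over regular local rings of dimension `≤ 2` are free
-/

set_option autoImplicit false
set_option linter.style.haveILetI false
universe u

namespace Groth.Agent.H17.ReflFree

open CategoryTheory IsLocalRing Module

theorem finite_dual (R : Type u) [CommRing R] [IsNoetherianRing R] (M : Type u) [AddCommGroup M]
    [Module R M] [Module.Finite R M] : Module.Finite R (Module.Dual R M) := by
  obtain ⟨n, π, hπ⟩ := Module.Finite.exists_fin' R M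
  haveI : IsNoetherian R (Module.Dual R (Fin n → R)) := isNoetherian_of_isNoetherianRing_of_finite R _
  exact Module.Finite.of_injective π.dualMap (LinearMap.dualMap_injective_of_surjective hπ)

variable (R : Type u) [CommRing R] [IsRegularLocalRing R]

theorem depth_le_depth_free (F : Type u) [AddCommGroup F] [Module R F] [Module.Finite R F]
    [Module.Free R F] : LocCoh.depth R R ≤ LocCoh.depth R F := by
  have e := (Module.finBasis R F).equivFun
  unfold LocCoh.depth
  rw [Groth.Agent.H29.CM.idealDepth_congr e]
  exact Groth.Agent.S2612.le_depth_pi (maximalIdeal R) R _ le_rfl _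

/-- a reflexive finite module over a regular local ring of dimension `≤ 2` has depth `≥ dim R` -/
theorem le_depth_of_isReflexive (d : ℕ) (hd : ringKrullDim R = d) (hd2 : d ≤ 2) (M : Type u)
    [AddCommGroup M] [Module R M] [Module.Finite R M] [Module.IsReflexive R M] :
    (d : ℕ∞) ≤ LocCoh.depth R M := by
  have hR : LocCoh.depth R R = (d : ℕ∞) := by
    have h1 := Groth.Agent.H17.CMFree.ringKrullDim_eq_depth_self R
    rw [hd] at h1
    have h2 : (((d : ℕ∞)) : WithBot ℕ∞) = ((LocCoh.depth R R : ℕ∞) : WithBot ℕ∞) := h1
    exact (WithBot.coe_injective h2).symm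
  haveI := finite_dual R M
  haveI := finite_dual R (Module.Dual R M)
  obtain ⟨b, π, hπ⟩ := Module.Finite.exists_fin' R (Module.Dual R M)
  obtain ⟨a, ρ, hρ⟩ := Module.Finite.exists_fin' R (LinearMap.ker π)
  have hfX₂ : (d : ℕ∞) ≤ LocCoh.depth R (Module.Dual R (Fin b → R)) := by
    rw [← hR]; exact depth_le_depth_free R _
  have hfA : (d : ℕ∞) ≤ LocCoh.depth R (Module.Dual R (Fin a → R)) := by
    rw [← hR]; exact depth_le_depth_free R _
  have hf : Function.Injective π.dualMap := LinearMap.dualMap_injective_of_surjective hπ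
  have hexact : Function.Exact π.dualMap (LinearMap.ker π).subtype.dualMap.rangeRestrict := by
    rw [LinearMap.exact_iff, LinearMap.ker_rangeRestrict,
      LinearMap.ker_dualMap_eq_dualAnnihilator_range, Submodule.range_subtype,
      LinearMap.range_dualMap_eq_dualAnnihilator_ker_of_surjective π hπ]
  have hsurj : Function.Surjective (LinearMap.ker π).subtype.dualMap.rangeRestrict :=
    LinearMap.surjective_rangeRestrict _
  have hι : Function.Injective
      (ρ.dualMap ∘ₗ (LinearMap.range (LinearMap.ker π).subtype.dualMap).subtype) :=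
    (LinearMap.dualMap_injective_of_surjective hρ).comp (Submodule.subtype_injective _)
  have hX₁ : (d : ℕ∞) ≤ LocCoh.depth R (Module.Dual R (Module.Dual R M)) := by
    unfold LocCoh.depth at hfX₂ hfA ⊢
    obtain rfl | rfl | rfl : d = 0 ∨ d = 1 ∨ d = 2 := by omega
    · rw [Nat.cast_zero]
      exact bot_le
    · have h2 : (1 : ℕ∞) ≤ LocCoh.idealDepth (maximalIdeal R) (Module.Dual R (Fin b → R)) := by
        exact_mod_cast hfX₂
      have h := Groth.Agent.H29.KollarFlat.one_le_idealDepth_of_injective (maximalIdeal R)
        π.dualMap hf h2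
      exact_mod_cast h
    · have hA1 : (1 : ℕ∞) ≤ LocCoh.idealDepth (maximalIdeal R) (Module.Dual R (Fin a → R)) := by
        refine le_trans ?_ hfA
        norm_num
      have h3 : (1 : ℕ∞) ≤ LocCoh.idealDepth (maximalIdeal R)
          (LinearMap.range (LinearMap.ker π).subtype.dualMap) :=
        Groth.Agent.H29.KollarFlat.one_le_idealDepth_of_injective (maximalIdeal R)
          (ρ.dualMap ∘ₗ (LinearMap.range (LinearMap.ker π).subtype.dualMap).subtype) hι hA1
      have h2 : (((1 + 1 : ℕ)) : ℕ∞) ≤
          LocCoh.idealDepth (maximalIdeal R) (Module.Dual R (Fin b → R)) := by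
        exact_mod_cast hfX₂
      have h3' : ((1 : ℕ) : ℕ∞) ≤ LocCoh.idealDepth (maximalIdeal R)
          (LinearMap.range (LinearMap.ker π).subtype.dualMap) := by
        exact_mod_cast h3
      have h := Groth.Agent.H29.KollarFlat.le_idealDepth_ker (maximalIdeal R) π.dualMap
        (LinearMap.ker π).subtype.dualMap.rangeRestrict hf hexact hsurj 1 h2 h3'
      exact_mod_cast h
  unfold LocCoh.depth at hX₁ ⊢
  rwa [Groth.Agent.H29.CM.idealDepth_congr (Module.evalEquiv R M)]

/-- a reflexive finite module over a regular local ring of dimension `≤ 2` is free -/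
theorem free_of_isReflexive_of_dim_le_two (hd2 : ringKrullDim R ≤ 2) (M : Type u)
    [AddCommGroup M] [Module R M] [Module.Finite R M] [Module.IsReflexive R M] :
    Module.Free R M := by
  rcases subsingleton_or_nontrivial M with hs | hn
  · exact Module.Free.of_subsingleton R M
  have hd : ringKrullDim R = ((maximalIdeal R).spanFinrank : WithBot ℕ∞) :=
    (IsRegularLocalRing.spanFinrank_maximalIdeal (R := R)).symm
  have hd2' : (maximalIdeal R).spanFinrank ≤ 2 := by
    rw [hd] at hd2
    exact_mod_cast hd2
  have hge := le_depth_of_isReflexive R _ hd hd2' M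
  have hpd := Groth.Agent.S0563.result R _ hd M
  have hpdlt := projectiveDimension_lt_iff.mpr hpd
  have hpdbot : projectiveDimension (ModuleCat.of R M) ≠ ⊥ := by
    rw [Ne, projectiveDimension_eq_bot_iff]
    intro hz
    exact not_subsingleton M (ModuleCat.isZero_iff_subsingleton.mp hz)
  obtain ⟨e, he⟩ := Groth.Agent.H54.exists_nat_eq_of_le hpdbot hpdlt.le
  have hAB := Groth.Agent.S0604.result R M e he
  have hR : LocCoh.depth R R = ((maximalIdeal R).spanFinrank : ℕ∞) := by
    have h1 := Groth.Agent.H17.CMFree.ringKrullDim_eq_depth_self R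
    rw [hd] at h1
    have h2 : ((((maximalIdeal R).spanFinrank : ℕ∞)) : WithBot ℕ∞) =
        ((LocCoh.depth R R : ℕ∞) : WithBot ℕ∞) := h1
    exact (WithBot.coe_injective h2).symm
  rw [hR] at hAB
  have hx : LocCoh.depth R M = ((maximalIdeal R).spanFinrank : ℕ∞) := by
    apply le_antisymm _ hge
    rw [hAB]
    exact le_add_self
  rw [hx] at hAB
  have he0 : e = 0 := by
    have h3 : (maximalIdeal R).spanFinrank = e + (maximalIdeal R).spanFinrank := by
      exact_mod_cast hAB
    omega
  rw [he0, Nat.cast_zero, projectiveDimension_eq_zero_iff] at he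
  haveI : Module.Projective R M := (IsProjective.iff_projective M).mpr he.1
  exact Module.free_of_flat_of_isLocalRing

end Groth.Agent.H17.ReflFree
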