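import Mathlib
import Groth.Agent.H17.ReflFree
import Groth.Agent.S2612

/-!
# Reflexive modules over a Noetherian local ring of depth `≥ 2` have depth `≥ 2`
-/

set_option autoImplicit false
set_option linter.style.haveILetI false
universe u

namespace Groth.Agent.H17.ReflDepth

open IsLocalRing Module Groth.Agent.H17.ReflFree

variable (R : Type u) [CommRing R] [IsLocalRing R] [IsNoetherianRing R]

theorem depth_le_depth_free' (F : Type u) [AddCommGroup F] [Module R F] [Module.Finite R F]
    [Module.Free R F] : LocCoh.depth R R ≤ LocCoh.depth R F := by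
  have e := (Module.finBasis R F).equivFun
  unfold LocCoh.depth
  rw [Groth.Agent.H29.CM.idealDepth_congr e]
  exact Groth.Agent.S2612.le_depth_pi (maximalIdeal R) R _ le_rfl _

/-- a reflexive finite module over a Noetherian local ring of depth `≥ 2` has depth `≥ 2`. -/
theorem two_le_depth_of_isReflexive (hR : (2 : ℕ∞) ≤ LocCoh.depth R R) (M : Type u)
    [AddCommGroup M] [Module R M] [Module.Finite R M] [Module.IsReflexive R M] :
    (2 : ℕ∞) ≤ LocCoh.depth R M := by
  haveI := finite_dual R M
  haveI := finite_dual R (Module.Dual R M)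
  obtain ⟨b, π, hπ⟩ := Module.Finite.exists_fin' R (Module.Dual R M)
  obtain ⟨a, ρ, hρ⟩ := Module.Finite.exists_fin' R (LinearMap.ker π)
  have hfX₂ : (2 : ℕ∞) ≤ LocCoh.depth R (Module.Dual R (Fin b → R)) :=
    hR.trans (depth_le_depth_free' R _)
  have hfA : (2 : ℕ∞) ≤ LocCoh.depth R (Module.Dual R (Fin a → R)) :=
    hR.trans (depth_le_depth_free' R _)
  have hf : Function.Injective π.dualMap := LinearMap.dualMap_injective_of_surjective hπ
  have hexact : Function.Exact π.dualMap (LinearMap.ker π).subtype.dualMap.rangeRestrict := by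
    rw [LinearMap.exact_iff, LinearMap.ker_rangeRestrict,
      LinearMap.ker_dualMap_eq_dualAnnihilator_range, Submodule.range_subtype,
      LinearMap.range_dualMap_eq_dualAnnihilator_ker_of_surjective π hπ]
  have hsurj : Function.Surjective (LinearMap.ker π).subtype.dualMap.rangeRestrict :=
    LinearMap.surjective_rangeRestrict _
  have hι : Function.Injective
      (ρ.dualMap ∘ₗ (LinearMap.range (LinearMap.ker π).subtype.dualMap).subtype) :=
    (LinearMap.dualMap_injective_of_surjective hρ).comp (Submodule.subtype_injective _)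
  have hX₁ : (2 : ℕ∞) ≤ LocCoh.depth R (Module.Dual R (Module.Dual R M)) := by
    unfold LocCoh.depth at hfX₂ hfA ⊢
    have hA1 : (1 : ℕ∞) ≤ LocCoh.idealDepth (maximalIdeal R) (Module.Dual R (Fin a → R)) := by
      refine le_trans ?_ hfA
      norm_num
    have h3 : (1 : ℕ∞) ≤ LocCoh.idealDepth (maximalIdeal R)
        (LinearMap.range (LinearMap.ker π).subtype.dualMap) :=
      Groth.Agent.H29.KollarFlat.one_le_idealDepth_of_injective (maximalIdeal R)
        (ρ.dualMap ∘ₗ (LinearMap.range (LinearMap.ker π).subtype.dualMap).subtype) hι hA1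
    have h2 : (((1 + 1 : ℕ)) : ℕ∞) ≤
        LocCoh.idealDepth (maximalIdeal R) (Module.Dual R (Fin b → R)) := by
      exact_mod_cast hfX₂
    have h3' : ((1 : ℕ) : ℕ∞) ≤ LocCoh.idealDepth (maximalIdeal R)
        (LinearMap.range (LinearMap.ker π).subtype.dualMap) := by
      exact_mod_cast h3
    have h := Groth.Agent.H29.KollarFlat.le_idealDepth_ker (maximalIdeal R) π.dualMap
      (LinearMap.ker π).subtype.dualMap.rangeRestrict hf hexact hsurj 1 h2 h3'
    exact_mod_cast h
  unfold LocCoh.depth at hX₁ ⊢
  rwa [Groth.Agent.H29.CM.idealDepth_congr (Module.evalEquiv R M)]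

end Groth.Agent.H17.ReflDepth
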