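import Mathlib

/-!
# Reflexivity of duals and of modules of homomorphisms over a Noetherian domain
-/

set_option autoImplicit false
universe u

namespace Groth.Agent.H17.ReflHom

open Module

variable (R : Type u) [CommRing R] [IsDomain R] [IsNoetherianRing R]
variable (H : Type u) [AddCommGroup H] [Module R H] [Module.Finite R H]

/-- a finite module over a Noetherian domain is, up to torsion and a nonzero scalar, a retract of a
finite free module. -/
theorem exists_retract_up_to_scalar :
    ∃ (ι' : Type u) (_ : Fintype ι') (p : (ι' →₀ R) →ₗ[R] H) (s : H →ₗ[R] (ι' →₀ R)) (r : R),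
      r ≠ 0 ∧ ∀ (φ : H →ₗ[R] R) (h : H), φ (p (s h)) = r * φ h := by
  classical
  let S : Submonoid R := nonZeroDivisors R
  let K := FractionRing R
  let HK := LocalizedModule S H
  let ι : H →ₗ[R] HK := LocalizedModule.mkLinearMap S H
  haveI : Module.Finite K HK := Module.Finite.of_isLocalizedModule S ι
  let b := Module.Free.chooseBasis K HK
  let ι' := Module.Free.ChooseBasisIndex K HK
  haveI : Fintype ι' := inferInstance
  let mr : (ι' →₀ R) →ₗ[R] (ι' →₀ K) := Finsupp.mapRange.linearMap (Algebra.linearMap R K)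
  haveI : IsLocalizedModule S mr := inferInstance
  haveI : Module.FinitePresentation R H := Module.finitePresentation_of_finite R H
  let α : (ι' →₀ R) →ₗ[R] HK := (b.repr.symm.toLinearMap.restrictScalars R).comp mr
  obtain ⟨p, d, hp⟩ := Module.FinitePresentation.exists_lift_of_isLocalizedModule S ι α
  let β : H →ₗ[R] (ι' →₀ K) := (b.repr.toLinearMap.restrictScalars R).comp ι
  obtain ⟨s, d', hs⟩ := Module.FinitePresentation.exists_lift_of_isLocalizedModule S mr β
  refine ⟨ι', inferInstance, p, s, (d : R) * (d' : R),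
    mul_ne_zero (nonZeroDivisors.coe_ne_zero d) (nonZeroDivisors.coe_ne_zero d'), ?_⟩
  intro φ h
  have h1 : ι (p (s h)) = ((d : R) * (d' : R)) • ι h := by
    have e1 := LinearMap.congr_fun hp (s h)
    have e2 := LinearMap.congr_fun hs h
    change ι (p (s h)) = (d : R) • α (s h) at e1
    change mr (s h) = (d' : R) • β h at e2
    rw [e1]
    change (d : R) • b.repr.symm (mr (s h)) = _
    rw [e2]
    change (d : R) • b.repr.symm ((d' : R) • b.repr (ι h)) = _
    rw [← algebraMap_smul K (d' : R), map_smul, b.repr.symm_apply_apply, algebraMap_smul,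
      smul_smul]
  have h2 : ι (p (s h) - ((d : R) * (d' : R)) • h) = 0 := by
    rw [map_sub, map_smul, h1, sub_self]
  obtain ⟨c, hc⟩ := (IsLocalizedModule.eq_zero_iff S ι).mp h2
  have h3 : (c : R) * φ (p (s h) - ((d : R) * (d' : R)) • h) = 0 := by
    have hc' : (c : R) • (p (s h) - ((d : R) * (d' : R)) • h) = 0 := hc
    rw [← smul_eq_mul, ← map_smul, hc', map_zero]
  have h4 := (mul_eq_zero.mp h3).resolve_left (nonZeroDivisors.coe_ne_zero c)
  rw [map_sub, map_smul, sub_eq_zero, smul_eq_mul] at h4
  exact h4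

/-- the cokernel of the evaluation map into the bidual of a finite module over a Noetherian domain
is torsion (with a uniform annihilating scalar). -/
theorem exists_smul_eq_eval :
    ∃ r : R, r ≠ 0 ∧ ∀ ξ : Dual R (Dual R H), ∃ h : H, r • ξ = Dual.eval R H h := by
  obtain ⟨ι', _, p, s, r, hr, hps⟩ := exists_retract_up_to_scalar R H
  refine ⟨r, hr, fun ξ => ?_⟩
  obtain ⟨c, hc⟩ := (bijective_dual_eval R (ι' →₀ R)).2 (ξ.comp s.dualMap)
  refine ⟨p c, LinearMap.ext fun φ => ?_⟩
  have e1 := LinearMap.congr_fun hc (φ.comp p)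
  change (φ.comp p) c = ξ ((φ.comp p).comp s) at e1
  change r • ξ φ = φ (p c)
  have e2 : (φ.comp p).comp s = r • φ := LinearMap.ext fun h => by
    change φ (p (s h)) = r • φ h
    rw [hps, smul_eq_mul]
  rw [e2, map_smul] at e1
  exact e1.symm

/-- the dual of a finite module over a Noetherian domain is reflexive. -/
theorem isReflexive_dual : IsReflexive R (Dual R H) := by
  obtain ⟨r, hr, hev⟩ := exists_smul_eq_eval R H
  refine ⟨⟨?_, ?_⟩⟩
  · intro φ ψ hφψ
    refine LinearMap.ext fun h => ?_
    have := LinearMap.congr_fun hφψ (Dual.eval R H h)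
    exact this
  · intro ζ
    refine ⟨ζ.comp (Dual.eval R H), LinearMap.ext fun ξ => ?_⟩
    obtain ⟨h, hh⟩ := hev ξ
    change ξ (ζ.comp (Dual.eval R H)) = ζ ξ
    have e1 : r * ξ (ζ.comp (Dual.eval R H)) = r * ζ ξ := by
      have e2 : (r • ξ) (ζ.comp (Dual.eval R H)) = ζ (r • ξ) := by
        rw [hh]
        rfl
      rw [LinearMap.smul_apply, map_smul, smul_eq_mul, smul_eq_mul] at e2
      exact e2
    exact mul_left_cancel₀ hr e1

variable (M N : Type u) [AddCommGroup M] [Module R M] [Module.Finite R M]
  [AddCommGroup N] [Module R N] [Module.Finite R N]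

/-- the module of homomorphisms from a finite module to a finite reflexive module over a Noetherian
domain is reflexive. -/
theorem isReflexive_linearMap [IsReflexive R N] : IsReflexive R (M →ₗ[R] N) := by
  haveI : Module.Finite R (Dual R N) := by
    obtain ⟨n, f, hf⟩ := Module.Finite.exists_fin' R N
    let φ : (N →ₗ[R] R) →ₗ[R] ((Fin n → R) →ₗ[R] R) := LinearMap.lcomp R R f
    have hφ : Function.Injective φ := fun a b h => LinearMap.ext fun m => by
      obtain ⟨c, rfl⟩ := hf m
      exact LinearMap.congr_fun h c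
    haveI : IsNoetherian R ((Fin n → R) →ₗ[R] R) := isNoetherian_of_isNoetherianRing_of_finite R _
    exact Module.Finite.of_injective φ hφ
  let e1 : (M →ₗ[R] N) ≃ₗ[R] (M →ₗ[R] Dual R (Dual R N)) :=
    LinearEquiv.congrRight (Module.evalEquiv R N)
  let e2 : (M →ₗ[R] Dual R N →ₗ[R] R) ≃ₗ[R] Dual R (TensorProduct R M (Dual R N)) :=
    TensorProduct.lift.equiv (RingHom.id R) M (Dual R N) R
  haveI := isReflexive_dual R (TensorProduct R M (Dual R N))
  exact Module.equiv (e1 ≪≫ₗ e2).symm

end Groth.Agent.H17.ReflHom
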