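import Mathlib
import Groth.Prelude.Def_RefHull
import Groth.Agent.H8.QCohStalk
import Groth.Agent.H8.QCohCriterion
import Groth.Agent.H8.FPAffine
import Groth.Agent.H8.FinType
import Groth.Agent.H8.Coh
import Groth.Agent.H8.StalkExact

/-!
# Sections of the sheaf Hom `RefHull.homSh F G` in terms of linear maps

For a quasi-coherent `F`, an affine open `U` and an open `W ≤ U`, sections of `𝓗om(F, G)` over `W`
correspond to semilinear maps `Γ(F, U) → Γ(G, W)`.
-/

set_option autoImplicit false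
set_option linter.style.haveILetI false
universe u
open CategoryTheory CategoryTheory.Limits AlgebraicGeometry TopologicalSpace Opposite

namespace Groth.Agent.H17.HomSh

open Groth.Agent.H8

variable {X : Scheme.{u}}

section Glue

/-- sections of a module are determined by their germs -/
theorem section_ext_germ (G : X.Modules) {W : X.Opens} (n n' : Γ(G, W))
    (h : ∀ y : W, G.presheaf.germ W y.1 y.2 n = G.presheaf.germ W y.1 y.2 n') : n = n' :=
  TopCat.Presheaf.section_ext (F := ⟨G.presheaf, G.isSheaf⟩) W n n' (fun y hy => h ⟨y, hy⟩)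

/-- a family of germs which is locally given by sections is given by a section -/
theorem exists_section_of_germs (G : X.Modules) (W : X.Opens) (t : ∀ y : W, G.presheaf.stalk y.1)
    (h : ∀ x : W, ∃ (W' : X.Opens) (_ : x.1 ∈ W') (hW' : W' ≤ W) (n : Γ(G, W')),
      ∀ y : W', G.presheaf.germ W' y.1 y.2 n = t ⟨y.1, hW' y.2⟩) :
    ∃ n : Γ(G, W), ∀ y : W, G.presheaf.germ W y.1 y.2 n = t y := by
  choose Wf hxWf hWf nf hnf using h
  have hcover : W ≤ iSup Wf := fun x hx => Opens.mem_iSup.mpr ⟨⟨x, hx⟩, hxWf ⟨x, hx⟩⟩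
  have hcompat : TopCat.Presheaf.IsCompatible G.presheaf Wf nf := by
    intro x y
    refine section_ext_germ G _ _ (fun z => ?_)
    rw [TopCat.Presheaf.germ_res_apply, TopCat.Presheaf.germ_res_apply]
    exact (hnf x ⟨z.1, z.2.1⟩).trans (hnf y ⟨z.1, z.2.2⟩).symm
  obtain ⟨a, ha, -⟩ := TopCat.Sheaf.existsUnique_gluing' (F := ⟨G.presheaf, G.isSheaf⟩)
    Wf W (fun x => homOfLE (hWf x)) hcover nf hcompat
  refine ⟨a, fun y => ?_⟩
  have h1 := ha y
  have h2 := hnf y ⟨y.1, hxWf y⟩
  rw [← h2, ← h1]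
  exact (TopCat.Presheaf.germ_res_apply G.presheaf (homOfLE (hWf y)) y.1 (hxWf y) a).symm

theorem res_res (G : X.Modules) {A B C : X.Opens} (h1 : B ≤ A) (h2 : C ≤ B) (m : Γ(G, A)) :
    G.presheaf.map (homOfLE h2).op (G.presheaf.map (homOfLE h1).op m) =
      G.presheaf.map (homOfLE (h2.trans h1)).op m := by
  rw [← ConcreteCategory.comp_apply, ← Functor.map_comp]
  rfl

theorem res_resO {A B C : X.Opens} (h1 : B ≤ A) (h2 : C ≤ B) (r : Γ(X, A)) :
    X.presheaf.map (homOfLE h2).op (X.presheaf.map (homOfLE h1).op r) =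
      X.presheaf.map (homOfLE (h2.trans h1)).op r := by
  rw [← ConcreteCategory.comp_apply, ← Functor.map_comp]
  rfl

end Glue


section Fwd

variable (F G : X.Modules) {U W : X.Opens} (hWU : W ≤ U)

/-- A section of the sheaf Hom over `W` sends a section of `F` over `U ⊇ W` to a section of `G` over
`W`. -/
theorem exists_fwd (g : Γ(RefHull.homSh F G, W)) (m : Γ(F, U)) :
    ∃ n : Γ(G, W), ∀ y : W, G.presheaf.germ W y.1 y.2 n =
      g.1 y (F.presheaf.germ U y.1 (hWU y.2) m) := by
  refine exists_section_of_germs G W (fun y => g.1 y (F.presheaf.germ U y.1 (hWU y.2) m)) ?_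
  intro x
  obtain ⟨W', hxW', j, n, hn⟩ := RefHull.isLocSect_of_mem g W (𝟙 W)
    (F.presheaf.map (homOfLE hWU).op m) x
  refine ⟨W', hxW', j.le, n, fun y => ?_⟩
  have e := hn y
  rw [TopCat.Presheaf.germ_res_apply] at e
  exact e.symm

/-- the forward map: the section of `G` over `W` obtained from a section of the sheaf Hom over `W` and
a section of `F` over `U`. -/
noncomputable def fwd (g : Γ(RefHull.homSh F G, W)) (m : Γ(F, U)) : Γ(G, W) :=
  (exists_fwd F G hWU g m).choose

theorem germ_fwd (g : Γ(RefHull.homSh F G, W)) (m : Γ(F, U)) (y : X) (hy : y ∈ W) :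
    G.presheaf.germ W y hy (fwd F G hWU g m) = g.1 ⟨y, hy⟩ (F.presheaf.germ U y (hWU hy) m) :=
  (exists_fwd F G hWU g m).choose_spec ⟨y, hy⟩

theorem fwd_add (g : Γ(RefHull.homSh F G, W)) (m m' : Γ(F, U)) :
    fwd F G hWU g (m + m') = fwd F G hWU g m + fwd F G hWU g m' := by
  refine section_ext_germ G _ _ (fun y => ?_)
  rw [map_add, germ_fwd, germ_fwd, germ_fwd, map_add, map_add]

theorem fwd_smul (g : Γ(RefHull.homSh F G, W)) (a : Γ(X, U)) (m : Γ(F, U)) :
    fwd F G hWU g (a • m) = X.presheaf.map (homOfLE hWU).op a • fwd F G hWU g m := by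
  refine section_ext_germ G _ _ (fun y => ?_)
  rw [germ_fwd, Groth.Agent.H8.germ_smul, Groth.Agent.H8.germ_smul, germ_fwd, map_smul,
    TopCat.Presheaf.germ_res_apply]

theorem fwd_zero (g : Γ(RefHull.homSh F G, W)) : fwd F G hWU g 0 = 0 := by
  refine section_ext_germ G _ _ (fun y => ?_)
  rw [germ_fwd, map_zero, map_zero, map_zero]

theorem fwd_add_left (g g' : Γ(RefHull.homSh F G, W)) (m : Γ(F, U)) :
    fwd F G hWU (g + g') m = fwd F G hWU g m + fwd F G hWU g' m := by
  refine section_ext_germ G _ _ (fun y => ?_)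
  rw [map_add, germ_fwd, germ_fwd, germ_fwd]
  rfl

theorem fwd_smul_left (r : Γ(X, W)) (g : Γ(RefHull.homSh F G, W)) (m : Γ(F, U)) :
    fwd F G hWU (r • g) m = r • fwd F G hWU g m := by
  refine section_ext_germ G _ _ (fun y => ?_)
  rw [germ_fwd, Groth.Agent.H8.germ_smul, germ_fwd]
  rfl

theorem fwd_res {W' : X.Opens} (hW' : W' ≤ W) (g : Γ(RefHull.homSh F G, W)) (m : Γ(F, U)) :
    fwd F G (hW'.trans hWU) ((RefHull.homSh F G).presheaf.map (homOfLE hW').op g) m =
      G.presheaf.map (homOfLE hW').op (fwd F G hWU g m) := by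
  refine section_ext_germ G _ _ (fun y => ?_)
  rw [germ_fwd, TopCat.Presheaf.germ_res_apply, germ_fwd]
  rfl

end Fwd


section Uniq

variable (F G : X.Modules) [F.IsQuasicoherent] {U W : X.Opens} (hU : IsAffineOpen U)

include hU in
/-- a linear map out of the stalk of a quasi-coherent module at a point of an affine open `U` is
determined by its values on the germs of the sections over `U`. -/
theorem stalkHom_ext (y : X) (hyU : y ∈ U) (f f' : RefHull.StalkHom F G y)
    (h : ∀ m : Γ(F, U), f (F.presheaf.germ U y hyU m) = f' (F.presheaf.germ U y hyU m)) :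
    f = f' := by
  refine LinearMap.ext fun t => ?_
  obtain ⟨a, hya, m, hm⟩ := exists_germ_smul_eq_germ F hU y hyU t
  have hunit : IsUnit (X.presheaf.germ U y hyU a) := (Scheme.mem_basicOpen _ _ _ hyU).mp hya
  have h1 : X.presheaf.germ U y hyU a • f t = X.presheaf.germ U y hyU a • f' t := by
    rw [← map_smul, ← map_smul, hm, h]
  exact hunit.smul_left_cancel.mp h1

include hU in
/-- sections of the sheaf Hom over `W ≤ U` are determined by their values on the germs of the
sections of `F` over `U`. -/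
theorem homSh_ext (hWU : W ≤ U) (g g' : Γ(RefHull.homSh F G, W))
    (h : ∀ (y : W) (m : Γ(F, U)), g.1 y (F.presheaf.germ U y.1 (hWU y.2) m) =
      g'.1 y (F.presheaf.germ U y.1 (hWU y.2) m)) : g = g' :=
  Subtype.ext (funext fun y => stalkHom_ext F G hU y.1 (hWU y.2) _ _ (h y))

include hU in
theorem homSh_ext_fwd (hWU : W ≤ U) (g g' : Γ(RefHull.homSh F G, W))
    (h : ∀ m : Γ(F, U), fwd F G hWU g m = fwd F G hWU g' m) : g = g' := by
  refine homSh_ext F G hU hWU g g' (fun y m => ?_)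
  rw [← germ_fwd F G hWU g m y.1 y.2, ← germ_fwd F G hWU g' m y.1 y.2, h]

end Uniq


section Bwd

variable (F G : X.Modules) [F.IsQuasicoherent] {U W : X.Opens} (hU : IsAffineOpen U) (hWU : W ≤ U)
  (h : Γ(F, U) →+ Γ(G, W))
  (hsmul : ∀ (a : Γ(X, U)) (m : Γ(F, U)), h (a • m) = X.presheaf.map (homOfLE hWU).op a • h m)

omit [F.IsQuasicoherent] in
include hU in
/-- elements of `Γ(X, U)` not in the prime of `y` act invertibly on the stalk at `y`. -/
theorem isUnit_algebraMap_end_stalk (y : X) (hyU : y ∈ U)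
    (s : (hU.primeIdealOf ⟨y, hyU⟩).asIdeal.primeCompl) :
    letI := moduleSectionStalk G y hyU
    IsUnit (algebraMap Γ(X, U) (Module.End Γ(X, U) (G.presheaf.stalk y)) s) := by
  letI := X.presheaf.algebra_section_stalk ⟨y, hyU⟩
  haveI := hU.isLocalization_stalk ⟨y, hyU⟩
  letI := moduleSectionStalk G y hyU
  have hu : IsUnit (X.presheaf.germ U y hyU s) :=
    IsLocalization.map_units (X.presheaf.stalk y) s
  rw [Module.End.isUnit_iff]
  obtain ⟨u, hu'⟩ := hu
  constructor
  · intro m₁ m₂ h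
    have h' : u • m₁ = u • m₂ := by
      rw [Units.smul_def, Units.smul_def, hu']
      exact h
    exact smul_left_cancel u h'
  · intro m
    refine ⟨(u⁻¹ : (X.presheaf.stalk y)ˣ) • m, ?_⟩
    change (X.presheaf.germ U y hyU s) • ((u⁻¹ : (X.presheaf.stalk y)ˣ) • m) = m
    rw [← hu', ← Units.smul_def, smul_inv_smul]

include hU hsmul in
/-- the stalk map at `y ∈ W` induced by a semilinear map `Γ(F, U) → Γ(G, W)` -/
theorem exists_stalkHom (y : X) (hyW : y ∈ W) :
    ∃ f : RefHull.StalkHom F G y, ∀ m : Γ(F, U),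
      f (F.presheaf.germ U y (hWU hyW) m) = G.presheaf.germ W y hyW (h m) := by
  have hyU := hWU hyW
  letI := X.presheaf.algebra_section_stalk ⟨y, hyU⟩
  haveI := hU.isLocalization_stalk ⟨y, hyU⟩
  letI := moduleSectionStalk F y hyU
  haveI := isScalarTower_sectionStalk F y hyU
  haveI := isLocalizedModule_germₗ F hU y hyU
  letI := moduleSectionStalk G y hyU
  haveI := isScalarTower_sectionStalk G y hyU
  let ψ : Γ(F, U) →ₗ[Γ(X, U)] G.presheaf.stalk y :=
    { toFun := fun m => G.presheaf.germ W y hyW (h m)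
      map_add' := fun m m' => by rw [map_add, map_add]
      map_smul' := fun a m => by
        rw [hsmul, Groth.Agent.H8.germ_smul, TopCat.Presheaf.germ_res_apply]
        rfl }
  have hunits := isUnit_algebraMap_end_stalk G hU y hyU
  let f₀ := IsLocalizedModule.lift (hU.primeIdealOf ⟨y, hyU⟩).asIdeal.primeCompl
    (germₗ F y hyU) ψ hunits
  refine ⟨LinearMap.extendScalarsOfIsLocalization
    (hU.primeIdealOf ⟨y, hyU⟩).asIdeal.primeCompl (X.presheaf.stalk y) f₀, fun m => ?_⟩
  exact IsLocalizedModule.lift_apply _ (germₗ F y hyU) ψ hunits m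


include hU hsmul in
/-- the backward map: a semilinear map `Γ(F, U) → Γ(G, W)` defines a section of the sheaf Hom over
`W`. -/
theorem exists_bwd : ∃ g : Γ(RefHull.homSh F G, W), ∀ (y : X) (hy : y ∈ W) (m : Γ(F, U)),
    g.1 ⟨y, hy⟩ (F.presheaf.germ U y (hWU hy) m) = G.presheaf.germ W y hy (h m) := by
  choose f hf using fun y : W => exists_stalkHom F G hU hWU h hsmul y.1 y.2
  refine ⟨⟨f, ?_⟩, fun y hy m => hf ⟨y, hy⟩ m⟩
  intro V i m x
  have hVW : V ≤ W := i.le
  have hxW : x.1 ∈ W := hVW x.2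
  have hxU : x.1 ∈ U := hWU hxW
  obtain ⟨a, hxa, m', hm'⟩ := exists_germ_smul_eq_germ F hU x.1 hxU (F.presheaf.germ V x.1 x.2 m)
  have hVU : V ≤ U := hVW.trans hWU
  have e1 : F.presheaf.germ V x.1 x.2 (X.presheaf.map (homOfLE hVU).op a • m) =
      F.presheaf.germ V x.1 x.2 (F.presheaf.map (homOfLE hVU).op m') := by
    rw [Groth.Agent.H8.germ_smul, TopCat.Presheaf.germ_res_apply, TopCat.Presheaf.germ_res_apply]
    exact hm'
  obtain ⟨W₁, hxW₁, iU, iV, hW₁⟩ := TopCat.Presheaf.germ_eq F.presheaf x.1 x.2 x.2 _ _ e1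
  have hunit : IsUnit (X.presheaf.map (homOfLE (X.basicOpen_le a)).op a) :=
    X.toRingedSpace.isUnit_res_basicOpen a
  obtain ⟨b₀, hb₀⟩ := hunit.exists_right_inv
  have hW'V : W₁ ⊓ X.basicOpen a ≤ V := inf_le_left.trans iU.le
  have hW'W : W₁ ⊓ X.basicOpen a ≤ W := hW'V.trans hVW
  have hW'D : W₁ ⊓ X.basicOpen a ≤ X.basicOpen a := inf_le_right
  refine ⟨W₁ ⊓ X.basicOpen a, ⟨hxW₁, hxa⟩, homOfLE hW'V,
    X.presheaf.map (homOfLE hW'D).op b₀ • G.presheaf.map (homOfLE hW'W).op (h m'), fun y => ?_⟩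
  have hyW₁ : y.1 ∈ W₁ := y.2.1
  have hyD : y.1 ∈ X.basicOpen a := y.2.2
  have hyV : y.1 ∈ V := hW'V y.2
  have hyW : y.1 ∈ W := hVW hyV
  have hyU : y.1 ∈ U := hWU hyW
  -- the relation at `y`
  have e2 : X.presheaf.germ U y.1 hyU a • F.presheaf.germ V y.1 hyV m =
      F.presheaf.germ U y.1 hyU m' := by
    have e3 := congrArg (F.presheaf.germ W₁ y.1 hyW₁) hW₁
    rw [TopCat.Presheaf.germ_res_apply, TopCat.Presheaf.germ_res_apply,
      Groth.Agent.H8.germ_smul, TopCat.Presheaf.germ_res_apply,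
      TopCat.Presheaf.germ_res_apply] at e3
    exact e3
  have e4 : X.presheaf.germ (X.basicOpen a) y.1 hyD b₀ * X.presheaf.germ U y.1 hyU a = 1 := by
    have e5 := congrArg (X.presheaf.germ (X.basicOpen a) y.1 hyD) hb₀
    rw [map_mul, map_one] at e5
    rw [mul_comm, ← e5]
    congr 1
    exact (TopCat.Presheaf.germ_res_apply X.presheaf (homOfLE (X.basicOpen_le a)) y.1 hyD a).symm
  have e6 : f ⟨y.1, hyW⟩ (F.presheaf.germ U y.1 hyU m') = G.presheaf.germ W y.1 hyW (h m') :=
    hf ⟨y.1, hyW⟩ m'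
  rw [Groth.Agent.H8.germ_smul, TopCat.Presheaf.germ_res_apply, TopCat.Presheaf.germ_res_apply,
    ← e6, ← e2, map_smul, smul_smul, e4, one_smul]

end Bwd


section QCoh

variable (F G : X.Modules)

theorem fwd_zero_left {U W : X.Opens} (hWU : W ≤ U) (m : Γ(F, U)) :
    fwd F G hWU 0 m = 0 := by
  refine section_ext_germ G _ _ (fun y => ?_)
  rw [germ_fwd, map_zero]
  rfl

theorem map_homOfLE_refl (U : X.Opens) (a : Γ(X, U)) :
    X.presheaf.map (homOfLE (le_refl U)).op a = a := by
  rw [show (homOfLE (le_refl U)).op = 𝟙 (op U) from rfl, X.presheaf.map_id]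
  rfl

/-- the forward map over `W = U` as a linear map. -/
noncomputable def fwdₗ (U : X.Opens) (g : Γ(RefHull.homSh F G, U)) : Γ(F, U) →ₗ[Γ(X, U)] Γ(G, U) where
  toFun := fwd F G le_rfl g
  map_add' := fwd_add F G le_rfl g
  map_smul' a m := by rw [fwd_smul, map_homOfLE_refl]; rfl

/-- the forward map over `W = U` as a linear map in both variables. -/
noncomputable def fwdₗₗ (U : X.Opens) :
    Γ(RefHull.homSh F G, U) →ₗ[Γ(X, U)] (Γ(F, U) →ₗ[Γ(X, U)] Γ(G, U)) where
  toFun := fwdₗ F G U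
  map_add' g g' := LinearMap.ext fun m => fwd_add_left F G le_rfl g g' m
  map_smul' r g := LinearMap.ext fun m => fwd_smul_left F G le_rfl r g m

theorem fwdₗₗ_injective [F.IsQuasicoherent] {U : X.Opens} (hU : IsAffineOpen U) :
    Function.Injective (fwdₗₗ F G U) := fun g g' h =>
  homSh_ext_fwd F G hU le_rfl g g' (fun m => LinearMap.congr_fun h m)

theorem fwdₗₗ_surjective [F.IsQuasicoherent] {U : X.Opens} (hU : IsAffineOpen U) :
    Function.Surjective (fwdₗₗ F G U) := by
  intro h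
  obtain ⟨g, hg⟩ := exists_bwd F G hU le_rfl h.toAddMonoidHom
    (fun a m => by rw [map_homOfLE_refl]; exact map_smul h a m)
  refine ⟨g, LinearMap.ext fun m => ?_⟩
  refine section_ext_germ G _ _ (fun y => ?_)
  exact (germ_fwd F G le_rfl g m y.1 y.2).trans (hg y.1 y.2 m)

set_option backward.isDefEq.respectTransparency false in
/-- The sheaf Hom from a module of finite presentation to a quasi-coherent module is
quasi-coherent. -/
theorem isQuasicoherent_homSh [SheafOfModules.IsFinitePresentation (R := X.ringCatSheaf) F]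
    [G.IsQuasicoherent] : (RefHull.homSh F G).IsQuasicoherent := by
  haveI : F.IsQuasicoherent := by
    obtain ⟨σ, hσ⟩ := SheafOfModules.IsFinitePresentation.exists_quasicoherentData F
    exact σ.isQuasicoherent
  refine isQuasicoherent_of_sections _ ?_ ?_
  · intro U hU a y
    have hDU : X.basicOpen a ≤ U := X.basicOpen_le a
    haveI := finitePresentation_sections_of_isAffineOpen F hU
    letI := moduleSectionBasicOpen G a
    haveI := isLocalizedModule_resBasicOpenₗ hU G a
    let hy : Γ(F, U) →ₗ[Γ(X, U)] Γ(G, X.basicOpen a) :=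
      { toFun := fwd F G hDU y
        map_add' := fwd_add F G hDU y
        map_smul' := fun r m => by rw [fwd_smul]; rfl }
    obtain ⟨h', s, hs⟩ := Module.FinitePresentation.exists_lift_of_isLocalizedModule
      (Submonoid.powers a) (resBasicOpenₗ G a) hy
    obtain ⟨n, hn⟩ := s.2
    obtain ⟨x, hx⟩ := exists_bwd F G hU le_rfl h'.toAddMonoidHom
      (fun r m => by rw [map_homOfLE_refl]; exact map_smul h' r m)
    refine ⟨n, x, ?_⟩
    refine homSh_ext_fwd F G hU hDU _ _ (fun m => ?_)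
    rw [fwd_smul_left, fwd_res F G le_rfl hDU x m]
    have e1 : fwd F G le_rfl x m = h' m := by
      refine section_ext_germ G _ _ (fun z => ?_)
      exact (germ_fwd F G le_rfl x m z.1 z.2).trans (hx z.1 z.2 m)
    rw [e1]
    have e2 := LinearMap.congr_fun hs m
    have e3 : (s : Γ(X, U)) = a ^ n := hn.symm
    change G.presheaf.map (homOfLE hDU).op (h' m) = (s : Γ(X, U)) • fwd F G hDU y m at e2
    rw [e2, e3]
    change _ = X.presheaf.map (homOfLE hDU).op (a ^ n) • fwd F G hDU y m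
    rw [map_pow]
  · intro U hU a x hx
    have hDU : X.basicOpen a ≤ U := X.basicOpen_le a
    haveI := finitePresentation_sections_of_isAffineOpen F hU
    haveI : Module.Finite Γ(X, U) Γ(F, U) := inferInstance
    letI := moduleSectionBasicOpen G a
    haveI := isLocalizedModule_resBasicOpenₗ hU G a
    have hcomp : (resBasicOpenₗ G a).comp (fwdₗ F G U x) =
        (resBasicOpenₗ G a).comp (0 : Γ(F, U) →ₗ[Γ(X, U)] Γ(G, U)) := by
      refine LinearMap.ext fun m => ?_
      change G.presheaf.map (homOfLE hDU).op (fwd F G le_rfl x m) =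
        G.presheaf.map (homOfLE hDU).op 0
      rw [← fwd_res F G le_rfl hDU x m, hx, map_zero]
      exact fwd_zero_left F G _ m
    obtain ⟨s, hs⟩ := Module.Finite.exists_smul_of_comp_eq_of_isLocalizedModule
      (Submonoid.powers a) (resBasicOpenₗ G a) (fwdₗ F G U x) 0 hcomp
    obtain ⟨n, hn⟩ := s.2
    refine ⟨n, ?_⟩
    refine homSh_ext_fwd F G hU le_rfl _ _ (fun m => ?_)
    rw [fwd_smul_left, fwd_zero_left]
    have e2 := LinearMap.congr_fun hs m
    have e3 : (s : Γ(X, U)) = a ^ n := hn.symm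
    change (s : Γ(X, U)) • fwd F G le_rfl x m = (s : Γ(X, U)) • (0 : Γ(G, U)) at e2
    rw [smul_zero, e3] at e2
    exact e2

end QCoh


section Coh

/-- over a Noetherian ring, the module of linear maps between finite modules is finite. -/
theorem finite_linearMap_of_noetherian (R M N : Type*) [CommRing R] [IsNoetherianRing R]
    [AddCommGroup M] [Module R M] [Module.Finite R M] [AddCommGroup N] [Module R N]
    [Module.Finite R N] : Module.Finite R (M →ₗ[R] N) := by
  obtain ⟨n, f, hf⟩ := Module.Finite.exists_fin' R M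
  let φ : (M →ₗ[R] N) →ₗ[R] ((Fin n → R) →ₗ[R] N) := LinearMap.lcomp R N f
  have hφ : Function.Injective φ := fun a b h => LinearMap.ext fun m => by
    obtain ⟨c, rfl⟩ := hf m
    exact LinearMap.congr_fun h c
  haveI : IsNoetherian R ((Fin n → R) →ₗ[R] N) := isNoetherian_of_isNoetherianRing_of_finite R _
  exact Module.Finite.of_injective φ hφ

variable [IsLocallyNoetherian X] (F G : X.Modules)

/-- on a locally Noetherian scheme, coherent modules are of finite presentation. -/
theorem isFP_of_isCoh (hF : Coh.IsCoh F) :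
    SheafOfModules.IsFinitePresentation (R := X.ringCatSheaf) F := by
  haveI : F.IsQuasicoherent := hF.1
  refine isFinitePresentation_of_forall_affine_finitePresentation F (fun U => ?_)
  haveI : IsNoetherianRing Γ(X, U.1) := IsLocallyNoetherian.component_noetherian U
  haveI := finite_sections_of_isCoh F hF U.2
  exact Module.finitePresentation_of_finite _ _

theorem finite_sections_homSh (hF : Coh.IsCoh F) (hG : Coh.IsCoh G) {U : X.Opens}
    (hU : IsAffineOpen U) : Module.Finite Γ(X, U) Γ(RefHull.homSh F G, U) := by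
  haveI : F.IsQuasicoherent := hF.1
  haveI : IsNoetherianRing Γ(X, U) := IsLocallyNoetherian.component_noetherian ⟨U, hU⟩
  haveI := finite_sections_of_isCoh F hF hU
  haveI := finite_sections_of_isCoh G hG hU
  haveI := finite_linearMap_of_noetherian Γ(X, U) Γ(F, U) Γ(G, U)
  haveI : IsNoetherian Γ(X, U) (Γ(F, U) →ₗ[Γ(X, U)] Γ(G, U)) :=
    isNoetherian_of_isNoetherianRing_of_finite _ _
  exact Module.Finite.of_injective (fwdₗₗ F G U) (fwdₗₗ_injective F G hU)

/-- on a locally Noetherian scheme, the sheaf Hom of two coherent modules is coherent. -/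
theorem isCoh_homSh (hF : Coh.IsCoh F) (hG : Coh.IsCoh G) : Coh.IsCoh (RefHull.homSh F G) := by
  haveI := isFP_of_isCoh F hF
  haveI : G.IsQuasicoherent := hG.1
  haveI := isQuasicoherent_homSh F G
  exact ⟨this, isFiniteType_of_forall_affine_finite _
    (fun U => finite_sections_homSh F G hF hG U.2)⟩

end Coh


section EvalStalk

variable (F G : X.Modules) [SheafOfModules.IsFinitePresentation (R := X.ringCatSheaf) F]

theorem evalStalk_injective (x : X) : Function.Injective (RefHull.evalStalk F G x) := by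
  classical
  haveI : F.IsQuasicoherent := by
    obtain ⟨σ, hσ⟩ := SheafOfModules.IsFinitePresentation.exists_quasicoherentData F
    exact σ.isQuasicoherent
  rw [injective_iff_map_eq_zero]
  intro θ hθ
  obtain ⟨V, hxV, g, rfl⟩ := TopCat.Presheaf.exists_germ_eq (RefHull.homSh F G).presheaf θ
  rw [RefHull.evalStalk_germ] at hθ
  obtain ⟨_, ⟨U, hU, rfl⟩, hxU, -⟩ :=
    X.isBasis_affineOpens.exists_subset_of_mem_open (Set.mem_univ x) isOpen_univ
  replace hU : IsAffineOpen U := hU
  haveI := finitePresentation_sections_of_isAffineOpen F hU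
  obtain ⟨S, hS⟩ := (inferInstance : Module.Finite Γ(X, U) Γ(F, U)).fg_top
  have hWU : V ⊓ U ≤ U := inf_le_right
  have hxW : x ∈ V ⊓ U := ⟨hxV, hxU⟩
  obtain ⟨g', hg'⟩ : ∃ g' : Γ(RefHull.homSh F G, V ⊓ U),
      g' = (RefHull.homSh F G).presheaf.map (homOfLE (inf_le_left : V ⊓ U ≤ V)).op g := ⟨_, rfl⟩
  have hg'x : g'.1 ⟨x, hxW⟩ = 0 := by rw [hg']; exact hθ
  have hloc : ∀ s : Γ(F, U), ∃ (W' : X.Opens) (hW' : W' ≤ V ⊓ U), x ∈ W' ∧
      G.presheaf.map (homOfLE hW').op (fwd F G hWU g' s) = 0 := by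
    intro s
    refine exists_res_eq_zero_of_germ_eq_zero x G hxW _ ?_
    rw [germ_fwd, hg'x]
    rfl
  choose W' hW' hxW' hW'0 using hloc
  obtain ⟨W₀, hW₀⟩ : ∃ W₀ : X.Opens, W₀ = (⨅ s : S, W' s.1) ⊓ (V ⊓ U) := ⟨_, rfl⟩
  have hxW₀ : x ∈ W₀ := by
    rw [hW₀]
    refine ⟨?_, hxW⟩
    change x ∈ ((⨅ s : S, W' s.1 : X.Opens) : Set X)
    rw [Opens.coe_iInf]
    exact Set.mem_iInter.mpr fun s => hxW' s.1
  have hW₀W : W₀ ≤ V ⊓ U := hW₀ ▸ inf_le_right
  have hW₀s : ∀ s : S, W₀ ≤ W' s.1 := fun s => hW₀ ▸ inf_le_left.trans (iInf_le _ s)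
  obtain ⟨g'', hg''⟩ : ∃ g'' : Γ(RefHull.homSh F G, W₀),
      g'' = (RefHull.homSh F G).presheaf.map (homOfLE hW₀W).op g' := ⟨_, rfl⟩
  have hW₀U : W₀ ≤ U := hW₀W.trans hWU
  let K : Submodule Γ(X, U) Γ(F, U) :=
    { carrier := {m | fwd F G hW₀U g'' m = 0}
      add_mem' := fun {a b} ha hb => by
        change fwd F G hW₀U g'' (a + b) = 0
        rw [fwd_add, ha, hb, add_zero]
      zero_mem' := fwd_zero F G hW₀U g''
      smul_mem' := fun c m hm => by
        change fwd F G hW₀U g'' (c • m) = 0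
        rw [fwd_smul, hm, smul_zero] }
  have hSK : (S : Set Γ(F, U)) ⊆ K := by
    intro s hs
    change fwd F G hW₀U g'' s = 0
    rw [hg'', fwd_res F G hWU hW₀W g' s]
    have e1 : G.presheaf.map (homOfLE hW₀W).op (fwd F G hWU g' s) =
        G.presheaf.map (homOfLE (hW₀s ⟨s, hs⟩)).op
          (G.presheaf.map (homOfLE (hW' s)).op (fwd F G hWU g' s)) := by
      rw [← ConcreteCategory.comp_apply, ← Functor.map_comp]
      rfl
    rw [e1, hW'0, map_zero]
  have hK : K = ⊤ := by
    rw [eq_top_iff, ← hS]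
    exact Submodule.span_le.mpr hSK
  have hzero : g'' = 0 := by
    refine homSh_ext_fwd F G hU hW₀U g'' 0 (fun m => ?_)
    rw [fwd_zero_left]
    have : m ∈ K := by rw [hK]; trivial
    exact this
  have e2 : (RefHull.homSh F G).presheaf.germ V x hxV g =
      (RefHull.homSh F G).presheaf.germ W₀ x hxW₀ g'' := by
    rw [hg'', hg', TopCat.Presheaf.germ_res_apply, TopCat.Presheaf.germ_res_apply]
  rw [e2, hzero, map_zero]


set_option backward.isDefEq.respectTransparency false in
theorem evalStalk_surjective (x : X) : Function.Surjective (RefHull.evalStalk F G x) := by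
  classical
  haveI : F.IsQuasicoherent := by
    obtain ⟨σ, hσ⟩ := SheafOfModules.IsFinitePresentation.exists_quasicoherentData F
    exact σ.isQuasicoherent
  intro f
  obtain ⟨_, ⟨U, hU, rfl⟩, hxU, -⟩ :=
    X.isBasis_affineOpens.exists_subset_of_mem_open (Set.mem_univ x) isOpen_univ
  replace hU : IsAffineOpen U := hU
  haveI := finitePresentation_sections_of_isAffineOpen F hU
  obtain ⟨n, K, e, hK⟩ := Module.FinitePresentation.exists_fin Γ(X, U) Γ(F, U)
  obtain ⟨T, hT⟩ := hK
  obtain ⟨s, hs⟩ : ∃ s : Fin n → Γ(F, U), s = fun i => e.symm (K.mkQ (Pi.single i 1)) := ⟨_, rfl⟩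
  have hes : ∀ c : Fin n → Γ(X, U), e.symm (K.mkQ c) = ∑ i, c i • s i := by
    intro c
    have h1 : (e.symm.toLinearMap.comp K.mkQ) = Fintype.linearCombination Γ(X, U) s := by
      refine LinearMap.pi_ext' (fun i => LinearMap.ext_ring ?_)
      simp [hs, Fintype.linearCombination_apply_single]
    have h2 := LinearMap.congr_fun h1 c
    rw [Fintype.linearCombination_apply] at h2
    exact h2
  -- sections of `G` with the prescribed germs
  have ht : ∀ i, ∃ (Wi : X.Opens) (_ : Wi ≤ U) (hx : x ∈ Wi) (t : Γ(G, Wi)),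
      G.presheaf.germ Wi x hx t = f (F.presheaf.germ U x hxU (s i)) := by
    intro i
    obtain ⟨V, hxV, t, ht⟩ := TopCat.Presheaf.exists_germ_eq G.presheaf
      (f (F.presheaf.germ U x hxU (s i)))
    exact ⟨V ⊓ U, inf_le_right, ⟨hxV, hxU⟩, G.presheaf.map (homOfLE inf_le_left).op t, by
      rw [TopCat.Presheaf.germ_res_apply]; exact ht⟩
  choose Wi hWi hxWi t ht using ht
  -- the candidate on an open `W`
  have key : ∀ (W : X.Opens) (hW : ∀ i, W ≤ Wi i) (hWU : W ≤ U) (hxW : x ∈ W)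
      (c : Fin n → Γ(X, U)),
      G.presheaf.germ W x hxW (∑ i, X.presheaf.map (homOfLE hWU).op (c i) •
        G.presheaf.map (homOfLE (hW i)).op (t i)) =
      f (F.presheaf.germ U x hxU (e.symm (K.mkQ c))) := by
    intro W hW hWU hxW c
    rw [hes, map_sum, map_sum, map_sum]
    refine Finset.sum_congr rfl (fun i _ => ?_)
    rw [Groth.Agent.H8.germ_smul, Groth.Agent.H8.germ_smul, map_smul,
      TopCat.Presheaf.germ_res_apply, TopCat.Presheaf.germ_res_apply, ht]
  obtain ⟨W₀, hW₀⟩ : ∃ W₀ : X.Opens, W₀ = (⨅ i, Wi i) ⊓ U := ⟨_, rfl⟩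
  have hxW₀ : x ∈ W₀ := by
    rw [hW₀]
    refine ⟨?_, hxU⟩
    change x ∈ ((⨅ i, Wi i : X.Opens) : Set X)
    rw [Opens.coe_iInf]
    exact Set.mem_iInter.mpr hxWi
  have hW₀U : W₀ ≤ U := hW₀ ▸ inf_le_right
  have hW₀i : ∀ i, W₀ ≤ Wi i := fun i => hW₀ ▸ inf_le_left.trans (iInf_le _ i)
  -- relations vanish near `x`
  have hrel : ∀ k : Fin n → Γ(X, U), k ∈ T → ∃ (Wk : X.Opens) (hWk : Wk ≤ W₀), x ∈ Wk ∧
      G.presheaf.map (homOfLE hWk).op (∑ i, X.presheaf.map (homOfLE hW₀U).op (k i) •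
        G.presheaf.map (homOfLE (hW₀i i)).op (t i)) = 0 := by
    intro k hk
    refine exists_res_eq_zero_of_germ_eq_zero x G hxW₀ _ ?_
    rw [key W₀ hW₀i hW₀U hxW₀ k]
    have hkK : k ∈ K := hT ▸ Submodule.subset_span hk
    have hk0 : K.mkQ k = 0 := (Submodule.Quotient.mk_eq_zero K).mpr hkK
    rw [hk0, map_zero, map_zero, map_zero]
  choose Wk hWk hxWk hWk0 using hrel
  obtain ⟨W, hW⟩ : ∃ W : X.Opens, W = (⨅ k : T, Wk k.1 k.2) ⊓ W₀ := ⟨_, rfl⟩
  have hxW : x ∈ W := by
    rw [hW]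
    refine ⟨?_, hxW₀⟩
    change x ∈ ((⨅ k : T, Wk k.1 k.2 : X.Opens) : Set X)
    rw [Opens.coe_iInf]
    exact Set.mem_iInter.mpr fun k => hxWk k.1 k.2
  have hWW₀ : W ≤ W₀ := hW ▸ inf_le_right
  have hWk' : ∀ k : T, W ≤ Wk k.1 k.2 := fun k => hW ▸ inf_le_left.trans (iInf_le _ k)
  have hWU : W ≤ U := hWW₀.trans hW₀U
  have hWi : ∀ i, W ≤ Wi i := fun i => hWW₀.trans (hW₀i i)
  letI modW : Module Γ(X, U) Γ(G, W) := Module.compHom _ (X.presheaf.map (homOfLE hWU).op).hom
  let L : (Fin n → Γ(X, U)) →ₗ[Γ(X, U)] Γ(G, W) :=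
    Fintype.linearCombination Γ(X, U) (fun i => G.presheaf.map (homOfLE (hWi i)).op (t i))
  have hL : ∀ c, L c = ∑ i, X.presheaf.map (homOfLE hWU).op (c i) •
      G.presheaf.map (homOfLE (hWi i)).op (t i) := by
    intro c
    rw [Fintype.linearCombination_apply]
    rfl
  have hKL : K ≤ LinearMap.ker L := by
    rw [← hT]
    refine Submodule.span_le.mpr (fun k hk => ?_)
    change L k = 0
    rw [hL]
    have e1 := hWk0 k hk
    have e2 := congrArg (G.presheaf.map (homOfLE (hWk' ⟨k, hk⟩)).op) e1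
    rw [map_zero, map_sum, map_sum] at e2
    rw [← e2]
    refine Finset.sum_congr rfl (fun i _ => ?_)
    rw [G.map_smul, G.map_smul, res_res, res_res, res_resO, res_resO]
  let h : Γ(F, U) →ₗ[Γ(X, U)] Γ(G, W) := (K.liftQ L hKL).comp e.toLinearMap
  obtain ⟨g, hg⟩ := exists_bwd F G hU hWU h.toAddMonoidHom (fun a m => map_smul h a m)
  refine ⟨(RefHull.homSh F G).presheaf.germ W x hxW g, ?_⟩
  rw [RefHull.evalStalk_germ]
  refine stalkHom_ext F G hU x hxU _ _ (fun m => ?_)
  rw [hg x hxW m]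
  obtain ⟨c, hc⟩ := K.mkQ_surjective (e m)
  have e3 : h m = L c := by
    change K.liftQ L hKL (e m) = L c
    rw [← hc]
    rfl
  change G.presheaf.germ W x hxW (h m) = _
  rw [e3, hL, key W hWi hWU hxW c, hc, LinearEquiv.symm_apply_apply]

end EvalStalk

end Groth.Agent.H17.HomSh
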