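import Groth.Agent.H15.Depth
import Groth.Agent.H29.Depth
import Mathlib.RingTheory.Ideal.AssociatedPrime.Localization

/-!
# An isomorphism criterion via depth ≥ 2 (algebra side)

Local lemmas (`eq_zero_of_one_le_depth`, `exists_socle_of_two_le_depth`) and the two
"no associated prime" statements for the kernel and the cokernel of a linear map `ψ : N → P`
in terms of data at the localization at a prime `p`.
-/

set_option autoImplicit false

universe u v w

open scoped Pointwise
open IsLocalRing

namespace Groth.Agent.H17.IsoDepth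

section Local

variable {R : Type u} [CommRing R] [IsLocalRing R] {M : Type v} [AddCommGroup M] [Module R M]
  {M' : Type w} [AddCommGroup M'] [Module R M']

/-- If `depth M ≥ 1` (with `M` finite) then no nonzero element of `M` is killed by the maximal
ideal. -/
theorem eq_zero_of_one_le_depth [Module.Finite R M] (h : (1 : ℕ∞) ≤ LocCoh.depth R M) (x : M)
    (hx : ∀ r ∈ maximalIdeal R, r • x = 0) : x = 0 := by
  by_cases hIM : maximalIdeal R • (⊤ : Submodule R M) = ⊤
  · have := Submodule.eq_bot_of_le_smul_of_le_jacobson_bot (maximalIdeal R)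
      (⊤ : Submodule R M) Module.Finite.fg_top (le_of_eq hIM.symm)
      (IsLocalRing.maximalIdeal_le_jacobson _)
    have hx' : x ∈ (⊤ : Submodule R M) := Submodule.mem_top
    rw [this] at hx'
    simpa using hx'
  · have h1 : ((1 : ℕ) : ℕ∞) ≤ LocCoh.idealDepth (maximalIdeal R) M := by
      simpa [LocCoh.depth] using h
    rw [Groth.Agent.H15.Depth.le_idealDepth_iff hIM 1,
      Groth.Agent.H15.Depth.hasSeq_succ_iff] at h1
    obtain ⟨a, ha, hreg, -⟩ := h1
    exact hreg (by simp only [hx a ha, smul_zero])

/-- If `ψ : M → M'` is injective, `depth M ≥ 2`, and `g ∉ range ψ` has `𝔪 g ⊆ range ψ`, then `M'`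
has a nonzero element killed by `𝔪`. -/
theorem exists_socle_of_two_le_depth [Module.Finite R M] (ψ : M →ₗ[R] M')
    (hinj : Function.Injective ψ) (h : (2 : ℕ∞) ≤ LocCoh.depth R M) (g : M')
    (hg : g ∉ LinearMap.range ψ)
    (hmg : ∀ r ∈ maximalIdeal R, r • g ∈ LinearMap.range ψ) :
    ∃ g' : M', g' ≠ 0 ∧ ∀ r ∈ maximalIdeal R, r • g' = 0 := by
  by_cases hIM : maximalIdeal R • (⊤ : Submodule R M) = ⊤
  · have hbot := Submodule.eq_bot_of_le_smul_of_le_jacobson_bot (maximalIdeal R)
      (⊤ : Submodule R M) Module.Finite.fg_top (le_of_eq hIM.symm)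
      (IsLocalRing.maximalIdeal_le_jacobson _)
    have hM : ∀ m : M, m = 0 := by
      intro m
      have hm : m ∈ (⊤ : Submodule R M) := Submodule.mem_top
      rw [hbot] at hm
      simpa using hm
    refine ⟨g, ?_, ?_⟩
    · rintro rfl
      exact hg (Submodule.zero_mem _)
    · intro r hr
      obtain ⟨m, hm⟩ := hmg r hr
      rw [← hm, hM m, map_zero]
  · have h1 : ((2 : ℕ) : ℕ∞) ≤ LocCoh.idealDepth (maximalIdeal R) M := by
      simpa [LocCoh.depth] using h
    rw [Groth.Agent.H15.Depth.le_idealDepth_iff hIM 2,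
      Groth.Agent.H15.Depth.hasSeq_succ_iff] at h1
    obtain ⟨a, ha, hrega, h2⟩ := h1
    rw [Groth.Agent.H15.Depth.hasSeq_succ_iff] at h2
    obtain ⟨b, hb, hregb, -⟩ := h2
    obtain ⟨ma, hma⟩ := hmg a ha
    obtain ⟨mb, hmb⟩ := hmg b hb
    have hcomm : b • ma = a • mb := by
      apply hinj
      rw [map_smul, map_smul, hma, hmb, smul_comm]
    have hq : (Submodule.Quotient.mk ma : QuotSMulTop a M) = 0 := by
      apply hregb
      show b • (Submodule.Quotient.mk ma : QuotSMulTop a M) = b • (0 : QuotSMulTop a M)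
      rw [smul_zero, ← Submodule.Quotient.mk_smul, hcomm, Submodule.Quotient.mk_eq_zero]
      exact Submodule.smul_mem_pointwise_smul mb a ⊤ Submodule.mem_top
    rw [Submodule.Quotient.mk_eq_zero] at hq
    obtain ⟨m1, -, hm1⟩ := (Submodule.mem_smul_pointwise_iff_exists _ _ _).mp hq
    refine ⟨g - ψ m1, ?_, ?_⟩
    · intro h0
      apply hg
      rw [sub_eq_zero] at h0
      exact ⟨m1, h0.symm⟩
    · have ha0 : a • (g - ψ m1) = 0 := by
        rw [smul_sub, ← hma, ← map_smul, hm1, sub_self]
      intro r hr
      obtain ⟨mr, hmr⟩ := hmg r hr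
      have h3 : r • (g - ψ m1) = ψ (mr - r • m1) := by
        rw [map_sub, map_smul, hmr, smul_sub]
      have h4 : a • (mr - r • m1) = 0 := by
        apply hinj
        rw [map_smul, ← h3, smul_comm, ha0, smul_zero, map_zero]
      have h5 : mr - r • m1 = 0 := hrega (by simp only [h4, smul_zero])
      rw [h3, h5, map_zero]

end Local

section Global

variable {A : Type*} [CommRing A] [IsNoetherianRing A] {N P : Type*} [AddCommGroup N]
  [Module A N] [AddCommGroup P] [Module A P] (ψ : N →ₗ[A] P)
  (p : Ideal A) [p.IsPrime]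
  {R : Type u} [CommRing R] [IsLocalRing R] [Algebra A R] [IsLocalization.AtPrime R p]
  {M : Type v} [AddCommGroup M] [Module A M] [Module R M] [IsScalarTower A R M]
  {M' : Type w} [AddCommGroup M'] [Module A M'] [Module R M'] [IsScalarTower A R M']
  (f : N →ₗ[A] M) [IsLocalizedModule p.primeCompl f]
  (f' : P →ₗ[A] M') [IsLocalizedModule p.primeCompl f']
  (ψR : M →ₗ[R] M') (hψ : ∀ n, ψR (f n) = f' (ψ n))

include p in
omit [IsNoetherianRing A] in
/-- every element of the maximal ideal of `A_p` is of the form `a / s` with `a ∈ p`. -/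
theorem smul_mem_of_mem_maximalIdeal {Q : Type*} [AddCommGroup Q] [Module A Q]
    [Module R Q] [IsScalarTower A R Q] (W : Submodule R Q) (y : Q) (hy : ∀ a ∈ p, a • y ∈ W)
    (r : R) (hr : r ∈ maximalIdeal R) : r • y ∈ W := by
  obtain ⟨a, s, rfl⟩ := IsLocalization.exists_mk'_eq p.primeCompl r
  have ha : a ∈ p := by
    have h1 := (IsLocalization.AtPrime.to_map_mem_maximal_iff R p a).mp
    apply h1
    have : algebraMap A R a = algebraMap A R s * IsLocalization.mk' R a s := by
      rw [IsLocalization.mk'_spec']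
    rw [this]
    exact Ideal.mul_mem_left _ _ hr
  have hunit : IsUnit (algebraMap A R s) := IsLocalization.map_units R s
  have h2 : algebraMap A R s • (IsLocalization.mk' R a s • y) ∈ W := by
    rw [smul_smul, IsLocalization.mk'_spec', algebraMap_smul]
    exact hy a ha
  have h3 := W.smul_mem ((hunit.unit⁻¹ : Rˣ) : R) h2
  rwa [smul_smul, IsUnit.val_inv_mul, one_smul] at h3

include hψ in
/-- `p` is not an associated prime of `ker ψ` if `ψ_p` is injective or `depth N_p ≥ 1`. -/
theorem not_isAssociatedPrime_ker [Module.Finite A N]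
    (h : Function.Injective ψR ∨ (1 : ℕ∞) ≤ LocCoh.depth R M) :
    ¬ IsAssociatedPrime p (LinearMap.ker ψ) := by
  intro hass
  rw [isAssociatedPrime_iff] at hass
  obtain ⟨-, ⟨n, hn⟩, hp⟩ := hass
  have hann : ∀ a : A, a ∈ p ↔ a • n = 0 := by
    intro a
    rw [hp, Submodule.mem_colon_singleton, Submodule.mem_bot]
    constructor
    · intro h
      simpa using congrArg Subtype.val h
    · intro h
      ext
      simpa using h
  have hfn : f n ≠ 0 := by
    intro h0
    obtain ⟨s, hs⟩ := (IsLocalizedModule.eq_zero_iff p.primeCompl f).mp h0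
    exact s.2 ((hann s.1).mpr hs)
  have hkill : ∀ r ∈ maximalIdeal R, r • f n = 0 := by
    intro r hr
    have := smul_mem_of_mem_maximalIdeal p (⊥ : Submodule R M) (f n)
      (fun a ha => by rw [← map_smul, (hann a).mp ha, map_zero]; exact Submodule.zero_mem _) r hr
    simpa using this
  have hψ0 : ψR (f n) = 0 := by rw [hψ, LinearMap.mem_ker.mp hn, map_zero]
  rcases h with hinj | hdepth
  · exact hfn (hinj (hψ0.trans (map_zero _).symm))
  · haveI : Module.Finite R M := Module.Finite.of_isLocalizedModule p.primeCompl f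
    exact hfn (eq_zero_of_one_le_depth hdepth (f n) hkill)

include hψ in
/-- `p` is not an associated prime of `coker ψ` (for `ψ` injective) if `ψ_p` is surjective, or
`depth N_p ≥ 2` and `p` is not associated to `P`. -/
theorem not_isAssociatedPrime_coker [Module.Finite A N] (hinj : Function.Injective ψ)
    (h : Function.Surjective ψR ∨ ((2 : ℕ∞) ≤ LocCoh.depth R M ∧ ¬ IsAssociatedPrime p P)) :
    ¬ IsAssociatedPrime p (P ⧸ LinearMap.range ψ) := by
  intro hass
  rw [isAssociatedPrime_iff] at hass
  obtain ⟨-, c, hp⟩ := hass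
  obtain ⟨g, rfl⟩ := Submodule.Quotient.mk_surjective _ c
  have hann : ∀ a : A, a ∈ p ↔ a • g ∈ LinearMap.range ψ := by
    intro a
    rw [hp, Submodule.mem_colon_singleton, Submodule.mem_bot, ← Submodule.Quotient.mk_smul,
      Submodule.Quotient.mk_eq_zero]
  have hA : ∀ (a : A) (m : M), ψR (a • m) = a • ψR m := by
    intro a m
    rw [← algebraMap_smul R a m, map_smul, algebraMap_smul]
  -- `ψR` is injective
  have hinjR : Function.Injective ψR := by
    rw [injective_iff_map_eq_zero]
    intro m hm
    obtain ⟨⟨n, s⟩, hns⟩ := IsLocalizedModule.surj p.primeCompl f m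
    have hns' : (s : A) • m = f n := hns
    have h1 : f' (ψ n) = 0 := by
      rw [← hψ, ← hns', hA, hm, smul_zero]
    obtain ⟨t, ht⟩ := (IsLocalizedModule.eq_zero_iff p.primeCompl f').mp h1
    have ht' : (t : A) • ψ n = 0 := ht
    have h2 : (t : A) • n = 0 := by
      apply hinj
      rw [map_smul, ht', map_zero]
    have h3 : f n = 0 := (IsLocalizedModule.eq_zero_iff p.primeCompl f).mpr ⟨t, h2⟩
    have h4 : s • m = s • (0 : M) := by
      rw [smul_zero]
      exact hns.trans h3
    exact IsLocalizedModule.smul_injective f s h4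
  -- the image of `g` is not in the range of `ψR`
  have hg : f' g ∉ LinearMap.range ψR := by
    rintro ⟨m, hm⟩
    obtain ⟨⟨n, s⟩, hns⟩ := IsLocalizedModule.surj p.primeCompl f m
    have hns' : (s : A) • m = f n := hns
    have h1 : f' ((s : A) • g - ψ n) = 0 := by
      rw [map_sub, map_smul, ← hm, ← hψ, ← hns', hA, sub_self]
    obtain ⟨t, ht⟩ := (IsLocalizedModule.eq_zero_iff p.primeCompl f').mp h1
    have ht' : (t : A) • ((s : A) • g - ψ n) = 0 := ht
    have h2 : ((t * s : p.primeCompl) : A) • g ∈ LinearMap.range ψ := by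
      refine ⟨(t : A) • n, ?_⟩
      rw [smul_sub, sub_eq_zero] at ht'
      rw [map_smul, ← ht', smul_smul]
      rfl
    exact (t * s).2 ((hann _).mpr h2)
  have hmg : ∀ r ∈ maximalIdeal R, r • f' g ∈ LinearMap.range ψR := by
    refine smul_mem_of_mem_maximalIdeal p (LinearMap.range ψR) (f' g) ?_
    intro a ha
    obtain ⟨n, hn⟩ := (hann a).mp ha
    exact ⟨f n, by rw [hψ, hn, map_smul]⟩
  rcases h with hsurj | ⟨hdepth, hnass⟩
  · exact hg (hsurj _)
  · haveI : Module.Finite R M := Module.Finite.of_isLocalizedModule p.primeCompl f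
    obtain ⟨g'', hg''0, hg''⟩ := exists_socle_of_two_le_depth ψR hinjR hdepth (f' g) hg hmg
    have hcolon : (⊥ : Submodule R M').colon {g''} = maximalIdeal R := by
      refine ((maximalIdeal.isMaximal R).eq_of_le ?_ ?_).symm
      · intro htop
        have h1 : (1 : R) ∈ (⊥ : Submodule R M').colon {g''} := by rw [htop]; trivial
        rw [Submodule.mem_colon_singleton, Submodule.mem_bot, one_smul] at h1
        exact hg''0 h1
      · intro r hr
        rw [Submodule.mem_colon_singleton, Submodule.mem_bot]
        exact hg'' r hr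
    have hassR : maximalIdeal R ∈ associatedPrimes R M' := by
      refine ⟨(maximalIdeal.isMaximal R).isPrime, g'', ?_⟩
      rw [hcolon, (maximalIdeal.isMaximal R).isPrime.radical]
    have := Module.associatedPrimes.comap_mem_associatedPrimes_of_mem_associatedPrimes_of_isLocalizedModule_of_fg
      p.primeCompl f' (maximalIdeal R) hassR ((isNoetherianRing_iff_ideal_fg A).mp inferInstance _)
    have hcomap : (maximalIdeal R).comap (algebraMap A R) = p :=
      IsLocalization.AtPrime.under_maximalIdeal R p
    rw [hcomap] at this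
    exact hnass this

end Global

end Groth.Agent.H17.IsoDepth
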