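import Mathlib
import Groth.Agent.H17.HomSh
import Groth.Agent.H2.ConnComp
import Groth.Agent.H8.StructureCoh
import Groth.Agent.H8.StalkExact
import Groth.Agent.H8.ZeroStalk
import Groth.Agent.H8.SuppClosed
import Groth.Agent.H8.CohKerCoker
import Groth.Agent.S8890
import Groth.Agent.S4713

/-!
# Reflexive coherent modules: the sheaf condition versus the stalkwise condition
-/

set_option autoImplicit false
set_option linter.style.haveILetI false
universe u
open CategoryTheory CategoryTheory.Limits AlgebraicGeometry TopologicalSpace Opposite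

namespace Groth.Agent.H17.ReflSheaf

open Groth.Agent.H8 Groth.Agent.H17.HomSh

section Algebra

/-- an abstract form of the biduality map is bijective iff the module is reflexive. -/
theorem bijective_iff_dual_eval {R M Ox D : Type*} [CommRing R] [AddCommGroup M] [Module R M]
    [AddCommGroup Ox] [Module R Ox] [AddCommGroup D] [Module R D]
    (ι : R ≃ₗ[R] Ox) (e₁ : D ≃ₗ[R] (M →ₗ[R] Ox)) (B : M →ₗ[R] (D →ₗ[R] Ox))
    (hB : ∀ v θ, B v θ = e₁ θ v) :
    Function.Bijective B ↔ Function.Bijective (Module.Dual.eval R M) := by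
  let α : Module.Dual R M ≃ₗ[R] D := (LinearEquiv.congrRight ι) ≪≫ₗ e₁.symm
  let Ψ : (D →ₗ[R] Ox) ≃ₗ[R] Module.Dual R (Module.Dual R M) :=
    LinearEquiv.arrowCongr α.symm ι.symm
  have h : ∀ v, Ψ (B v) = Module.Dual.eval R M v := by
    intro v
    refine LinearMap.ext fun φ => ?_
    change ι.symm (B v (α φ)) = φ v
    rw [hB]
    change ι.symm (e₁ (e₁.symm (LinearEquiv.congrRight ι φ)) v) = φ v
    rw [LinearEquiv.apply_symm_apply]
    change ι.symm (ι (φ v)) = φ v
    exact ι.symm_apply_apply _
  have h' : ⇑(Module.Dual.eval R M) = Ψ ∘ B := funext fun v => (h v).symm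
  rw [h']
  exact (Ψ.bijective.of_comp_iff' B).symm

end Algebra

variable {X : Scheme.{u}}

section Sheaf

variable (F : X.Modules)

theorem evalStalk_stalkMap (x : X) (v : F.presheaf.stalk x) :
    RefHull.evalStalk (RefHull.dual F) (Coh.structureModule X) x
      (stalkMap (RefHull.bidualMap F) x v) = RefHull.bidualAt F x v := by
  obtain ⟨U, hxU, s, rfl⟩ := TopCat.Presheaf.exists_germ_eq F.presheaf v
  rw [stalkMap_germ, RefHull.evalStalk_germ]
  exact RefHull.bidualMap_app_apply F s ⟨x, hxU⟩

variable [IsLocallyNoetherian X]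

theorem isCoh_dual (hF : Coh.IsCoh F) : Coh.IsCoh (RefHull.dual F) :=
  isCoh_homSh F _ hF (isCoh_structureModule X)

theorem isCoh_ddual (hF : Coh.IsCoh F) : Coh.IsCoh (RefHull.ddual F) :=
  isCoh_dual _ (isCoh_dual F hF)

/-- the stalk of a coherent module at `x` is reflexive iff the biduality map is bijective on
stalks at `x`. -/
theorem isReflexiveAt_iff (hF : Coh.IsCoh F) (x : X) :
    RefHull.IsReflexiveAt F x ↔ Function.Bijective (stalkMap (RefHull.bidualMap F) x) := by
  haveI := isFP_of_isCoh F hF
  haveI := isFP_of_isCoh _ (isCoh_dual F hF)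
  have he₁ : Function.Bijective (RefHull.evalStalk F (Coh.structureModule X) x) :=
    ⟨evalStalk_injective F _ x, evalStalk_surjective F _ x⟩
  have he₂ : Function.Bijective
      (RefHull.evalStalk (RefHull.dual F) (Coh.structureModule X) x) :=
    ⟨evalStalk_injective _ _ x, evalStalk_surjective _ _ x⟩
  let ι : X.presheaf.stalk x ≃ₗ[X.presheaf.stalk x] (Coh.structureModule X).presheaf.stalk x :=
    LinearEquiv.ofBijective (Groth.Agent.H2.ConnComp.L X x) (Groth.Agent.H2.ConnComp.L_bijective X x)
  have key := bijective_iff_dual_eval ι (LinearEquiv.ofBijective _ he₁) (RefHull.bidualAt F x)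
    (fun v θ => rfl)
  have hcomp : ⇑(RefHull.bidualAt F x) =
      ⇑(RefHull.evalStalk (RefHull.dual F) (Coh.structureModule X) x) ∘
        ⇑(stalkMap (RefHull.bidualMap F) x) :=
    funext fun v => (evalStalk_stalkMap F x v).symm
  constructor
  · intro h
    haveI : Module.IsReflexive (X.presheaf.stalk x) (F.presheaf.stalk x) := h
    have h1 : Function.Bijective (RefHull.bidualAt F x) :=
      key.mpr (Module.bijective_dual_eval (X.presheaf.stalk x) (F.presheaf.stalk x))
    rw [hcomp] at h1
    exact (he₂.of_comp_iff' _).mp h1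
  · intro h
    have h1 : Function.Bijective (RefHull.bidualAt F x) := by
      rw [hcomp]
      exact he₂.comp h
    exact ⟨key.mp h1⟩

end Sheaf


section Locus

theorem stalkMap_bijective_of_isIso {F G : X.Modules} (φ : F ⟶ G) [IsIso φ] (x : X) :
    Function.Bijective (stalkMap φ x) := by
  rw [stalkMap_bijective_iff]
  exact ⟨subsingleton_stalk_of_isZero _ (isZero_kernel_of_mono φ) x,
    subsingleton_stalk_of_isZero _ (isZero_cokernel_of_epi φ) x⟩

variable [IsLocallyNoetherian X]

/-- the locus where a morphism of coherent modules is bijective on stalks is open. -/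
theorem isOpen_bijective_locus {F G : X.Modules} (φ : F ⟶ G) (hF : Coh.IsCoh F)
    (hG : Coh.IsCoh G) : IsOpen {x | Function.Bijective (stalkMap φ x)} := by
  rw [isOpen_iff_forall_mem_open]
  intro x hx
  rw [Set.mem_setOf_eq, stalkMap_bijective_iff] at hx
  obtain ⟨W1, hx1, h1⟩ := @exists_open_subsingleton_stalk X (kernel φ)
    (isCoh_kernel hF hG φ).2 x hx.1
  obtain ⟨W2, hx2, h2⟩ := @exists_open_subsingleton_stalk X (cokernel φ)
    (isCoh_cokernel hF hG φ).2 x hx.2
  refine ⟨(W1 ⊓ W2 : X.Opens), ?_, (W1 ⊓ W2).2, ⟨hx1, hx2⟩⟩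
  intro y hy
  rw [Set.mem_setOf_eq, stalkMap_bijective_iff]
  exact ⟨h1 y hy.1, h2 y hy.2⟩

/-- a morphism of coherent modules on a locally Noetherian scheme which is bijective on the stalks
at all closed points is an isomorphism. -/
theorem isIso_of_bijective_closed_points {F G : X.Modules} (φ : F ⟶ G) (hF : Coh.IsCoh F)
    (hG : Coh.IsCoh G)
    (h : ∀ x : X, IsClosed ({x} : Set X) → Function.Bijective (stalkMap φ x)) : IsIso φ := by
  have hall : ∀ x : X, Function.Bijective (stalkMap φ x) := by
    by_contra hne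
    push Not at hne
    have hcl : IsClosed {x | ¬ Function.Bijective (stalkMap φ x)} := by
      have := (isOpen_bijective_locus φ hF hG).isClosed_compl
      exact this
    obtain ⟨x, hxZ, hx⟩ := Groth.Agent.S4713.result X _ hcl hne
    exact hxZ (h x hx)
  exact Groth.Agent.S8890.isIso_of_stalk X φ hF hG.1 (fun x => Or.inl (hall x))

end Locus

section Main

variable [IsLocallyNoetherian X] (F : X.Modules)

theorem isReflexiveAt_of_isReflexive (hF : Coh.IsCoh F) (h : RefHull.IsReflexive F) (x : X) :
    RefHull.IsReflexiveAt F x := by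
  haveI : IsIso (RefHull.bidualMap F) := h
  exact (isReflexiveAt_iff F hF x).mpr (stalkMap_bijective_of_isIso _ x)

theorem isReflexive_of_closed_points (hF : Coh.IsCoh F)
    (h : ∀ x : X, IsClosed ({x} : Set X) → RefHull.IsReflexiveAt F x) : RefHull.IsReflexive F :=
  isIso_of_bijective_closed_points _ hF (isCoh_ddual F hF)
    (fun x hx => (isReflexiveAt_iff F hF x).mp (h x hx))

end Main

end Groth.Agent.H17.ReflSheaf
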