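import Mathlib
import Groth.Agent.H17.ReflSheaf
import Groth.Agent.H17.ReflHom
import Groth.Agent.H17.ReflDepth
import Groth.Agent.H17.Hartogs
import Groth.Agent.H17.CMFree
import Groth.Agent.H15.SerreNormal
import Groth.Agent.S7862
import Groth.Agent.H8.SectionsExact
import Groth.Agent.H8.Coh
import Groth.Prelude.Def_TorSh

/-!
# Reflexive coherent modules on regular schemes are normal (Hartogs), and related facts
-/

set_option autoImplicit false
set_option linter.style.haveILetI false
universe u
open CategoryTheory CategoryTheory.Limits AlgebraicGeometry TopologicalSpace Opposite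

namespace Groth.Agent.H17.ReflNormal

open Groth.Agent.H8 Groth.Agent.H17.HomSh Groth.Agent.H17.ReflSheaf

variable {X : Scheme.{u}}

/-- normality of a module: restriction is bijective across closed subsets of codimension `≥ 2`. -/
def IsNormalMod (F : X.Modules) : Prop :=
  ∀ (U V : X.Opens) (hVU : V ≤ U),
    (∀ x : X, x ∈ U → x ∉ V → (2 : WithBot ℕ∞) ≤ ringKrullDim (X.presheaf.stalk x)) →
      Function.Bijective (F.presheaf.map (homOfLE hVU).op)

section Sections

theorem map_map_hom (G : X.Modules) {A B C : X.Opens} (i : C ⟶ B) (j : B ⟶ A) (k : C ⟶ A)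
    (m : Γ(G, A)) : G.presheaf.map i.op (G.presheaf.map j.op m) = G.presheaf.map k.op m := by
  rw [← ConcreteCategory.comp_apply, ← Functor.map_comp]
  rfl

/-- a morphism which is bijective on the stalks at the points of an open is bijective on the
sections over that open. -/
theorem app_bijective_of_stalk_bijective {F G : X.Modules} (φ : F ⟶ G) (U : X.Opens)
    (h : ∀ x ∈ U, Function.Bijective (stalkMap φ x)) : Function.Bijective (φ.app U) := by
  constructor
  · intro s s' hs
    refine section_ext_germ F s s' (fun y => ?_)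
    apply (h y.1 y.2).1
    rw [stalkMap_germ, stalkMap_germ, hs]
  · intro t
    obtain ⟨s, hs⟩ := exists_section_of_germs F U
      (fun y => (Equiv.ofBijective _ (h y.1 y.2)).symm (G.presheaf.germ U y.1 y.2 t)) (by
        intro x
        obtain ⟨v, hv⟩ := (h x.1 x.2).2 (G.presheaf.germ U x.1 x.2 t)
        obtain ⟨V, hxV, s₀, rfl⟩ := TopCat.Presheaf.exists_germ_eq F.presheaf v
        rw [stalkMap_germ] at hv
        have hxVU : x.1 ∈ V ⊓ U := ⟨hxV, x.2⟩
        have hv' : G.presheaf.germ (V ⊓ U) x.1 hxVU
            (G.presheaf.map (homOfLE inf_le_left).op (φ.app V s₀)) =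
            G.presheaf.germ (V ⊓ U) x.1 hxVU (G.presheaf.map (homOfLE inf_le_right).op t) := by
          rw [TopCat.Presheaf.germ_res_apply, TopCat.Presheaf.germ_res_apply]
          exact hv
        obtain ⟨W, hxW, i₁, i₂, hW⟩ := TopCat.Presheaf.germ_eq G.presheaf x.1 _ _ _ _ hv'
        have hWV : W ≤ V := i₁.le.trans inf_le_left
        have hWU : W ≤ U := i₁.le.trans inf_le_right
        refine ⟨W, hxW, hWU, F.presheaf.map (homOfLE hWV).op s₀, fun y => ?_⟩
        rw [Equiv.eq_symm_apply]
        change stalkMap φ y.1 _ = _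
        rw [stalkMap_germ, Groth.Agent.H22.QCohLimits.app_res]
        have e1 : G.presheaf.map (homOfLE hWV).op (φ.app V s₀) =
            G.presheaf.map (homOfLE hWU).op t := by
          have e2 := hW
          rw [map_map_hom G i₁ _ (homOfLE hWV), map_map_hom G i₂ _ (homOfLE hWU)] at e2
          exact e2
        rw [e1, TopCat.Presheaf.germ_res_apply])
    refine ⟨s, section_ext_germ G _ _ (fun y => ?_)⟩
    rw [← stalkMap_germ, hs y]
    exact (Equiv.ofBijective _ (h y.1 y.2)).apply_symm_apply _

end Sections



section TorsionFree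

variable [IsIntegral X]

/-- sections of a torsion-free quasi-coherent module on an integral scheme which vanish on an open
containing the generic point of... vanish: restriction to a smaller nonempty open is injective. -/
theorem res_injective_of_isTorsionFree (Q : X.Modules) [Q.IsQuasicoherent]
    (hQ : TorSh.IsTorsionFree Q) {U V : X.Opens} (hVU : V ≤ U) (hV : genericPoint X ∈ V) :
    Function.Injective (Q.presheaf.map (homOfLE hVU).op) := by
  rw [injective_iff_map_eq_zero]
  intro σ hσ
  refine section_ext_germ Q σ 0 (fun x => ?_)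
  rw [map_zero]
  obtain ⟨W, hW, hxW, hWU₀⟩ := exists_isAffineOpen_mem_and_subset (x := x.1) (U := U) x.2
  have hWU : W ≤ U := hWU₀
  have hηW : genericPoint X ∈ W :=
    ((genericPoint_spec X).mem_open_set_iff W.2).mpr ⟨x.1, Set.mem_univ _, hxW⟩
  obtain ⟨a, haWV, hηa⟩ := hW.exists_basicOpen_le ⟨genericPoint X, hV⟩ hηW
  have ha0 : a ≠ 0 := by
    rintro rfl
    rw [Scheme.basicOpen_zero] at hηa
    exact hηa
  have hres : Q.presheaf.map (homOfLE (X.basicOpen_le a)).op (Q.presheaf.map (homOfLE hWU).op σ) =
      0 := by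
    have e1 : Q.presheaf.map (homOfLE (X.basicOpen_le a)).op (Q.presheaf.map (homOfLE hWU).op σ) =
        Q.presheaf.map (homOfLE haWV).op (Q.presheaf.map (homOfLE hVU).op σ) := by
      rw [Groth.Agent.H17.HomSh.res_res, Groth.Agent.H17.HomSh.res_res]
    rw [e1, hσ, map_zero]
  obtain ⟨n, hn⟩ := exists_smul_eq_zero hW Q a _ hres
  have e2 := congrArg (Q.presheaf.germ W x.1 hxW) hn
  rw [map_zero, Groth.Agent.H8.germ_smul, TopCat.Presheaf.germ_res_apply, map_pow] at e2
  have hane : X.presheaf.germ W x.1 hxW a ≠ 0 := by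
    intro h0
    apply ha0
    apply germ_injective_of_isIntegral X x.1 hxW
    rw [h0, map_zero]
  haveI := hQ x.1
  haveI : IsDomain (X.presheaf.stalk x.1) := inferInstance
  have hreg : IsSMulRegular (Q.presheaf.stalk x.1) (X.presheaf.germ W x.1 hxW a ^ n) :=
    (hQ x.1).isSMulRegular (IsRegular.of_ne_zero (pow_ne_zero n hane))
  exact hreg (e2.trans (smul_zero _).symm)


theorem genericPoint_mem_of_codim {U V : X.Opens} (hne : (U : Set X).Nonempty)
    (h : ∀ x : X, x ∈ U → x ∉ V → (2 : WithBot ℕ∞) ≤ ringKrullDim (X.presheaf.stalk x)) :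
    genericPoint X ∈ V := by
  have hηU : genericPoint X ∈ U := by
    obtain ⟨x, hx⟩ := hne
    exact ((genericPoint_spec X).mem_open_set_iff U.2).mpr ⟨x, Set.mem_univ _, hx⟩
  by_contra hηV
  have h2 := h _ hηU hηV
  have hfield : IsField (X.presheaf.stalk (genericPoint X)) := Field.toIsField X.functionField
  rw [ringKrullDim_eq_zero_of_isField hfield] at h2
  exact absurd h2 (by norm_num)

end TorsionFree

section Main

theorem le_one_of_lt_two {d : WithBot ℕ∞} (h : d < 2) : d ≤ 1 := by
  induction d using WithBot.recBotCoe with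
  | bot => exact bot_le
  | coe d =>
    have h4 : d < (2 : ℕ∞) :=
      WithBot.coe_lt_coe.mp (show (d : WithBot ℕ∞) < ((2 : ℕ∞) : WithBot ℕ∞) from h)
    have h5 : d ≤ 1 := by
      have h6 : (2 : ℕ∞) = 1 + 1 := by norm_num
      rw [h6] at h4
      exact (ENat.lt_add_one_iff (by simp)).mp h4
    exact (show (d : WithBot ℕ∞) ≤ ((1 : ℕ∞) : WithBot ℕ∞) from WithBot.coe_le_coe.mpr h5)

variable [IsIntegral X] [IsLocallyNoetherian X]

/-- the dual of a coherent module on an integral locally Noetherian scheme is reflexive. -/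
theorem isReflexive_dual (G : X.Modules) (hG : Coh.IsCoh G) :
    RefHull.IsReflexive (RefHull.dual G) := by
  refine isReflexive_of_closed_points _ (isCoh_dual G hG) (fun x _ => ?_)
  haveI := isFP_of_isCoh G hG
  have he : Function.Bijective (RefHull.evalStalk G (Coh.structureModule X) x) :=
    ⟨evalStalk_injective _ _ x, evalStalk_surjective _ _ x⟩
  let ι : X.presheaf.stalk x ≃ₗ[X.presheaf.stalk x] (Coh.structureModule X).presheaf.stalk x :=
    LinearEquiv.ofBijective (Groth.Agent.H2.ConnComp.L X x) (Groth.Agent.H2.ConnComp.L_bijective X x)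
  haveI : Module.Finite (X.presheaf.stalk x) (G.presheaf.stalk x) := finite_stalk_of_isCoh G hG x
  haveI : IsNoetherianRing (X.presheaf.stalk x) := inferInstance
  haveI : IsDomain (X.presheaf.stalk x) := inferInstance
  haveI := Groth.Agent.H17.ReflHom.isReflexive_dual (X.presheaf.stalk x) (G.presheaf.stalk x)
  exact Module.equiv ((LinearEquiv.ofBijective _ he) ≪≫ₗ LinearEquiv.congrRight ι.symm).symm

variable (hreg : ∀ x : X, IsRegularLocalRing (X.presheaf.stalk x))

include hreg in
theorem two_le_depth_of_isReflexiveAt (F : X.Modules) (hF : Coh.IsCoh F) (x : X)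
    (hr : RefHull.IsReflexiveAt F x) (hx : (2 : WithBot ℕ∞) ≤ ringKrullDim (X.presheaf.stalk x)) :
    (2 : ℕ∞) ≤ LocCoh.depth (X.presheaf.stalk x) (F.presheaf.stalk x) := by
  haveI := hreg x
  haveI : Module.Finite (X.presheaf.stalk x) (F.presheaf.stalk x) := finite_stalk_of_isCoh F hF x
  haveI : Module.IsReflexive (X.presheaf.stalk x) (F.presheaf.stalk x) := hr
  have h1 := Groth.Agent.H17.CMFree.ringKrullDim_eq_depth_self (X.presheaf.stalk x)
  have hR : (2 : ℕ∞) ≤ LocCoh.depth (X.presheaf.stalk x) (X.presheaf.stalk x) := by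
    rw [h1] at hx
    exact WithBot.coe_le_coe.mp (show ((2 : ℕ∞) : WithBot ℕ∞) ≤ _ from hx)
  exact Groth.Agent.H17.ReflDepth.two_le_depth_of_isReflexive _ hR _

include hreg in
/-- a reflexive coherent module on a regular scheme is normal. -/
theorem isNormalMod_of_isReflexive (F : X.Modules) (hF : Coh.IsCoh F)
    (hrefl : RefHull.IsReflexive F) : IsNormalMod F := by
  intro U V hVU h
  exact Groth.Agent.H17.Hartogs.map_bijective_of_depth F hF hVU (fun x hxU hxV =>
    two_le_depth_of_isReflexiveAt hreg F hF x (isReflexiveAt_of_isReflexive F hF hrefl x)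
      (h x hxU hxV))

include hreg in
/-- on a regular integral scheme, a torsion-free coherent module is reflexive at the points of
codimension at most one. -/
theorem isReflexiveAt_of_dim_lt_two (F : X.Modules) (hF : Coh.IsCoh F)
    (htf : TorSh.IsTorsionFree F) (x : X) (hx : ringKrullDim (X.presheaf.stalk x) < 2) :
    RefHull.IsReflexiveAt F x := by
  haveI := hreg x
  haveI : IsDomain (X.presheaf.stalk x) := inferInstance
  obtain ⟨π, hπ⟩ := Groth.Agent.H15.SerreNormal.exists_maximalIdeal_eq_span_singleton
    (X.presheaf.stalk x) (le_one_of_lt_two hx)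
  haveI := Groth.Agent.H15.SerreNormal.isIntegrallyClosed_of_principal hπ
  haveI := Groth.Agent.S7862.isPrincipalIdealRing_of_dim_lt_two (X.presheaf.stalk x) hx
  haveI := htf x
  haveI : Module.Finite (X.presheaf.stalk x) (F.presheaf.stalk x) := finite_stalk_of_isCoh F hF x
  haveI : Module.Free (X.presheaf.stalk x) (F.presheaf.stalk x) :=
    Module.free_of_finite_type_torsion_free'
  exact (inferInstance : Module.IsReflexive (X.presheaf.stalk x) (F.presheaf.stalk x))

end Main

end Groth.Agent.H17.ReflNormal
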