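import Groth.Agent.H8.StalkExact
import Groth.Agent.H8.ZeroStalk
import Groth.Agent.H8.QCohStalk

/-!
# Exactness of stalk maps of `O_X`-modules

* `stalkMap_injective_of_mono`, `stalkMap_surjective_of_epi`
* `stalkMap_exact`: an exact short complex of `O_X`-modules is exact on stalks
* `stalkMapₗ`: the stalk map as a linear map over the local ring
-/

set_option autoImplicit false
set_option linter.style.haveILetI false
universe u
open CategoryTheory CategoryTheory.Limits AlgebraicGeometry TopologicalSpace Opposite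

namespace Groth.Agent.H17.StalkSeq

open Groth.Agent.H8

variable {X : Scheme.{u}}

theorem stalkMap_injective_of_mono {M N : X.Modules} (φ : M ⟶ N) [Mono φ] (x : X) :
    Function.Injective (stalkMap φ x) := by
  rw [stalkMap_injective_iff]
  exact subsingleton_stalk_of_isZero _ (isZero_kernel_of_mono φ) x

theorem stalkMap_surjective_of_epi {M N : X.Modules} (φ : M ⟶ N) [Epi φ] (x : X) :
    Function.Surjective (stalkMap φ x) := by
  rw [stalkMap_surjective_iff]
  exact subsingleton_stalk_of_isZero _ (isZero_cokernel_of_epi φ) x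

theorem stalkMap_exact (T : ShortComplex X.Modules) (hT : T.Exact) (x : X) :
    Function.Exact (stalkMap T.f x) (stalkMap T.g x) := by
  intro t
  constructor
  · intro ht
    obtain ⟨V, hxV, m, rfl⟩ := TopCat.Presheaf.exists_germ_eq T.X₂.presheaf t
    rw [stalkMap_germ] at ht
    obtain ⟨V', hV'V, hxV', hV'⟩ := exists_res_eq_zero_of_germ_eq_zero x T.X₃ hxV _ ht
    rw [← app_res] at hV'
    -- the short complex `cycles ⟶ X₂ ⟶ X₃`
    let S' : ShortComplex X.Modules := ShortComplex.mk T.iCycles T.g T.iCycles_g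
    have hS' : S'.Exact := ShortComplex.exact_of_f_is_kernel S' T.cyclesIsKernel
    haveI : Mono S'.f := inferInstanceAs (Mono T.iCycles)
    obtain ⟨c, hc⟩ := exists_app_eq_of_exact S' hS' V' _ hV'
    have hc' : T.iCycles.app V' c = T.X₂.presheaf.map (homOfLE hV'V).op m := hc
    haveI : Epi T.toCycles := hT.epi_toCycles
    obtain ⟨V'', hV''V', l, hxV'', hl⟩ :=
      Groth.Agent.H53.modules_epi_locally_surjective T.toCycles V' c x hxV'
    refine ⟨T.X₁.presheaf.germ V'' x hxV'' l, ?_⟩
    rw [stalkMap_germ]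
    have h1 : T.f.app V'' l = T.iCycles.app V'' (T.toCycles.app V'' l) := by
      conv_lhs => rw [← T.toCycles_i]
      rfl
    rw [h1, hl, app_res, hc', germ_res, germ_res]
  · rintro ⟨s, rfl⟩
    obtain ⟨V, hxV, l, rfl⟩ := TopCat.Presheaf.exists_germ_eq T.X₁.presheaf s
    rw [stalkMap_germ, stalkMap_germ, app_comp_eq_zero T V l, map_zero]

lemma stalkMap_smul {M N : X.Modules} (φ : M ⟶ N) (x : X)
    (r : X.presheaf.stalk x) (m : M.presheaf.stalk x) :
    stalkMap φ x (r • m) = r • stalkMap φ x m := by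
  obtain ⟨U, hxU, a, rfl⟩ := X.presheaf.exists_germ_eq r
  obtain ⟨U', hxU', m₀, rfl⟩ := M.presheaf.exists_germ_eq m
  have hxW : x ∈ U ⊓ U' := ⟨hxU, hxU'⟩
  rw [← X.presheaf.germ_res_apply (homOfLE (inf_le_left : U ⊓ U' ≤ U)) x hxW a,
    ← M.presheaf.germ_res_apply (homOfLE (inf_le_right : U ⊓ U' ≤ U')) x hxW m₀,
    ← germ_smul M x hxW, stalkMap_germ, stalkMap_germ, ← germ_smul N x hxW,
    Scheme.Modules.Hom.app_smul]

/-- The stalk map as a linear map over the local ring. -/
noncomputable def stalkMapₗ {M N : X.Modules} (φ : M ⟶ N) (x : X) :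
    M.presheaf.stalk x →ₗ[X.presheaf.stalk x] N.presheaf.stalk x where
  toFun := stalkMap φ x
  map_add' := fun a b => map_add _ a b
  map_smul' := fun r m => stalkMap_smul φ x r m

@[simp] lemma stalkMapₗ_apply {M N : X.Modules} (φ : M ⟶ N) (x : X) (m : M.presheaf.stalk x) :
    stalkMapₗ φ x m = stalkMap φ x m := rfl

end Groth.Agent.H17.StalkSeq
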