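import Groth.Agent.S16488
import Groth.Agent.S16489
import Groth.Agent.H17.StalkSeq
import Groth.Agent.H17.ReflSheaf
import Groth.Agent.H17.ReflNormal
import Groth.Agent.H9.SchemeDimStalk
import Groth.Agent.H54.SchemeDim2
import Groth.Agent.H90.RegPerf
import Groth.Agent.H90.QCohHom
import Groth.Agent.H8.CohKerCoker
import Groth.Agent.H8.LocFreeStalk

/-!
# Kernels of maps from locally free modules on regular schemes of dimension at most two
-/

set_option autoImplicit false
set_option linter.style.haveILetI false
universe u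
open CategoryTheory CategoryTheory.Limits AlgebraicGeometry TopologicalSpace Opposite

namespace Groth.Agent.H17.KerLocFree

variable {X : Scheme.{u}}

/-- stalks of finite locally free modules are free. -/
theorem free_stalk_of_isFinLocFree {M : X.Modules} (hM : FlatMod.IsFinLocFree M) (x : X) :
    Module.Free (X.presheaf.stalk x) (M.presheaf.stalk x) := by
  haveI := Groth.Agent.H90.QH.projective_stalk_of_isFinLocFree hM x
  haveI : Module.Finite (X.presheaf.stalk x) (M.presheaf.stalk x) :=
    Groth.Agent.H8.finite_stalk_of_isCoh M (Groth.Agent.H90.QH.isCoh_of_isFinLocFree hM) x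
  exact Module.free_of_flat_of_isLocalRing

/-- finite locally free modules are reflexive. -/
theorem isReflexive_of_isFinLocFree [IsIntegral X] [IsLocallyNoetherian X] {M : X.Modules}
    (hM : FlatMod.IsFinLocFree M) : RefHull.IsReflexive M := by
  have hMc : Coh.IsCoh M := Groth.Agent.H90.QH.isCoh_of_isFinLocFree hM
  apply Groth.Agent.H17.ReflSheaf.isReflexive_of_closed_points M hMc
  intro x _
  haveI := free_stalk_of_isFinLocFree hM x
  haveI : Module.Finite (X.presheaf.stalk x) (M.presheaf.stalk x) :=
    Groth.Agent.H8.finite_stalk_of_isCoh M hMc x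
  change Module.IsReflexive (X.presheaf.stalk x) (M.presheaf.stalk x)
  infer_instance

/-- a subobject of a module with free stalks on an integral scheme is torsion free. -/
theorem isTorsionFree_of_mono [IsIntegral X] {K M : X.Modules} (i : K ⟶ M) [Mono i]
    (hM : ∀ x : X, Module.Free (X.presheaf.stalk x) (M.presheaf.stalk x)) :
    TorSh.IsTorsionFree K := by
  intro x
  haveI := hM x
  haveI : IsDomain (X.presheaf.stalk x) := inferInstance
  have hinj := Groth.Agent.H17.StalkSeq.stalkMap_injective_of_mono i x
  refine ⟨fun r hr a b hab => ?_⟩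
  apply hinj
  have h1 : Groth.Agent.H17.StalkSeq.stalkMapₗ i x (r • a) =
      Groth.Agent.H17.StalkSeq.stalkMapₗ i x (r • b) := congrArg _ hab
  rw [map_smul, map_smul] at h1
  have hreg' : IsSMulRegular (M.presheaf.stalk x) r :=
    Module.IsTorsionFree.isSMulRegular hr
  exact hreg' h1

/-- a coherent module with free stalks on a locally Noetherian scheme is finite locally free. -/
theorem isFinLocFree_of_free_stalks [IsLocallyNoetherian X] (K : X.Modules) (hK : Coh.IsCoh K)
    (hfree : ∀ x : X, Module.Free (X.presheaf.stalk x) (K.presheaf.stalk x)) :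
    FlatMod.IsFinLocFree K := by
  haveI : K.IsQuasicoherent := hK.1
  intro x
  obtain ⟨_, ⟨U, hU, rfl⟩, hxU, -⟩ :=
    X.isBasis_affineOpens.exists_subset_of_mem_open (Set.mem_univ x) isOpen_univ
  replace hU : IsAffineOpen U := hU
  haveI : IsNoetherianRing Γ(X, U) := IsLocallyNoetherian.component_noetherian ⟨U, hU⟩
  haveI := Groth.Agent.H8.finite_sections_of_isCoh K hK hU
  haveI : Module.FinitePresentation Γ(X, U) Γ(K, U) :=
    Module.finitePresentation_of_finite Γ(X, U) Γ(K, U)
  haveI := hfree x
  obtain ⟨f, hxf, n, hiso⟩ :=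
    Groth.Agent.H8.exists_basicOpen_restrict_iso_freeMod_of_free_stalk K hU x hxU
  exact ⟨X.basicOpen f, n, hxf, hiso⟩

/-- the kernel of a short exact sequence `0 → K → E → Q → 0` with `E` reflexive has the Hartogs
property for a pair of opens `V ≤ U` with complement of codimension at least two, provided `Q` has
injective restriction for this pair. -/
theorem ker_res_bijective [IsIntegral X] [IsLocallyNoetherian X]
    (hreg : ∀ x : X, IsRegularLocalRing (X.presheaf.stalk x)) (S : ShortComplex X.Modules)
    (hS : S.ShortExact) (hE : Coh.IsCoh S.X₂) (hErefl : RefHull.IsReflexive S.X₂)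
    {U V : X.Opens} (hVU : V ≤ U)
    (h : ∀ x : X, x ∈ U → x ∉ V → (2 : WithBot ℕ∞) ≤ ringKrullDim (X.presheaf.stalk x))
    (hQinj : Function.Injective (S.X₃.presheaf.map (homOfLE hVU).op)) :
    Function.Bijective (S.X₁.presheaf.map (homOfLE hVU).op) := by
  haveI : Mono S.f := hS.mono_f
  have hE' := Groth.Agent.H17.ReflNormal.isNormalMod_of_isReflexive hreg S.X₂ hE hErefl U V hVU h
  constructor
  · intro s s' hs
    apply Groth.Agent.H8.app_injective_of_mono S.f U
    apply hE'.1
    rw [← Groth.Agent.H22.QCohLimits.app_res, ← Groth.Agent.H22.QCohLimits.app_res, hs]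
  · intro t
    obtain ⟨e, he⟩ := hE'.2 (S.f.app V t)
    have hq : S.g.app U e = 0 := by
      apply hQinj
      rw [map_zero, ← Groth.Agent.H22.QCohLimits.app_res, he]
      exact Groth.Agent.H8.app_comp_eq_zero S V t
    obtain ⟨s, hs⟩ := Groth.Agent.H8.exists_app_eq_of_exact S hS.exact U e hq
    refine ⟨s, Groth.Agent.H8.app_injective_of_mono S.f V ?_⟩
    rw [Groth.Agent.H22.QCohLimits.app_res, hs, he]

/-- On an integral regular scheme of dimension at most two, the kernel of an epimorphism from a
finite locally free module onto a coherent module `Q` is finite locally free as soon as `Q` has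
injective restriction maps for pairs of opens with complement of codimension at least two. -/
theorem isFinLocFree_kernel [IsIntegral X] [IsLocallyNoetherian X]
    (hreg : ∀ x : X, IsRegularLocalRing (X.presheaf.stalk x))
    (hdim : topologicalKrullDim X ≤ 2)
    {M Q : X.Modules} (hM : FlatMod.IsFinLocFree M) (hQ : Coh.IsCoh Q) (φ : M ⟶ Q) [Epi φ]
    (hQinj : ∀ (U V : X.Opens) (hVU : V ≤ U),
      (∀ x : X, x ∈ U → x ∉ V → (2 : WithBot ℕ∞) ≤ ringKrullDim (X.presheaf.stalk x)) →
      Function.Injective (Q.presheaf.map (homOfLE hVU).op)) :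
    FlatMod.IsFinLocFree (kernel φ) := by
  have hMc : Coh.IsCoh M := Groth.Agent.H90.QH.isCoh_of_isFinLocFree hM
  have hMrefl : RefHull.IsReflexive M := isReflexive_of_isFinLocFree hM
  have hK : Coh.IsCoh (kernel φ) := Groth.Agent.H8.isCoh_kernel hMc hQ φ
  let S : ShortComplex X.Modules := ShortComplex.mk (kernel.ι φ) φ (kernel.condition φ)
  have hS : S.ShortExact :=
    { exact := ShortComplex.exact_kernel φ
      mono_f := (inferInstance : Mono (kernel.ι φ))
      epi_g := (inferInstance : Epi φ) }
  have hKtf : TorSh.IsTorsionFree (kernel φ) :=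
    isTorsionFree_of_mono (kernel.ι φ) (free_stalk_of_isFinLocFree hM)
  have hKrefl : RefHull.IsReflexive (kernel φ) :=
    (Groth.Agent.S16489.result X hreg (kernel φ) hK).mpr ⟨hKtf, fun U V hVU h =>
      ker_res_bijective hreg S hS hMc hMrefl hVU h (hQinj U V hVU h)⟩
  apply isFinLocFree_of_free_stalks _ hK
  intro x
  by_contra hx
  have h3 := Groth.Agent.S16488.result X hreg (kernel φ) hK hKrefl x hx
  have h2 := (Groth.Agent.H9.FibDim.ringKrullDim_stalk_le X x).trans hdim
  have h32 : (3 : WithBot ℕ∞) ≤ 2 := h3.trans h2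
  exact absurd h32 (by decide)

end Groth.Agent.H17.KerLocFree
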