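import Mathlib

set_option autoImplicit false

universe u

namespace Groth.Agent.H17.NN_RING

open Polynomial

lemma pow_mem_of_scaleRoots {A : Type*} [CommRing A] (π a : A) (k : ℕ) (hk : 0 < k)
    (p : A[X]) (hp : p.Monic) (h : (scaleRoots p (π ^ k)).eval a = 0) :
    a ^ p.natDegree ∈ Ideal.span {π} := by
  rw [Polynomial.eval_eq_sum_range, natDegree_scaleRoots, Finset.sum_range_succ,
    coeff_scaleRoots_natDegree, hp.leadingCoeff, one_mul] at h
  have h' : a ^ p.natDegree =
      - ∑ i ∈ Finset.range p.natDegree, (scaleRoots p (π ^ k)).coeff i * a ^ i :=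
    eq_neg_of_add_eq_zero_right h
  rw [h']
  apply neg_mem
  apply Ideal.sum_mem
  intro i hi
  rw [coeff_scaleRoots]
  have hpos : 0 < p.natDegree - i := Nat.sub_pos_of_lt (Finset.mem_range.1 hi)
  apply Ideal.mul_mem_right
  apply Ideal.mul_mem_left
  rw [← pow_mul]
  exact Ideal.pow_mem_of_mem _ (Ideal.mem_span_singleton_self π) _ (Nat.mul_pos hk hpos)

lemma key {A : Type*} [CommRing A] (π : A) (B : Type*) [CommRing B] [Algebra A B]
    [IsLocalization.Away π B]
    (hinj : Function.Injective (algebraMap A B))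
    (hrad : ∀ (a : A) (m : ℕ), a ^ m ∈ Ideal.span {π} → a ∈ Ideal.span {π})
    (b : B) (hb : IsIntegral A b) : ∃ a : A, algebraMap A B a = b := by
  obtain ⟨⟨a, s⟩, hs⟩ := IsLocalization.surj (Submonoid.powers π) b
  obtain ⟨n, hn⟩ := s.2
  have main : ∀ (n : ℕ) (a : A), b * algebraMap A B (π ^ n) = algebraMap A B a →
      ∃ a', algebraMap A B a' = b := by
    intro n
    induction n with
    | zero => intro a h; exact ⟨a, by simpa using h.symm⟩
    | succ n ih =>
      intro a h
      obtain ⟨p, hpm, hpb⟩ := hb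
      have h0 : Polynomial.eval₂ (algebraMap A B) (algebraMap A B (π ^ (n + 1)) * b)
          (Polynomial.scaleRoots p (π ^ (n + 1))) = 0 :=
        Polynomial.scaleRoots_eval₂_eq_zero _ hpb
      rw [mul_comm, h, Polynomial.eval₂_at_apply] at h0
      have h1 : (scaleRoots p (π ^ (n + 1))).eval a = 0 := hinj (by rw [h0, map_zero])
      have h2 : a ^ p.natDegree ∈ Ideal.span {π} :=
        pow_mem_of_scaleRoots π a (n + 1) (Nat.succ_pos n) p hpm h1
      obtain ⟨a', rfl⟩ := Ideal.mem_span_singleton'.1 (hrad a _ h2)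
      apply ih a'
      have hu : IsUnit (algebraMap A B π) := IsLocalization.Away.algebraMap_isUnit π
      apply hu.mul_left_injective
      simp only [map_pow, map_mul] at h ⊢
      rw [← h]; ring
  have hn' : π ^ n = (s : A) := hn
  exact main n a (by rw [hn']; exact hs)

lemma idem_local {A : Type*} [CommRing A] [IsLocalRing A] (a : A) (h : a * a = a) :
    a = 0 ∨ a = 1 := by
  rcases IsLocalRing.isUnit_or_isUnit_one_sub_self a with hu | hu
  · right
    have h1 : a * (a - 1) = 0 := by rw [mul_sub, h, mul_one, sub_self]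
    exact sub_eq_zero.1 (hu.mul_right_eq_zero.1 h1)
  · left
    have h1 : (1 - a) * a = 0 := by rw [sub_mul, one_mul, h, sub_self]
    exact hu.mul_right_eq_zero.1 h1

lemma isIntegral_of_idem {A B : Type*} [CommRing A] [Nontrivial A] [CommRing B] [Algebra A B]
    (e : B) (he : e * e = e) : IsIntegral A e := by
  refine ⟨X ^ 2 - X, ?_, ?_⟩
  · exact (monic_X_pow 2).sub_of_left (by rw [degree_X_pow, degree_X]; norm_num)
  · simp [pow_two, he]

lemma isDomain_of_local_domains {A B : Type*} [CommRing A] [IsLocalRing A] [CommRing B]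
    [Algebra A B] [IsNoetherianRing B]
    (hinj : Function.Injective (algebraMap A B))
    (hidem : ∀ e : B, e * e = e → ∃ a : A, algebraMap A B a = e)
    (hloc : ∀ (Q : Ideal B) [Q.IsMaximal], IsDomain (Localization.AtPrime Q)) : IsDomain B := by
  haveI : Nontrivial B := hinj.nontrivial
  haveI : IsReduced B := isReduced_ofLocalizationMaximal B (fun J hJ => by
    haveI := hJ; haveI := hloc J; infer_instance)
  have hcomax : ∀ q₁ ∈ (⊥ : Ideal B).minimalPrimes, ∀ q₂ ∈ (⊥ : Ideal B).minimalPrimes,
      q₁ ≠ q₂ → q₁ ⊔ q₂ = ⊤ := by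
    intro q₁ h₁ q₂ h₂ hne
    by_contra htop
    obtain ⟨Q, hQ, hle⟩ := Ideal.exists_le_maximal _ htop
    haveI := hQ
    haveI := hloc Q
    haveI hKp : (RingHom.ker (algebraMap B (Localization.AtPrime Q))).IsPrime :=
      RingHom.ker_isPrime _
    have hKle : ∀ q : Ideal B, q.IsPrime → q ≤ Q →
        RingHom.ker (algebraMap B (Localization.AtPrime Q)) ≤ q := by
      intro q hq hqQ x hx
      rw [RingHom.mem_ker, IsLocalization.map_eq_zero_iff Q.primeCompl] at hx
      obtain ⟨s, hs⟩ := hx
      have : (s : B) * x ∈ q := by rw [hs]; exact q.zero_mem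
      rcases hq.mem_or_mem this with h | h
      · exact absurd (hqQ h) s.2
      · exact h
    have l₁ := hKle q₁ h₁.1.1 (le_sup_left.trans hle)
    have l₂ := hKle q₂ h₂.1.1 (le_sup_right.trans hle)
    have e₁ : q₁ = _ := le_antisymm (h₁.2 ⟨hKp, bot_le⟩ l₁) l₁
    have e₂ : q₂ = _ := le_antisymm (h₂.2 ⟨hKp, bot_le⟩ l₂) l₂
    exact hne (e₁.trans e₂.symm)
  obtain ⟨M, hM⟩ := Ideal.exists_maximal B
  haveI := hM.isPrime
  obtain ⟨q, hq, -⟩ := Ideal.exists_minimalPrimes_le (bot_le : (⊥ : Ideal B) ≤ M)
  have hfin := Ideal.finite_minimalPrimes_of_isNoetherianRing B ⊥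
  classical
  set s : Finset (Ideal B) := hfin.toFinset.erase q with hs
  have hsup : q ⊔ ⨅ q' ∈ s, q' = ⊤ := Ideal.sup_iInf_eq_top (fun q' hq' => by
    rw [hs, Finset.mem_erase, Set.Finite.mem_toFinset] at hq'
    exact hcomax q hq q' hq'.2 (Ne.symm hq'.1))
  obtain ⟨e, he, f, hf, hef⟩ := Submodule.mem_sup.1
    (hsup ▸ Submodule.mem_top : (1 : B) ∈ q ⊔ ⨅ q' ∈ s, q')
  have hzero : ∀ x : B, x ∈ q → x ∈ (⨅ q' ∈ s, q') → x = 0 := by
    intro x hxq hxJ
    have hx : x ∈ (⊥ : Ideal B).radical := by
      rw [← Ideal.sInf_minimalPrimes, Submodule.mem_sInf]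
      intro q' hq'
      by_cases hqq : q' = q
      · rw [hqq]; exact hxq
      · have hmem : q' ∈ s := Finset.mem_erase.2 ⟨hqq, hfin.mem_toFinset.2 hq'⟩
        exact (Submodule.mem_iInf _).1 ((Submodule.mem_iInf _).1 hxJ q') hmem
    obtain ⟨n, hn⟩ := hx
    exact IsNilpotent.eq_zero ⟨n, by simpa using hn⟩
  have hef0 : e * f = 0 := hzero _ (q.mul_mem_right _ he) (Ideal.mul_mem_left _ _ hf)
  have hee : e * e = e := by
    have h1 : e * (e + f) = e := by rw [hef, mul_one]
    rw [mul_add, hef0, add_zero] at h1; exact h1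
  obtain ⟨a, rfl⟩ := hidem e hee
  have haa : a * a = a := hinj (by rw [map_mul]; exact hee)
  rcases idem_local a haa with rfl | rfl
  · rw [map_zero, zero_add] at hef
    have hJtop : (⨅ q' ∈ s, q') = ⊤ := (Ideal.eq_top_iff_one _).2 (hef ▸ hf)
    have hqbot : q = ⊥ := by
      rw [eq_bot_iff]; intro x hx
      exact (Submodule.mem_bot _).2 (hzero x hx (hJtop ▸ Submodule.mem_top))
    have hprime : (⊥ : Ideal B).IsPrime := hqbot ▸ hq.1.1
    haveI : NoZeroDivisors B := ⟨fun {x y} hxy => by
      have hmem : x * y ∈ (⊥ : Ideal B) := (Submodule.mem_bot _).2 hxy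
      rcases hprime.mem_or_mem hmem with h | h
      · exact Or.inl ((Submodule.mem_bot _).1 h)
      · exact Or.inr ((Submodule.mem_bot _).1 h)⟩
    exact NoZeroDivisors.to_isDomain B
  · rw [map_one] at he
    exact absurd ((Ideal.eq_top_iff_one q).2 he) hq.1.1.ne_top

theorem normal_of_fibre_reduced {R A : Type u} [CommRing R] [IsDedekindDomain R] [CommRing A]
    [IsLocalRing A] [IsNoetherianRing A] [Algebra R A] [Module.Flat R A]
    (hp : (IsLocalRing.maximalIdeal A).comap (algebraMap R A) ≠ ⊥)
    (hred : IsReduced (A ⧸ ((IsLocalRing.maximalIdeal A).comap (algebraMap R A)).map (algebraMap R A)))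
    (hgen : ∀ (q : Ideal A) [q.IsPrime], q.comap (algebraMap R A) = ⊥ →
      IsDomain (Localization.AtPrime q) ∧ IsIntegrallyClosed (Localization.AtPrime q)) :
    IsDomain A ∧ IsIntegrallyClosed A := by
  set p := (IsLocalRing.maximalIdeal A).comap (algebraMap R A) with hpdef
  haveI hpprime : p.IsPrime := Ideal.comap_isPrime _ _
  obtain ⟨π₀, hπ₀1, hπ₀2⟩ := Ideal.exists_mem_pow_notMem_pow_succ p hp hpprime.ne_top 1
  rw [pow_one] at hπ₀1
  have hπ₀ne : π₀ ≠ 0 := by rintro rfl; exact hπ₀2 (Ideal.zero_mem _)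
  have hpeq : p = Ideal.span {π₀} ⊔ p ^ 2 := by
    have h1 : p ^ (1 + 1) < Ideal.span {π₀} ⊔ p ^ 2 := by
      refine lt_of_le_of_ne le_sup_right ?_
      intro h; apply hπ₀2; rw [h]
      exact Ideal.mem_sup_left (Ideal.mem_span_singleton_self _)
    have h2 : Ideal.span {π₀} ⊔ p ^ 2 ≤ p ^ 1 := by
      rw [pow_one]
      exact sup_le ((Ideal.span_singleton_le_iff_mem _).2 hπ₀1) (Ideal.pow_le_self two_ne_zero)
    have := Ideal.eq_prime_pow_of_succ_lt_of_le (P := p) hp h1 h2
    rw [this, pow_one]
  set π := algebraMap R A π₀ with hπdef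
  have hpA : p.map (algebraMap R A) = Ideal.span {π} := by
    apply le_antisymm
    · apply Submodule.le_of_le_smul_of_le_jacobson_bot (I := p.map (algebraMap R A))
        (IsNoetherian.noetherian _)
      · rw [IsLocalRing.jacobson_eq_maximalIdeal ⊥ bot_ne_top]; exact Ideal.map_comap_le
      · conv_lhs => rw [hpeq]
        rw [Ideal.map_sup, Ideal.map_span, Set.image_singleton, Ideal.map_pow, smul_eq_mul, sq]
    · exact (Ideal.span_singleton_le_iff_mem _).2 (Ideal.mem_map_of_mem _ hπ₀1)
  have hπreg : π ∈ nonZeroDivisors A := by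
    have hreg : IsSMulRegular A π₀ :=
      Module.Flat.isSMulRegular_of_nonZeroDivisors (mem_nonZeroDivisors_of_ne_zero hπ₀ne)
    rw [mem_nonZeroDivisors_iff_right]
    intro x hx
    apply hreg
    show π₀ • x = π₀ • 0
    rw [smul_zero, Algebra.smul_def, mul_comm]; exact hx
  have hinj : Function.Injective (algebraMap A (Localization.Away π)) :=
    IsLocalization.injective _ (Submonoid.powers_le.2 hπreg)
  have hrad : ∀ (a : A) (m : ℕ), a ^ m ∈ Ideal.span {π} → a ∈ Ideal.span {π} := by
    intro a m h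
    rw [← hpA] at h ⊢
    rw [← Ideal.Quotient.eq_zero_iff_mem] at h ⊢
    rw [map_pow] at h
    exact IsNilpotent.eq_zero ⟨m, h⟩
  have hkey : ∀ b : Localization.Away π, IsIntegral A b → ∃ a, algebraMap A _ a = b :=
    key π (Localization.Away π) hinj hrad
  have hlocal : ∀ (Q : Ideal (Localization.Away π)) [Q.IsPrime],
      IsDomain (Localization.AtPrime Q) ∧ IsIntegrallyClosed (Localization.AtPrime Q) := by
    intro Q hQ
    haveI hqp : (Q.comap (algebraMap A (Localization.Away π))).IsPrime := Ideal.comap_isPrime _ _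
    haveI : IsLocalization.AtPrime (Localization.AtPrime Q)
        (Q.comap (algebraMap A (Localization.Away π))) :=
      IsLocalization.isLocalization_isLocalization_atPrime_isLocalization (Submonoid.powers π)
        (Localization.AtPrime Q) Q
    have hq0 : (Q.comap (algebraMap A (Localization.Away π))).comap (algebraMap R A) = ⊥ := by
      by_contra hne
      have hmax : ((Q.comap (algebraMap A (Localization.Away π))).comap
          (algebraMap R A)).IsMaximal := Ideal.IsPrime.isMaximal inferInstance hne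
      have hle : (Q.comap (algebraMap A (Localization.Away π))).comap (algebraMap R A) ≤ p :=
        Ideal.comap_mono (IsLocalRing.le_maximalIdeal hqp.ne_top)
      have heq := hmax.eq_of_le hpprime.ne_top hle
      have h1 : π₀ ∈ (Q.comap (algebraMap A (Localization.Away π))).comap (algebraMap R A) :=
        heq ▸ hπ₀1
      have h2 : algebraMap A (Localization.Away π) π ∈ Q := h1
      exact hQ.ne_top (Ideal.eq_top_of_isUnit_mem _ h2 (IsLocalization.Away.algebraMap_isUnit π))
    obtain ⟨hd, hic⟩ := hgen _ hq0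
    let e : Localization.AtPrime (Q.comap (algebraMap A (Localization.Away π))) ≃ₐ[A]
        Localization.AtPrime Q :=
      IsLocalization.algEquiv (Q.comap (algebraMap A (Localization.Away π))).primeCompl _ _
    haveI := hd
    haveI := hic
    exact ⟨Function.Injective.isDomain (e.symm.toRingEquiv.toRingHom) e.symm.toRingEquiv.injective,
      IsIntegrallyClosed.of_equiv e.toRingEquiv⟩
  haveI : IsNoetherianRing (Localization.Away π) :=
    IsLocalization.isNoetherianRing (Submonoid.powers π) _ inferInstance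
  haveI hBdom : IsDomain (Localization.Away π) :=
    isDomain_of_local_domains hinj (fun e he => hkey e (isIntegral_of_idem e he))
      (fun Q _ => (hlocal Q).1)
  haveI hAdom : IsDomain A := Function.Injective.isDomain (algebraMap A (Localization.Away π)) hinj
  haveI hBic : IsIntegrallyClosed (Localization.Away π) :=
    IsIntegrallyClosed.of_localization_maximal (fun Q _ _ => (hlocal Q).2)
  refine ⟨hAdom, ?_⟩
  have hu : ∀ y : Submonoid.powers π, IsUnit (algebraMap A (FractionRing A) y) := fun y =>
    IsLocalization.map_units (FractionRing A)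
      (⟨y, Submonoid.powers_le.2 hπreg y.2⟩ : nonZeroDivisors A)
  letI : Algebra (Localization.Away π) (FractionRing A) := (IsLocalization.lift hu).toAlgebra
  haveI : IsScalarTower A (Localization.Away π) (FractionRing A) :=
    IsScalarTower.of_algebraMap_eq (fun a => (IsLocalization.lift_eq hu a).symm)
  haveI : IsFractionRing (Localization.Away π) (FractionRing A) :=
    IsFractionRing.isFractionRing_of_isDomain_of_isLocalization (Submonoid.powers π) _ _
  rw [isIntegrallyClosed_iff (FractionRing A)]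
  intro x hx
  obtain ⟨b, rfl⟩ := IsIntegrallyClosed.isIntegral_iff.1 (hx.tower_top (A := Localization.Away π))
  have hb : IsIntegral A b :=
    (isIntegral_algHom_iff (IsScalarTower.toAlgHom A (Localization.Away π) (FractionRing A))
      (IsFractionRing.injective (Localization.Away π) _)).1 hx
  obtain ⟨a, rfl⟩ := hkey b hb
  exact ⟨a, IsScalarTower.algebraMap_apply A (Localization.Away π) (FractionRing A) a⟩

end Groth.Agent.H17.NN_RING
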