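import Mathlib
import Groth.Prelude.Def_DefoSh2
import Groth.Agent.H36.FreeIsoRestrict
import Groth.Agent.H82.LocHomGlue
import Groth.Agent.H8.FreeMod

/-!
# Local splitting of a stalkwise surjection onto a finite locally free module
-/

set_option autoImplicit false
universe u
open CategoryTheory CategoryTheory.Limits AlgebraicGeometry TopologicalSpace Opposite

namespace Groth.Agent.H17.DefoLocP3

open Groth.Agent.H8 Groth.Agent.H36.FreeIsoRestrict

/-- local lifting of one section through a stalkwise surjection -/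
theorem exists_local_lift {X : Scheme.{u}} (E Dsh : X.Modules) (π : Dsh ⟶ E) (x : X)
    (hsurj : Function.Surjective (RefHull.stalkMapₗ π x)) (U0 : X.Opens) (hx0 : x ∈ U0)
    (s : Γ(E, U0)) :
    ∃ (W : X.Opens) (hW0 : W ≤ U0) (_ : x ∈ W) (d : Γ(Dsh, W)),
      π.app W d = E.presheaf.map (homOfLE hW0).op s := by
  obtain ⟨v, hv⟩ := hsurj (E.presheaf.germ U0 x hx0 s)
  obtain ⟨V, hxV, d, rfl⟩ := TopCat.Presheaf.exists_germ_eq Dsh.presheaf v
  rw [RefHull.stalkMapₗ_germ] at hv
  obtain ⟨W, hxW, iV, i0, hW⟩ := TopCat.Presheaf.germ_eq E.presheaf x hxV hx0 _ _ hv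
  refine ⟨W, leOfHom i0, hxW, Dsh.presheaf.map (homOfLE (leOfHom iV)).op d, ?_⟩
  rw [app_res]
  exact hW

theorem exists_local_split {X : Scheme.{u}} (E Dsh : X.Modules) (π : Dsh ⟶ E)
    (hsurj : ∀ p : X, Function.Surjective (RefHull.stalkMapₗ π p))
    (hE : FlatMod.IsFinLocFree E) (x : X) :
    ∃ (U : X.Opens) (σ : E.restrict U.ι ⟶ Dsh.restrict U.ι), x ∈ U ∧
      σ ≫ (Scheme.Modules.restrictFunctor U.ι).map π = 𝟙 _ := by
  classical
  obtain ⟨U0, n, hx0, ⟨e0⟩⟩ := hE x
  obtain ⟨s, hs⟩ := Groth.Agent.H82.LFG.exists_isBasisOn E e0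
  choose W hW0 hxW d hd using fun i : Fin n =>
    exists_local_lift E Dsh π x (hsurj x) U0 hx0 (s i)
  let U : X.Opens := U0 ⊓ Finset.univ.inf W
  have hxU : x ∈ U := by
    refine ⟨hx0, ?_⟩
    refine Finset.inf_induction (p := fun O : X.Opens => x ∈ O) trivial
      (fun a ha b hb => ⟨ha, hb⟩) (fun i _ => hxW i)
  have hU0 : U ≤ U0 := inf_le_left
  have hUW : ∀ i, U ≤ W i := fun i => inf_le_right.trans (Finset.inf_le (Finset.mem_univ i))
  let s' : Fin n → Γ(E, U) := fun i => E.presheaf.map (homOfLE hU0).op (s i)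
  let d' : Fin n → Γ(Dsh, U) := fun i => Dsh.presheaf.map (homOfLE (hUW i)).op (d i)
  have hd' : ∀ i, π.app U (d' i) = s' i := by
    intro i
    show π.app U (Dsh.presheaf.map (homOfLE (hUW i)).op (d i)) = _
    rw [app_res, hd i, res_res]
  have hmono : Mono (secMap E U n s') := by
    apply mono_secMap
    intro O hO c hc
    have h1 := (hs O (hO.trans hU0)).1
    apply h1
    show ∑ l, c l • E.presheaf.map (homOfLE (hO.trans hU0)).op (s l) =
      ∑ l, (0 : Fin n → Γ(X, O)) l • E.presheaf.map (homOfLE (hO.trans hU0)).op (s l)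
    simp only [Pi.zero_apply, zero_smul, Finset.sum_const_zero]
    rw [← hc]
    refine Finset.sum_congr rfl fun l _ => ?_
    show _ = c l • E.presheaf.map (homOfLE hO).op (E.presheaf.map (homOfLE hU0).op (s l))
    rw [res_res]
  have hepi : Epi (secMap E U n s') := by
    apply epi_secMap
    intro O hO t y hy
    obtain ⟨c, hc⟩ := (hs O (hO.trans hU0)).2 t
    refine ⟨O, le_rfl, hy, c, ?_⟩
    have h2 : E.presheaf.map (homOfLE (le_refl O)).op t = t := by
      have : (homOfLE (le_refl O)).op = 𝟙 (op O) := rfl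
      rw [this, E.presheaf.map_id]
      rfl
    rw [h2, ← hc]
    refine Finset.sum_congr rfl fun l _ => ?_
    show _ = c l • E.presheaf.map (homOfLE _).op (E.presheaf.map (homOfLE hU0).op (s l))
    rw [res_res]
  have hiso : IsIso (secMap E U n s') := isIso_of_mono_of_epi _
  have key : secMap Dsh U n d' ≫ (Scheme.Modules.restrictFunctor U.ι).map π =
      secMap E U n s' := by
    apply Scheme.Modules.hom_ext
    intro O
    ext t
    show Scheme.Modules.Hom.app ((Scheme.Modules.restrictFunctor U.ι).map π) O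
      (Scheme.Modules.Hom.app (secMap Dsh U n d') O t) = Scheme.Modules.Hom.app (secMap E U n s') O t
    rw [secMap_app, secMap_app]
    show π.app (U.ι ''ᵁ O) _ = _
    rw [map_sum]
    refine Finset.sum_congr rfl fun i _ => ?_
    rw [Scheme.Modules.Hom.app_smul, app_res, hd' i]
  refine ⟨U, inv (secMap E U n s') ≫ secMap Dsh U n d', hxU, ?_⟩
  rw [Category.assoc, key, IsIso.inv_hom_id]

end Groth.Agent.H17.DefoLocP3
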