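import Mathlib
import Groth.Agent.H58.LCIndep

/-!
# Local cohomology only depends on the radical of the support ideal

If `I` and `J` have the same torsion functor (e.g. the same radical, in a Noetherian ring) then
`H^i_I(M) ≃ₗ[R] H^i_J(M)` for all `i` and `M`.
-/

set_option autoImplicit false
universe u

namespace Groth.Agent.H17.LCRad

open Groth.Agent.H58.LC

variable {R : Type u} [CommRing R]

/-- two ideals with the same torsion functor -/
def SameTors (I J : Ideal R) : Prop :=
  ∀ (X : Type u) [AddCommGroup X] [Module R X], DRing.torsionSub I X = DRing.torsionSub J X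

lemma SameTors.symm {I J : Ideal R} (h : SameTors I J) : SameTors J I :=
  fun X _ _ => (h X).symm

lemma torsionSub_le_of_le_radical {I J : Ideal R} (hJ : J.FG) (h : J ≤ I.radical)
    (X : Type u) [AddCommGroup X] [Module R X] :
    DRing.torsionSub I X ≤ DRing.torsionSub J X := by
  obtain ⟨k, hk⟩ := Ideal.exists_pow_le_of_le_radical_of_fg h hJ
  rintro x ⟨n, hn⟩
  refine ⟨k * n, fun r hr => hn r ?_⟩
  rw [pow_mul] at hr
  exact Ideal.pow_right_mono hk n hr

lemma sameTors_of_radical_eq [IsNoetherianRing R] {I J : Ideal R} (h : I.radical = J.radical) :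
    SameTors I J := fun X _ _ =>
  le_antisymm
    (torsionSub_le_of_le_radical (IsNoetherian.noetherian J) (h ▸ Ideal.le_radical) X)
    (torsionSub_le_of_le_radical (IsNoetherian.noetherian I) (h ▸ Ideal.le_radical) X)

section phi0

variable {I J : Ideal R} (h : SameTors I J) (X : Type u) [AddCommGroup X] [Module R X]

include h in
lemma H0map_mem (x : LocCoh.H I 0 X) : H0map I X x ∈ DRing.torsionSub J X := by
  rw [← h X, ← range_H0map]
  exact ⟨x, rfl⟩

/-- the comparison in degree `0` -/
noncomputable def phi0 (x : LocCoh.H I 0 X) : LocCoh.H J 0 X :=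
  (H0equiv J X).symm ⟨_, H0map_mem h X x⟩

lemma H0map_phi0 (x : LocCoh.H I 0 X) : H0map J X (phi0 h X x) = H0map I X x :=
  H0map_H0equiv_symm J X _

/-- the comparison in degree `0` as an additive equivalence -/
noncomputable def phi0Equiv : LocCoh.H I 0 X ≃+ LocCoh.H J 0 X where
  toFun := phi0 h X
  invFun := phi0 h.symm X
  left_inv x := H0map_injective _ X (by rw [H0map_phi0, H0map_phi0])
  right_inv y := H0map_injective _ X (by rw [H0map_phi0, H0map_phi0])
  map_add' x y := H0map_injective _ X (by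
    rw [H0map_phi0, map_add, map_add, H0map_phi0, H0map_phi0])

lemma phi0_smul (r : R) (x : LocCoh.H I 0 X) : phi0 h X (r • x) = r • phi0 h X x :=
  H0map_injective _ X (by rw [H0map_phi0, map_smul, map_smul, H0map_phi0])

variable {X}

lemma phi0_natural {Y : Type u} [AddCommGroup Y] [Module R Y] (g : X →ₗ[R] Y)
    (x : LocCoh.H I 0 X) :
    phi0 h Y (Hmap I 0 g x) = Hmap J 0 g (phi0 h X x) :=
  H0map_injective _ Y (by rw [H0map_phi0, H0map_natural, H0map_natural, H0map_phi0])

end phi0

section main

variable [IsNoetherianRing R] {I J : Ideal R} (h : SameTors I J)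

include h in
theorem semi_succ (i : ℕ) (M : Type u) [AddCommGroup M] [Module R M]
    (hQ : ∀ (Q : Type u) [AddCommGroup Q] [Module R Q],
      0 < i → ∃ φ : LocCoh.H I i Q ≃+ LocCoh.H J i Q,
        ∀ (r : R) (x : LocCoh.H I i Q), φ (r • x) = r • φ x) :
    ∃ φ : LocCoh.H I (i + 1) M ≃+ LocCoh.H J (i + 1) M,
      ∀ (r : R) (x : LocCoh.H I (i + 1) M), φ (r • x) = r • φ x := by
  obtain ⟨E, _, _, hEinj, j, hj⟩ := Groth.Agent.H58.IH.exists_injective_embedding R M
  haveI := hEinj
  obtain ⟨δ', -, e2', e3', -⟩ := les_mod I j (LinearMap.range j).mkQ hj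
    (Submodule.mkQ_surjective _) (LinearMap.exact_map_mkQ_range j) i
  obtain ⟨δ, -, e2, e3, -⟩ := les_mod J j (LinearMap.range j).mkQ hj
    (Submodule.mkQ_surjective _) (LinearMap.exact_map_mkQ_range j) i
  haveI : Subsingleton (LocCoh.H I (i + 1) E) :=
    subsingleton_H_of_injective _ (i + 1) (Nat.succ_pos i)
  haveI : Subsingleton (LocCoh.H J (i + 1) E) :=
    subsingleton_H_of_injective _ (i + 1) (Nat.succ_pos i)
  have hδ' : Function.Surjective δ' := fun y => (e3' y).1 (Subsingleton.elim _ _)
  have hδ : Function.Surjective δ := fun y => (e3 y).1 (Subsingleton.elim _ _)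
  rcases Nat.eq_zero_or_pos i with h0 | hpos
  · subst h0
    refine semi_transfer R R δ' δ hδ' hδ (phi0Equiv h (E ⧸ LinearMap.range j))
      (fun r x => phi0_smul h _ r x) ?_
    intro x
    refine (e2' x).trans (Iff.trans ?_ (e2 _).symm)
    constructor
    · rintro ⟨e, rfl⟩
      exact ⟨phi0 h E e, (phi0_natural h (LinearMap.range j).mkQ e).symm⟩
    · rintro ⟨e₁, he₁⟩
      obtain ⟨e, rfl⟩ := (phi0Equiv h E).surjective e₁
      refine ⟨e, (phi0Equiv h (E ⧸ LinearMap.range j)).injective ?_⟩
      exact (phi0_natural h (LinearMap.range j).mkQ e).trans he₁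
  · obtain ⟨φQ, hφQ⟩ := hQ (E ⧸ LinearMap.range j) hpos
    haveI : Subsingleton (LocCoh.H I i E) := subsingleton_H_of_injective _ i hpos
    haveI : Subsingleton (LocCoh.H J i E) := subsingleton_H_of_injective _ i hpos
    refine semi_transfer R R δ' δ hδ' hδ φQ (fun r x => hφQ r x) ?_
    intro x
    have h1 : δ' x = 0 ↔ x = 0 :=
      ⟨fun h => by
        obtain ⟨e, rfl⟩ := (e2' x).1 h
        rw [Subsingleton.elim e 0, map_zero], fun h => by rw [h, map_zero]⟩
    have h2 : δ (φQ x) = 0 ↔ φQ x = 0 :=
      ⟨fun h => by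
        obtain ⟨e, he⟩ := (e2 _).1 h
        rw [← he, Subsingleton.elim e 0, map_zero], fun h => by rw [h, map_zero]⟩
    rw [h1, h2]
    exact ⟨fun h => by rw [h, map_zero], fun h => φQ.injective (h.trans (map_zero φQ).symm)⟩

include h in
theorem semi_H : ∀ (i : ℕ) (M : Type u) [AddCommGroup M] [Module R M],
    ∃ φ : LocCoh.H I i M ≃+ LocCoh.H J i M,
      ∀ (r : R) (x : LocCoh.H I i M), φ (r • x) = r • φ x := by
  intro i
  induction i with
  | zero =>
    intro M _ _
    exact ⟨phi0Equiv h M, phi0_smul h M⟩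
  | succ i ih =>
    intro M _ _
    exact semi_succ h i M (fun Q _ _ _ => ih Q)

include h in
/-- **Local cohomology depends only on the torsion functor of the ideal.** -/
theorem nonempty_equiv (i : ℕ) (M : Type u) [AddCommGroup M] [Module R M] :
    Nonempty (LocCoh.H I i M ≃ₗ[R] LocCoh.H J i M) := by
  obtain ⟨φ, hφ⟩ := semi_H h i M
  exact ⟨{ φ with map_smul' := fun r x => hφ r x }⟩

/-- **Local cohomology depends only on the radical of the ideal.** -/
theorem nonempty_equiv_of_radical_eq {I J : Ideal R} (hr : I.radical = J.radical) (i : ℕ)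
    (M : Type u) [AddCommGroup M] [Module R M] :
    Nonempty (LocCoh.H I i M ≃ₗ[R] LocCoh.H J i M) :=
  nonempty_equiv (sameTors_of_radical_eq hr) i M

end main

end Groth.Agent.H17.LCRad
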