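import Mathlib

set_option autoImplicit false
universe u

open IsLocalRing

namespace Groth.Agent.H17.CD_P3b

theorem sup_pow_le {B : Type u} [CommRing B] (𝔞 p : Ideal B) (N : ℕ) :
    (𝔞 ⊔ p) ^ N ≤ 𝔞 ^ N ⊔ p := by
  induction N with
  | zero => simp
  | succ N ih =>
    rw [pow_succ, pow_succ]
    calc (𝔞 ⊔ p) ^ N * (𝔞 ⊔ p) ≤ (𝔞 ^ N ⊔ p) * (𝔞 ⊔ p) := Ideal.mul_mono_left ih
      _ = 𝔞 ^ N * 𝔞 ⊔ 𝔞 ^ N * p ⊔ (p * 𝔞 ⊔ p * p) := by
        rw [Ideal.sup_mul, Ideal.mul_sup, Ideal.mul_sup]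
      _ ≤ 𝔞 ^ N * 𝔞 ⊔ p := by
        refine sup_le (sup_le le_sup_left (le_sup_of_le_right Ideal.mul_le_right))
          (sup_le (le_sup_of_le_right Ideal.mul_le_left)
            (le_sup_of_le_right Ideal.mul_le_left))

theorem le_zero_of_not_one_le (d : WithBot ℕ∞) (h : ¬ 1 ≤ d) : d ≤ 0 := by
  have hlt := not_le.1 h
  induction d using WithBot.recBotCoe with
  | bot => exact bot_le
  | coe e =>
    have h1 : e < 1 := by exact_mod_cast hlt
    have h2 : e = 0 := Order.lt_one_iff.1 h1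
    rw [h2]
    rfl

theorem radical_eq_maximalIdeal_of_dim_zero {T : Type u} [CommRing T] [IsLocalRing T]
    (J : Ideal T) (hJ : J ≠ ⊤) (h : ringKrullDim (T ⧸ J) ≤ 0) :
    J.radical = IsLocalRing.maximalIdeal T := by
  apply le_antisymm
  · exact (IsLocalRing.maximalIdeal.isMaximal T).isPrime.radical_le_iff.2
      (IsLocalRing.le_maximalIdeal hJ)
  · rw [Ideal.radical_eq_sInf]
    apply le_sInf
    rintro P ⟨hJP, hP⟩
    haveI := hP
    have h1 : ringKrullDim (T ⧸ P) ≤ 0 :=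
      (ringKrullDim_le_of_surjective (Ideal.Quotient.factor hJP)
        (Ideal.Quotient.factor_surjective hJP)).trans h
    haveI : Ring.KrullDimLE 0 (T ⧸ P) := Ring.krullDimLE_iff.2 h1
    have h2 : IsField (T ⧸ P) := Ring.KrullDimLE.isField_of_isDomain
    have h3 : P.IsMaximal := Ideal.Quotient.maximal_of_isField P h2
    exact (IsLocalRing.eq_maximalIdeal h3).ge

/-- (P3b) -/
theorem one_le_dim_quotient_sup_minimalPrime (B : Type u) [CommRing B] [IsNoetherianRing B]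
    [IsLocalRing B] (𝔞 : Ideal B) (h𝔞 : 𝔞 ≠ ⊤)
    (hx : ∀ x : B, (∀ N : ℕ, ∃ k : ℕ, ∀ b ∈ maximalIdeal B ^ k, b * x ∈ 𝔞 ^ N) → x = 0)
    (p : Ideal B) (hp : p ∈ minimalPrimes B) : 1 ≤ ringKrullDim (B ⧸ (𝔞 ⊔ p)) := by
  classical
  haveI hpp : p.IsPrime := hp.1.1
  have h𝔞m : 𝔞 ≤ maximalIdeal B := le_maximalIdeal h𝔞
  have hpm : p ≤ maximalIdeal B := le_maximalIdeal hpp.ne_top
  have hK : 𝔞 ⊔ p ≠ ⊤ :=
    fun h => (maximalIdeal.isMaximal B).ne_top (top_le_iff.1 (h ▸ sup_le h𝔞m hpm))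
  by_contra hcon
  have hd : ringKrullDim (B ⧸ (𝔞 ⊔ p)) ≤ 0 := le_zero_of_not_one_le _ hcon
  have hrad := radical_eq_maximalIdeal_of_dim_zero (𝔞 ⊔ p) hK hd
  obtain ⟨n, hn⟩ := Ideal.exists_pow_le_of_le_radical_of_fg (le_of_eq hrad.symm)
    (IsNoetherian.noetherian (maximalIdeal B))
  -- p is an associated prime
  have hann : Module.annihilator B B = ⊥ := by
    rw [Module.annihilator_eq_bot]; infer_instance
  have hass : p ∈ associatedPrimes B B := by
    apply Module.associatedPrimes.minimalPrimes_annihilator_subset_associatedPrimes B B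
    rw [hann]
    exact hp
  obtain ⟨-, x, hxp⟩ := isAssociatedPrime_iff.1 hass
  have hvx : ∀ v ∈ p, v * x = 0 := by
    intro v hv
    rw [hxp, Submodule.mem_colon_singleton] at hv
    simpa using hv
  have hx0 : x ≠ 0 := by
    rintro rfl
    apply hpp.ne_top
    rw [hxp, Ideal.eq_top_iff_one, Submodule.mem_colon_singleton]
    simp
  apply hx0
  apply hx x
  intro N
  refine ⟨n * N, fun b hb => ?_⟩
  have hb' : b ∈ 𝔞 ^ N ⊔ p := by
    apply sup_pow_le 𝔞 p N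
    rw [pow_mul] at hb
    exact Ideal.pow_right_mono hn N hb
  obtain ⟨u, hu, v, hv, rfl⟩ := Submodule.mem_sup.1 hb'
  rw [add_mul, hvx v hv, add_zero]
  exact Ideal.mul_mem_right _ _ hu

end Groth.Agent.H17.CD_P3b
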