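import Groth.Agent.H1.Central.Defs

set_option autoImplicit false
universe u
open CategoryTheory CategoryTheory.Limits MonoidalCategory CartesianMonoidalCategory MonObj GrpObj
  AlgebraicGeometry
open Groth.Agent.H1.Central

namespace Groth.Agent.H17.CentralA0

theorem exists_conjProp {S : Scheme.{u}} {K H : Over S} [GrpObj K] [GrpObj H] (i : H ⟶ K)
    (hn : AlgGrp.IsNormalHom i) : ∃ a : Red.bc K.hom H ⟶ Red.bc K.hom H, ConjProp i a := by
  let T₀ : Over K.left := Red.bc K.hom H
  let ε : (Over.map K.hom).obj T₀ ⟶ H := (adjE K H T₀).symm (𝟙 _)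
  obtain ⟨n', hn'⟩ := hn ((Over.map K.hom).obj T₀) (kT K T₀) ε
  refine ⟨adjE K H T₀ n', ?_⟩
  intro T t
  set s : T ⟶ T₀ := adjE K H T t with hs
  have h1 : (adjE K H T).symm (s ≫ adjE K H T₀ n') = (Over.map K.hom).map s ≫ n' := by
    rw [Adjunction.homEquiv_naturality_left_symm, Equiv.symm_apply_apply]
  have h2 : (Over.map K.hom).map s ≫ kT K T₀ = kT K T := by
    apply Over.OverMorphism.ext
    simp only [Over.comp_left, Over.map_map_left, Over.homMk_left]
    exact Over.w s
  have h3 : (Over.map K.hom).map s ≫ ε = t := by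
    show (Over.map K.hom).map s ≫ (adjE K H T₀).symm (𝟙 _) = t
    rw [← Adjunction.homEquiv_naturality_left_symm, Category.comp_id, hs, Equiv.symm_apply_apply]
  rw [h1, Category.assoc, ← hn', MonObj.comp_mul, MonObj.comp_mul, GrpObj.comp_inv, h2,
    ← Category.assoc, h3]

end Groth.Agent.H17.CentralA0
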