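import Groth.Agent.H1.Central.Defs

set_option autoImplicit false
universe u
open CategoryTheory CategoryTheory.Limits MonoidalCategory CartesianMonoidalCategory MonObj GrpObj
  AlgebraicGeometry
open Groth.Agent.H1.Central

namespace Groth.Agent.H17.CentralA1

theorem isMonHom_of_conjProp {S : Scheme.{u}} {K H : Over S} [GrpObj K] [GrpObj H] (i : H ⟶ K)
    [IsMonHom i] [Mono i] (a : Red.bc K.hom H ⟶ Red.bc K.hom H) (ha : ConjProp i a) :
    IsMonHom a := by
  have hsymm_mul : ∀ (T : Over K.left) (p q : T ⟶ Red.bc K.hom H),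
      (adjE K H T).symm (p * q) = (adjE K H T).symm p * (adjE K H T).symm q := by
    intro T p q
    apply (adjE K H T).injective
    rw [Equiv.apply_symm_apply]
    have h := AlgGrp.Action.homEquiv_mul K.hom (G := H) (T' := T) ((adjE K H T).symm p)
      ((adjE K H T).symm q)
    have h' : (adjE K H T) ((adjE K H T).symm p * (adjE K H T).symm q) =
        (adjE K H T) ((adjE K H T).symm p) * (adjE K H T) ((adjE K H T).symm q) := h
    rw [h', Equiv.apply_symm_apply, Equiv.apply_symm_apply]
  have hconj : ∀ (T : Over K.left) (p : T ⟶ Red.bc K.hom H),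
      (adjE K H T).symm (p ≫ a) ≫ i =
        kT K T * ((adjE K H T).symm p ≫ i) * (kT K T)⁻¹ := by
    intro T p
    have := ha T ((adjE K H T).symm p)
    rwa [Equiv.apply_symm_apply] at this
  have hmul : ∀ (T : Over K.left) (p q : T ⟶ Red.bc K.hom H),
      (p * q) ≫ a = (p ≫ a) * (q ≫ a) := by
    intro T p q
    apply (adjE K H T).symm.injective
    rw [← cancel_mono i, hconj, hsymm_mul, hsymm_mul, MonObj.mul_comp, MonObj.mul_comp, hconj,
      hconj]
    group
  have hone : ∀ (T : Over K.left), (1 : T ⟶ Red.bc K.hom H) ≫ a = 1 := by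
    intro T
    have h := hmul T 1 1
    rw [_root_.mul_one] at h
    exact (mul_left_cancel (a := (1 : T ⟶ Red.bc K.hom H) ≫ a) (by rw [_root_.mul_one]; exact h)).symm
  refine ⟨?_, ?_⟩
  · rw [MonObj.one_eq_one]; exact hone _
  · rw [MonObj.mul_eq_mul, hmul, MonObj.comp_mul, tensorHom_fst, tensorHom_snd]

end Groth.Agent.H17.CentralA1
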