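import Groth.Agent.H1.Central.Defs

set_option autoImplicit false
universe u
open CategoryTheory CategoryTheory.Limits MonoidalCategory CartesianMonoidalCategory MonObj GrpObj
  AlgebraicGeometry
open Groth.Agent.H1.Central

namespace Groth.Agent.H17.CentralA2

theorem central_of_conjProp_id {S : Scheme.{u}} {K H : Over S} [GrpObj K] [GrpObj H] (i : H ⟶ K)
    (ha : ConjProp i (𝟙 (Red.bc K.hom H))) :
    ∀ (X : Over S) (k : X ⟶ K) (h : X ⟶ H), k * (h ≫ i) = (h ≫ i) * k := by
  intro X k h
  let T : Over K.left := Over.mk k.left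
  let iso : (Over.map K.hom).obj T ≅ X := Over.isoMk (Iso.refl _) (by simpa [T] using Over.w k)
  have hk : kT K T = iso.hom ≫ k := by
    apply Over.OverMorphism.ext
    simp [kT, iso, T]
  have h1 := ha T (iso.hom ≫ h)
  rw [Category.comp_id, Equiv.symm_apply_apply, hk] at h1
  have h2 : (iso.hom ≫ k) * ((iso.hom ≫ h) ≫ i) = ((iso.hom ≫ h) ≫ i) * (iso.hom ≫ k) := by
    conv_rhs => rw [h1]
    group
  rw [Category.assoc, ← MonObj.comp_mul, ← MonObj.comp_mul] at h2
  exact (cancel_epi iso.hom).mp h2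

end Groth.Agent.H17.CentralA2
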