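import Groth.Agent.H1.Central.Defs

set_option autoImplicit false
universe u
open CategoryTheory CategoryTheory.Limits MonoidalCategory CartesianMonoidalCategory MonObj GrpObj
  AlgebraicGeometry
open Groth.Agent.H1.Central

namespace Groth.Agent.H17.CentralA3

theorem conjProp_unit {S : Scheme.{u}} {K H : Over S} [GrpObj K] [GrpObj H] (i : H ⟶ K)
    [IsMonHom i] [Mono i] (a : Red.bc K.hom H ⟶ Red.bc K.hom H) (ha : ConjProp i a)
    {Z : Scheme.{u}} (q' : Z ⟶ (𝟙_ (Over S)).left) :
    (Over.pullback (q' ≫ η[K].left)).map a = 𝟙 _ := by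
  set q := q' ≫ η[K].left with hq
  have key : ∀ (T : Over Z) (t₁ : (Over.map q).obj T ⟶ Red.bc K.hom H), t₁ ≫ a = t₁ := by
    intro T t₁
    let T₁ : Over K.left := (Over.map q).obj T
    have h1 := ha T₁ ((adjE K H T₁).symm t₁)
    rw [Equiv.apply_symm_apply] at h1
    have hk : kT K T₁ = 1 := by
      let m : (Over.map K.hom).obj T₁ ⟶ 𝟙_ (Over S) := Over.homMk (T.hom ≫ q') (by
        simp [T₁, q])
      have hm : kT K T₁ = m ≫ η[K] := by
        apply Over.OverMorphism.ext
        simp [kT, m, T₁, q]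
      rw [hm, toUnit_unique m (toUnit _), ← Hom.one_def]
    rw [hk, _root_.one_mul, inv_one, _root_.mul_one, cancel_mono] at h1
    exact (adjE K H T₁).symm.injective h1
  have h2 : ∀ (T : Over Z) (t : T ⟶ (Over.pullback q).obj (Red.bc K.hom H)),
      t ≫ (Over.pullback q).map a = t := by
    intro T t
    have h3 := (Over.mapPullbackAdj q).homEquiv_naturality_right
      (((Over.mapPullbackAdj q).homEquiv T (Red.bc K.hom H)).symm t) a
    rw [Equiv.apply_symm_apply] at h3
    rw [← h3, key, Equiv.apply_symm_apply]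
  have h4 := h2 _ (𝟙 _)
  rwa [Category.id_comp] at h4

end Groth.Agent.H17.CentralA3
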