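import Groth.Agent.H1.Central.Defs
import Groth.Agent.H1.HomDiag.ClassifyLocal

set_option autoImplicit false
universe u
open CategoryTheory CategoryTheory.Limits MonoidalCategory CartesianMonoidalCategory MonObj
  AlgebraicGeometry Opposite

noncomputable section

namespace Groth.Agent.H17.CentralCLE

open Groth.Agent.H91.DiagGa Groth.Agent.H43.MT Groth.Agent.H37.ChowFormal Groth.Agent.H1.HomDiag
open GmPts (baseZ toBaseZ)

/-- two endomorphisms conjugate by ONE isomorphism. -/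
def SimE {X : Scheme.{u}} {A A' : Over X} (a : A ⟶ A) (b : A' ⟶ A') : Prop :=
  ∃ α : A ≅ A', a ≫ α.hom = α.hom ≫ b

namespace SimE
variable {X : Scheme.{u}}

theorem symm {A A' : Over X} {a : A ⟶ A} {b : A' ⟶ A'} (h : SimE a b) : SimE b a := by
  obtain ⟨α, w⟩ := h
  refine ⟨α.symm, ?_⟩
  rw [Iso.symm_hom, Iso.comp_inv_eq, Category.assoc, w, Iso.inv_hom_id_assoc]

theorem trans {A A' A'' : Over X} {a : A ⟶ A} {b : A' ⟶ A'} {c : A'' ⟶ A''}
    (h : SimE a b) (h' : SimE b c) : SimE a c := by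
  obtain ⟨α, w⟩ := h
  obtain ⟨α', w'⟩ := h'
  refine ⟨α ≪≫ α', ?_⟩
  rw [Iso.trans_hom, ← Category.assoc, w, Category.assoc, w', Category.assoc]

theorem map {Y : Scheme.{u}} (j : Y ⟶ X) {A A' : Over X} {a : A ⟶ A} {b : A' ⟶ A'}
    (h : SimE a b) : SimE ((Over.pullback j).map a) ((Over.pullback j).map b) := by
  obtain ⟨α, w⟩ := h
  refine ⟨(Over.pullback j).mapIso α, ?_⟩
  rw [Functor.mapIso_hom, ← Functor.map_comp, ← Functor.map_comp, w]

theorem bc_comp {S S' S'' : Scheme.{u}} (f : S'' ⟶ S') (g : S' ⟶ S) (h : S'' ⟶ S)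
    (hc : f ≫ g = h) {A : Over S} (a : A ⟶ A) :
    SimE ((Over.pullback f).map ((Over.pullback g).map a)) ((Over.pullback h).map a) :=
  ⟨JIso f g h hc A, (J_naturality f g h hc a).symm⟩

theorem dsmap {Y : Scheme.{u}} (j : Y ⟶ X) {M : Type} [AddCommGroup M]
    (φ : M →+ M) : SimE ((Over.pullback j).map (Red.DSmap X φ)) (Red.DSmap Y φ) :=
  bc_comp j _ _ (specULiftZIsTerminal.hom_ext _ _) (Red.diagMap (ULift.{u} ℤ) φ)

end SimE

/-- affine case. -/
theorem classify_local_endo_affine {R : Type u} [CommRing R] {Y : Scheme.{u}}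
    (j₀ : Spec (CommRingCat.of R) ⟶ Y)
    {M : Type} [AddCommGroup M] (hM : AddGroup.FG M)
    (v : Red.DS Y M ⟶ Red.DS Y M) [IsMonHom v] (x₀ : Spec (CommRingCat.of R)) :
    ∃ (X : Scheme.{u}) (jX : X ⟶ Spec (CommRingCat.of R)), IsOpenImmersion jX ∧
      x₀ ∈ Set.range jX.base ∧
      ∃ φ : M →+ M, SimE ((Over.pullback (jX ≫ j₀)).map v) (Red.DSmap X φ) := by
  let JM := JIso j₀ (toBaseZ Y) (toBaseZ (Spec (CommRingCat.of R)))
    (specULiftZIsTerminal.hom_ext _ _) (Red.diag (ULift.{u} ℤ) M)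
  haveI hJM : IsMonHom JM.hom := J_isMonHom j₀ (toBaseZ Y) (toBaseZ (Spec (CommRingCat.of R)))
    (specULiftZIsTerminal.hom_ext _ _) (Red.diag (ULift.{u} ℤ) M)
  haveI hJM' : IsMonHom JM.inv := inferInstance
  haveI hv' : IsMonHom ((Over.pullback j₀).map v) := inferInstance
  let v₀ : Red.DS (Spec (CommRingCat.of R)) M ⟶ Red.DS (Spec (CommRingCat.of R)) M :=
    JM.inv ≫ (Over.pullback j₀).map v ≫ JM.hom
  haveI : IsMonHom v₀ := by
    dsimp only [v₀]
    infer_instance
  haveI : x₀.asIdeal.IsPrime := x₀.isPrime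
  obtain ⟨e, φ, hep, hpts⟩ := classify_affine hM v₀ x₀.asIdeal
  let jX : Spec (CommRingCat.of (Localization.Away e)) ⟶ Spec (CommRingCat.of R) :=
    Spec.map (CommRingCat.ofHom (algebraMap R (Localization.Away e)))
  refine ⟨Spec (CommRingCat.of (Localization.Away e)), jX, inferInstance, ?_, φ, ?_⟩
  · have hr := PrimeSpectrum.localization_away_comap_range (Localization.Away e) e
    have hx : x₀ ∈ (PrimeSpectrum.basicOpen e : Set (PrimeSpectrum R)) := hep
    rw [← hr] at hx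
    obtain ⟨x₁, hx₁⟩ := hx
    exact ⟨x₁, hx₁⟩
  · have S1 : SimE ((Over.pullback (jX ≫ j₀)).map v)
        ((Over.pullback jX).map ((Over.pullback j₀).map v)) :=
      (SimE.bc_comp jX j₀ (jX ≫ j₀) rfl v).symm
    have S2 : SimE ((Over.pullback j₀).map v) v₀ := by
      refine ⟨JM, ?_⟩
      dsimp only [v₀]
      rw [Iso.hom_inv_id_assoc]
    have S3 := SimE.map jX S2
    have S4 : (Over.pullback jX).map v₀ =
        (Over.pullback jX).map (Red.DSmap (Spec (CommRingCat.of R)) φ) := by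
      apply Over.OverMorphism.ext
      apply pullback.hom_ext
      · rw [(Groth.Agent.H27.isPullback_pullback_map_left jX v₀).w,
          (Groth.Agent.H27.isPullback_pullback_map_left jX
            (Red.DSmap (Spec (CommRingCat.of R)) φ)).w]
        let T : Over (Spec (CommRingCat.of R)) :=
          Over.mk (pullback.fst (Red.DS (Spec (CommRingCat.of R)) M).hom jX ≫
            (Red.DS (Spec (CommRingCat.of R)) M).hom)
        let t : T ⟶ Red.DS (Spec (CommRingCat.of R)) M :=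
          Over.homMk (pullback.fst (Red.DS (Spec (CommRingCat.of R)) M).hom jX) rfl
        have hu : IsUnit (sHom R T e) := by
          have hT : T.hom = pullback.snd (Red.DS (Spec (CommRingCat.of R)) M).hom jX ≫ jX :=
            pullback.condition
          change IsUnit (T.hom.appTop ((Scheme.ΓSpecIso (CommRingCat.of R)).inv e))
          rw [hT, GmPts.appTop_comp_apply]
          apply IsUnit.map
          change IsUnit ((Spec.map (CommRingCat.ofHom (algebraMap R (Localization.Away e)))).appTop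
            ((Scheme.ΓSpecIso (CommRingCat.of R)).inv e))
          rw [specMap_appTop_ΓSpecIso_inv]
          apply IsUnit.map
          exact IsLocalization.Away.algebraMap_isUnit e
        have := congrArg (fun ψ => ψ.left) (hpts T t hu)
        simpa [t] using this
      · exact (Over.w ((Over.pullback jX).map v₀)).trans
          (Over.w ((Over.pullback jX).map (Red.DSmap (Spec (CommRingCat.of R)) φ))).symm
    rw [S4] at S3
    exact S1.trans (S3.trans (SimE.dsmap jX φ))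

theorem classify_local_endo {Y : Scheme.{u}} {M : Type} [AddCommGroup M] (hM : AddGroup.FG M)
    (v : Red.DS Y M ⟶ Red.DS Y M) [IsMonHom v] (y : Y) :
    ∃ (X : Scheme.{u}) (j : X ⟶ Y), IsOpenImmersion j ∧ y ∈ Set.range j.base ∧
      ∃ (φ : M →+ M) (α : (Over.pullback j).obj (Red.DS Y M) ≅ Red.DS X M),
        (Over.pullback j).map v ≫ α.hom = α.hom ≫ Red.DSmap X φ := by
  obtain ⟨_, ⟨Y₀, hY₀, rfl⟩, hyY₀, -⟩ :=
    Y.isBasis_affineOpens.exists_subset_of_mem_open (Set.mem_univ y) isOpen_univ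
  obtain ⟨Y₀, rfl⟩ : ∃ Y₀' : Y.Opens, Y₀' = Y₀ := ⟨Y₀, rfl⟩
  let j₀ : Spec (CommRingCat.of Γ(Y, Y₀)) ⟶ Y := hY₀.fromSpec
  haveI : IsOpenImmersion j₀ := hY₀.isOpenImmersion_fromSpec
  have hr : Set.range j₀.base = (Y₀ : Set Y) := hY₀.range_fromSpec
  obtain ⟨x₀, hx₀⟩ : y ∈ Set.range j₀.base := by rw [hr]; exact hyY₀
  obtain ⟨X, jX, hjX, ⟨x₁, hx₁⟩, φ, α, hS⟩ := classify_local_endo_affine j₀ hM v x₀
  haveI := hjX
  refine ⟨X, jX ≫ j₀, inferInstance, ⟨x₁, ?_⟩, φ, α, hS⟩
  change j₀.base (jX.base x₁) = y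
  rw [hx₁]
  exact hx₀

end Groth.Agent.H17.CentralCLE
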