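import Groth.Agent.H1.Central.Defs
import Groth.Agent.H17.CentralCLE

set_option autoImplicit false
universe u
open CategoryTheory CategoryTheory.Limits MonoidalCategory CartesianMonoidalCategory MonObj GrpObj
  AlgebraicGeometry
open Groth.Agent.H1.Central

noncomputable section

namespace Groth.Agent.H17.CentralL

open Groth.Agent.H43.MT Groth.Agent.H37.ChowFormal Groth.Agent.H1.HomDiag
open Groth.Agent.H17.CentralCLE

theorem local_charts {S S' X : Scheme.{u}} (H : Over S) [GrpObj H] (f : S' ⟶ S) (g : X ⟶ S)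
    (hCLE : ∀ {Y : Scheme.{u}} {M : Type} [AddCommGroup M] (_ : AddGroup.FG M) (v : Red.DS Y M ⟶ Red.DS Y M) [IsMonHom v] (y : Y), ∃ (X : Scheme.{u}) (j : X ⟶ Y), IsOpenImmersion j ∧ y ∈ Set.range j.base ∧ ∃ (φ : M →+ M) (α : (Over.pullback j).obj (Red.DS Y M) ≅ Red.DS X M), (Over.pullback j).map v ≫ α.hom = α.hom ≫ Red.DSmap X φ)
    (hH : ∀ s' : S', ∃ U : S'.Opens, s' ∈ U ∧ ∃ (M : Type) (_ : AddCommGroup M), AddGroup.FG M ∧ Nonempty (Grp.mk (Red.bc (U.ι ≫ f) H) ≅ Grp.mk (Red.DS (U : Scheme.{u}) M)))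
    (v : Red.bc g H ⟶ Red.bc g H) [IsMonHom v] (w : ↥(pullback f g)) :
    ∃ (Y : Scheme.{u}) (j : Y ⟶ pullback f g), IsOpenImmersion j ∧ w ∈ Set.range j.base ∧ ∃ (M : Type) (_ : AddCommGroup M) (φ : M →+ M) (α : (Over.pullback (j ≫ pullback.snd f g)).obj (Red.bc g H) ≅ Red.DS Y M), (Over.pullback (j ≫ pullback.snd f g)).map v ≫ α.hom = α.hom ≫ Red.DSmap Y φ := by
  obtain ⟨U, hU, M, _, hM, ⟨e⟩⟩ := hH ((pullback.fst f g).base w)
  let Y₀ : (pullback f g).Opens := (pullback.fst f g) ⁻¹ᵁ U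
  have hwY : w ∈ Y₀ := hU
  have hr : Set.range (Y₀.ι ≫ pullback.fst f g).base ⊆ Set.range U.ι.base := by
    rintro _ ⟨a, rfl⟩
    rw [Scheme.Opens.range_ι]
    exact a.2
  let k : (Y₀ : Scheme.{u}) ⟶ (U : Scheme.{u}) :=
    IsOpenImmersion.lift U.ι (Y₀.ι ≫ pullback.fst f g) hr
  have hk : k ≫ U.ι = Y₀.ι ≫ pullback.fst f g := IsOpenImmersion.lift_fac _ _ _
  let gY : (Y₀ : Scheme.{u}) ⟶ S := Y₀.ι ≫ pullback.snd f g ≫ g
  have hg : k ≫ (U.ι ≫ f) = gY := by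
    rw [← Category.assoc, hk, Category.assoc, pullback.condition]
  obtain ⟨α₀, hα₀⟩ := chart_iso H (U.ι ≫ f) M e k gY hg
  let β := JIso (Y₀.ι ≫ pullback.snd f g) g gY (Category.assoc _ _ _) H
  haveI hβ : IsMonHom β.hom :=
    J_isMonHom (Y₀.ι ≫ pullback.snd f g) g gY (Category.assoc _ _ _) H
  haveI := hα₀
  let θ := β ≪≫ α₀
  haveI : IsMonHom θ.hom := by
    dsimp only [θ, Iso.trans_hom]
    infer_instance
  haveI : IsMonHom θ.inv := inferInstance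
  haveI : IsMonHom ((Over.pullback (Y₀.ι ≫ pullback.snd f g)).map v) := inferInstance
  let v₀ : Red.DS (Y₀ : Scheme.{u}) M ⟶ Red.DS (Y₀ : Scheme.{u}) M :=
    θ.inv ≫ (Over.pullback (Y₀.ι ≫ pullback.snd f g)).map v ≫ θ.hom
  haveI : IsMonHom v₀ := by
    dsimp only [v₀]
    infer_instance
  obtain ⟨X', j', hj', ⟨x, hx⟩, φ, α', hα'⟩ := hCLE hM v₀ (⟨w, hwY⟩ : (Y₀ : Scheme.{u}))
  haveI := hj'
  have S1 : SimE ((Over.pullback ((j' ≫ Y₀.ι) ≫ pullback.snd f g)).map v)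
      ((Over.pullback j').map ((Over.pullback (Y₀.ι ≫ pullback.snd f g)).map v)) :=
    (SimE.bc_comp j' (Y₀.ι ≫ pullback.snd f g) _ (Category.assoc _ _ _).symm v).symm
  have S2 : SimE ((Over.pullback (Y₀.ι ≫ pullback.snd f g)).map v) v₀ := by
    refine ⟨θ, ?_⟩
    dsimp only [v₀]
    rw [Iso.hom_inv_id_assoc]
  have S3 : SimE ((Over.pullback j').map v₀) (Red.DSmap X' φ) := ⟨α', hα'⟩
  obtain ⟨α, hα⟩ := S1.trans ((SimE.map j' S2).trans S3)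
  refine ⟨X', j' ≫ Y₀.ι, inferInstance, ⟨x, ?_⟩, M, inferInstance, φ, α, hα⟩
  change Y₀.ι.base (j'.base x) = w
  rw [hx]
  rfl

end Groth.Agent.H17.CentralL
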