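import Groth.Agent.H17.HS.Assoc
import Groth.Agent.S3406

/-!
# The Euler characteristic of multiplication by an element

For a Noetherian local ring `R`, an element `x` of its maximal ideal and a finite module `N` whose
support meets `V(x)` only in the closed point, we prove
`ℓ(N/xN) = ℓ(0 :_N x) + ∑_{p ≠ m} ℓ_{R_p}(N_p) · ℓ(R/(p + xR))`
(`main`), together with the resulting inequality and equality criterion (`sum_le_and_eq_iff`).

Main tools: additivity of `N ↦ ℓ(N/xN) - ℓ(0 :_N x)` on short exact sequences (`chi_additive`, via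
the snake lemma), and dévissage.
-/

set_option autoImplicit false

namespace Groth.Agent.H17.Chi

open Groth.Agent.H17.HS
open scoped Pointwise

universe u

section Six

variable {R : Type*} [CommRing R]

theorem length_eq_ker_add_range {X Y : Type*} [AddCommGroup X] [Module R X] [AddCommGroup Y]
    [Module R Y] (φ : X →ₗ[R] Y) :
    Module.length R X =
      Module.length R (LinearMap.ker φ) + Module.length R (LinearMap.range φ) :=
  Module.length_eq_add_of_exact (LinearMap.ker φ).subtype φ.rangeRestrict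
    (Submodule.subtype_injective _) φ.surjective_rangeRestrict
    (LinearMap.exact_iff.mpr (by rw [LinearMap.ker_rangeRestrict, Submodule.range_subtype]))

/-- Lengths along a six-term exact sequence `0 → K₁ → K₂ → K₃ → C₁ → C₂ → C₃ → 0`. -/
theorem length_six {K₁ K₂ K₃ C₁ C₂ C₃ : Type*}
    [AddCommGroup K₁] [Module R K₁] [AddCommGroup K₂] [Module R K₂] [AddCommGroup K₃] [Module R K₃]
    [AddCommGroup C₁] [Module R C₁] [AddCommGroup C₂] [Module R C₂] [AddCommGroup C₃] [Module R C₃]
    (a : K₁ →ₗ[R] K₂) (b : K₂ →ₗ[R] K₃) (d : K₃ →ₗ[R] C₁) (e : C₁ →ₗ[R] C₂) (f : C₂ →ₗ[R] C₃)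
    (ha : Function.Injective a) (hab : Function.Exact a b) (hbd : Function.Exact b d)
    (hde : Function.Exact d e) (hef : Function.Exact e f) (hf : Function.Surjective f) :
    Module.length R K₁ + Module.length R K₃ + Module.length R C₂ =
      Module.length R K₂ + Module.length R C₁ + Module.length R C₃ := by
  have h1 := length_eq_ker_add_range a
  have h2 := length_eq_ker_add_range b
  have h3 := length_eq_ker_add_range d
  have h4 := length_eq_ker_add_range e
  have h5 := length_eq_ker_add_range f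
  rw [LinearMap.ker_eq_bot.mpr ha, Module.length_bot, zero_add] at h1
  rw [LinearMap.exact_iff.mp hab] at h2
  rw [LinearMap.exact_iff.mp hbd] at h3
  rw [LinearMap.exact_iff.mp hde] at h4
  rw [LinearMap.exact_iff.mp hef, LinearMap.range_eq_top.mpr hf, Module.length_top] at h5
  rw [h1, h2, h3, h4, h5]
  abel

end Six

section Snake

variable {R : Type*} [CommRing R] (x : R)

theorem smul_top_le_comap {N N' : Type*} [AddCommGroup N] [Module R N] [AddCommGroup N']
    [Module R N'] (h : N →ₗ[R] N') :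
    x • (⊤ : Submodule R N) ≤ (x • (⊤ : Submodule R N')).comap h := by
  intro n hn
  obtain ⟨n', -, rfl⟩ := (Submodule.mem_smul_pointwise_iff_exists _ _ _).mp hn
  rw [Submodule.mem_comap, map_smul]
  exact Submodule.smul_mem_pointwise_smul _ _ _ Submodule.mem_top

theorem exact_lsmul_mkQ (N : Type*) [AddCommGroup N] [Module R N] :
    Function.Exact (LinearMap.lsmul R N x) (x • (⊤ : Submodule R N)).mkQ := by
  intro n
  rw [Submodule.mkQ_apply, Submodule.Quotient.mk_eq_zero, Submodule.mem_smul_pointwise_iff_exists]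
  constructor
  · rintro ⟨b, -, rfl⟩
    exact ⟨b, rfl⟩
  · rintro ⟨b, rfl⟩
    exact ⟨b, Submodule.mem_top, rfl⟩

variable {N₁ N₂ N₃ : Type*} [AddCommGroup N₁] [Module R N₁] [AddCommGroup N₂] [Module R N₂]
  [AddCommGroup N₃] [Module R N₃]

theorem map_mem_ker_lsmul {N N' : Type*} [AddCommGroup N] [Module R N] [AddCommGroup N']
    [Module R N'] (h : N →ₗ[R] N') :
    ∀ y ∈ LinearMap.ker (LinearMap.lsmul R N x), h y ∈ LinearMap.ker (LinearMap.lsmul R N' x) := by
  intro y hy
  rw [LinearMap.mem_ker, LinearMap.lsmul_apply] at hy ⊢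
  rw [← map_smul, hy, map_zero]

/-- Additivity of `ℓ(N/xN) - ℓ(0 :_N x)` in short exact sequences, written without subtraction. -/
theorem chi_additive (f : N₁ →ₗ[R] N₂) (g : N₂ →ₗ[R] N₃) (hf : Function.Injective f)
    (hg : Function.Surjective g) (hfg : Function.Exact f g) :
    Module.length R (LinearMap.ker (LinearMap.lsmul R N₁ x)) +
        Module.length R (LinearMap.ker (LinearMap.lsmul R N₃ x)) +
        Module.length R (N₂ ⧸ x • (⊤ : Submodule R N₂)) =
      Module.length R (LinearMap.ker (LinearMap.lsmul R N₂ x)) +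
        Module.length R (N₁ ⧸ x • (⊤ : Submodule R N₁)) +
        Module.length R (N₃ ⧸ x • (⊤ : Submodule R N₃)) := by
  have h₁ : f.comp (LinearMap.lsmul R N₁ x) = (LinearMap.lsmul R N₂ x).comp f := by
    ext y
    simp
  have h₂ : g.comp (LinearMap.lsmul R N₂ x) = (LinearMap.lsmul R N₃ x).comp g := by
    ext y
    simp
  obtain ⟨a, ha⟩ : ∃ a : LinearMap.ker (LinearMap.lsmul R N₁ x) →ₗ[R]
      LinearMap.ker (LinearMap.lsmul R N₂ x), a = f.restrict (map_mem_ker_lsmul x f) := ⟨_, rfl⟩
  obtain ⟨b, hb⟩ : ∃ b : LinearMap.ker (LinearMap.lsmul R N₂ x) →ₗ[R]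
      LinearMap.ker (LinearMap.lsmul R N₃ x), b = g.restrict (map_mem_ker_lsmul x g) := ⟨_, rfl⟩
  obtain ⟨e, he⟩ : ∃ e : (N₁ ⧸ x • (⊤ : Submodule R N₁)) →ₗ[R] (N₂ ⧸ x • (⊤ : Submodule R N₂)),
      e = Submodule.mapQ _ _ f (smul_top_le_comap x f) := ⟨_, rfl⟩
  obtain ⟨e', he'⟩ : ∃ e' : (N₂ ⧸ x • (⊤ : Submodule R N₂)) →ₗ[R] (N₃ ⧸ x • (⊤ : Submodule R N₃)),
      e' = Submodule.mapQ _ _ g (smul_top_le_comap x g) := ⟨_, rfl⟩
  have hav : ∀ y, (a y : N₂) = f y := fun y => by rw [ha]; rfl
  have hbv : ∀ y, (b y : N₃) = g y := fun y => by rw [hb]; rfl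
  have hev : ∀ n, e (Submodule.Quotient.mk n) = Submodule.Quotient.mk (f n) := fun n => by
    rw [he, Submodule.mapQ_apply]
  have he'v : ∀ n, e' (Submodule.Quotient.mk n) = Submodule.Quotient.mk (g n) := fun n => by
    rw [he', Submodule.mapQ_apply]
  have hι₂ := LinearMap.exact_subtype_ker_map (LinearMap.lsmul R N₂ x)
  have hι₃ := LinearMap.exact_subtype_ker_map (LinearMap.lsmul R N₃ x)
  have hπ₁ := exact_lsmul_mkQ x N₁
  have hπ₂ := exact_lsmul_mkQ x N₂
  have hbd := SnakeLemma.exact_δ'_right (LinearMap.lsmul R N₁ x) (LinearMap.lsmul R N₂ x)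
    (LinearMap.lsmul R N₃ x) f g hfg f g hfg h₁ h₂ _ hι₂ _ hι₃ _ hπ₁ hg hf b
    (by ext y; exact (hbv y).symm) (Submodule.subtype_injective _)
  have hde := SnakeLemma.exact_δ'_left (LinearMap.lsmul R N₁ x) (LinearMap.lsmul R N₂ x)
    (LinearMap.lsmul R N₃ x) f g hfg f g hfg h₁ h₂ _ hι₃ _ hπ₁ _ hπ₂ hg hf e
    (by ext y; exact hev y) (Submodule.mkQ_surjective _)
  refine length_six a b _ e e' ?_ ?_ hbd hde ?_ ?_
  · intro y z hyz
    apply Subtype.ext
    apply hf
    rw [← hav, ← hav, hyz]
  · intro y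
    constructor
    · intro hy
      have h0 : g (y : N₂) = 0 := by rw [← hbv, hy]; rfl
      obtain ⟨z, hz⟩ := (hfg _).mp h0
      have hzk : z ∈ LinearMap.ker (LinearMap.lsmul R N₁ x) := by
        rw [LinearMap.mem_ker, LinearMap.lsmul_apply]
        apply hf
        rw [map_smul, hz, map_zero]
        have := y.2
        rwa [LinearMap.mem_ker, LinearMap.lsmul_apply] at this
      exact ⟨⟨z, hzk⟩, Subtype.ext (by rw [hav]; exact hz)⟩
    · rintro ⟨z, rfl⟩
      apply Subtype.ext
      rw [hbv, hav]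
      exact hfg.apply_apply_eq_zero _
  · intro c
    constructor
    · intro hc
      obtain ⟨n, rfl⟩ := Submodule.Quotient.mk_surjective _ c
      rw [he'v, Submodule.Quotient.mk_eq_zero, Submodule.mem_smul_pointwise_iff_exists] at hc
      obtain ⟨n₃, -, hn₃⟩ := hc
      obtain ⟨n', rfl⟩ := hg n₃
      have h0 : g (n - x • n') = 0 := by rw [map_sub, map_smul, hn₃, sub_self]
      obtain ⟨z, hz⟩ := (hfg _).mp h0
      refine ⟨Submodule.Quotient.mk z, ?_⟩
      rw [hev, hz, Submodule.Quotient.eq]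
      have : n - x • n' - n = -(x • n') := by abel
      rw [this]
      exact Submodule.neg_mem _ (Submodule.smul_mem_pointwise_smul _ _ _ Submodule.mem_top)
    · rintro ⟨c₁, rfl⟩
      obtain ⟨z, rfl⟩ := Submodule.Quotient.mk_surjective _ c₁
      rw [hev, he'v, hfg.apply_apply_eq_zero, Submodule.Quotient.mk_zero]
  · intro c
    obtain ⟨n, rfl⟩ := Submodule.Quotient.mk_surjective _ c
    obtain ⟨n', rfl⟩ := hg n
    exact ⟨Submodule.Quotient.mk n', he'v n'⟩

/-- For a module of finite length, `ℓ(N/xN) = ℓ(0 :_N x)`. -/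
theorem chi_fin (N : Type*) [AddCommGroup N] [Module R N] (h : Module.length R N ≠ ⊤) :
    Module.length R (N ⧸ x • (⊤ : Submodule R N)) =
      Module.length R (LinearMap.ker (LinearMap.lsmul R N x)) := by
  have hr : LinearMap.range (LinearMap.lsmul R N x) = x • (⊤ : Submodule R N) := by
    ext n
    rw [LinearMap.mem_range, Submodule.mem_smul_pointwise_iff_exists]
    constructor
    · rintro ⟨b, rfl⟩
      exact ⟨b, Submodule.mem_top, rfl⟩
    · rintro ⟨b, -, rfl⟩
      exact ⟨b, rfl⟩
  have h1 := length_eq_ker_add_range (LinearMap.lsmul R N x)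
  have h2 := Module.length_eq_add_of_exact (x • (⊤ : Submodule R N)).subtype
    (x • (⊤ : Submodule R N)).mkQ (Submodule.subtype_injective _) (Submodule.mkQ_surjective _)
    (LinearMap.exact_subtype_mkQ _)
  rw [hr] at h1
  have hne : Module.length R (x • (⊤ : Submodule R N) : Submodule R N) ≠ ⊤ := by
    intro htop
    rw [htop, top_add] at h2
    exact h h2
  have key : Module.length R (x • (⊤ : Submodule R N) : Submodule R N) +
      Module.length R (N ⧸ x • (⊤ : Submodule R N)) =
      Module.length R (x • (⊤ : Submodule R N) : Submodule R N) +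
      Module.length R (LinearMap.ker (LinearMap.lsmul R N x)) := by
    rw [← h2, h1, add_comm]
  exact ENat.add_right_injective_of_ne_top hne key

end Snake

section Local

variable {R : Type u} [CommRing R] [IsNoetherianRing R] [IsLocalRing R]

/-- A finite module supported at the closed point has finite length. -/
theorem length_ne_top_of_support (N : Type u) [AddCommGroup N] [Module R N] [Module.Finite R N]
    (h : ∀ p ∈ Module.support R N, p.asIdeal = IsLocalRing.maximalIdeal R) :
    Module.length R N ≠ ⊤ := by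
  rw [Module.length_ne_top_iff, Groth.Agent.S3406.isFiniteLength_iff_supportDim_le_zero]
  exact Groth.Agent.S3406.krullDim_le_zero_of_forall_isMaximal (T := Module.support R N)
    (fun P hP => by rw [h P hP]; infer_instance)

/-- In a local ring of dimension at most one, a prime strictly containing another prime is the
maximal ideal. -/
theorem eq_maximalIdeal_of_lt (hdim : ringKrullDim R ≤ 1) {q p : Ideal R} [q.IsPrime]
    [hp : p.IsPrime] (h : q < p) : p = IsLocalRing.maximalIdeal R := by
  by_contra hne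
  have hpm : p < IsLocalRing.maximalIdeal R :=
    lt_of_le_of_ne (IsLocalRing.le_maximalIdeal hp.ne_top) hne
  have h1 : q.height < p.height := Ideal.height_strict_mono_of_isPrime h
  have h2 : p.height < (IsLocalRing.maximalIdeal R).height :=
    Ideal.height_strict_mono_of_isPrime hpm
  have h3 : ((IsLocalRing.maximalIdeal R).height : WithBot ℕ∞) ≤ ringKrullDim R :=
    Ideal.height_le_ringKrullDim_of_isPrime
  have h4 : (IsLocalRing.maximalIdeal R).height ≤ 1 := by
    have := h3.trans hdim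
    exact_mod_cast this
  have h5 : p.height < 1 := h2.trans_le h4
  rw [ENat.lt_one_iff_eq_zero] at h5
  rw [h5] at h1
  exact not_lt_zero' h1

/-- Krull's principal ideal theorem in the form needed here: if `m` is the only prime containing
`q` and `x ∈ m`, then there is no prime strictly between `q` and `m`. -/
theorem eq_of_le_of_forall {x : R} (hx : x ∈ IsLocalRing.maximalIdeal R) {q p : Ideal R}
    [hq : q.IsPrime] [hp : p.IsPrime] (hqp : q ≤ p) (hpm : p ≠ IsLocalRing.maximalIdeal R)
    (hQ : ∀ Q : Ideal R, Q.IsPrime → q ≤ Q → x ∈ Q → Q = IsLocalRing.maximalIdeal R) :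
    q = p := by
  by_contra hne
  have hlt : q < p := lt_of_le_of_ne hqp hne
  have hpm' : p < IsLocalRing.maximalIdeal R :=
    lt_of_le_of_ne (IsLocalRing.le_maximalIdeal hp.ne_top) hpm
  have hmin : IsLocalRing.maximalIdeal R ∈ (q ⊔ Ideal.span {x}).minimalPrimes := by
    refine ⟨⟨inferInstance,
      sup_le (hqp.trans hpm'.le) ((Ideal.span_singleton_le_iff_mem _).mpr hx)⟩, ?_⟩
    rintro Q ⟨hQp, hQle⟩ _
    rw [hQ Q hQp (le_sup_left.trans hQle)
      (hQle (Ideal.mem_sup_right (Ideal.mem_span_singleton_self x)))]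
  have h1 := Ideal.map_height_le_one_of_mem_minimalPrimes hmin
  have hP : (p.map (Ideal.Quotient.mk q)).IsPrime := Ideal.isPrime_map_quotientMk_of_isPrime hqp
  have hbot : (⊥ : Ideal (R ⧸ q)) < p.map (Ideal.Quotient.mk q) := by
    rw [bot_lt_iff_ne_bot, Ne, Ideal.map_eq_bot_iff_le_ker, Ideal.mk_ker]
    exact not_le_of_gt hlt
  have hPM : p.map (Ideal.Quotient.mk q) <
      (IsLocalRing.maximalIdeal R).map (Ideal.Quotient.mk q) := by
    refine lt_of_le_of_ne (Ideal.map_mono hpm'.le) (fun h => hpm ?_)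
    have h2 := congrArg (Ideal.comap (Ideal.Quotient.mk q)) h
    rw [Ideal.comap_map_of_surjective _ Ideal.Quotient.mk_surjective,
      Ideal.comap_map_of_surjective _ Ideal.Quotient.mk_surjective, ← RingHom.ker_eq_comap_bot,
      Ideal.mk_ker, sup_of_le_left hqp, sup_of_le_left (hqp.trans hpm'.le)] at h2
    exact h2
  have h2 : (⊥ : Ideal (R ⧸ q)).height < (p.map (Ideal.Quotient.mk q)).height :=
    Ideal.height_strict_mono_of_isPrime hbot
  have h3 := Ideal.height_strict_mono_of_isPrime hPM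
  have h4 : (p.map (Ideal.Quotient.mk q)).height < 1 := h3.trans_le h1
  rw [ENat.lt_one_iff_eq_zero] at h4
  rw [h4] at h2
  exact not_lt_zero' h2

/-- The support condition: the only prime of the support of `N` containing `x` is the maximal
ideal. -/
def HypH (x : R) (N : Type*) [AddCommGroup N] [Module R N] : Prop :=
  ∀ p ∈ Module.support R N, x ∈ p.asIdeal → p.asIdeal = IsLocalRing.maximalIdeal R

theorem mem_support_of_locLen_ne_zero {N : Type*} [AddCommGroup N] [Module R N]
    {p : PrimeSpectrum R} (h : locLen p.asIdeal N ≠ 0) : p ∈ Module.support R N := by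
  rw [Module.mem_support_iff]
  by_contra hn
  rw [not_nontrivial_iff_subsingleton] at hn
  exact h (Module.length_eq_zero_iff.mpr hn)

theorem locLen_ne_zero_of_mem_support {N : Type*} [AddCommGroup N] [Module R N]
    {p : PrimeSpectrum R} (h : p ∈ Module.support R N) : locLen p.asIdeal N ≠ 0 := by
  rw [Module.mem_support_iff] at h
  exact (Module.length_pos_iff.mpr h).ne'

variable {x : R}

theorem length_ker_ne_top {N : Type u} [AddCommGroup N] [Module R N] [Module.Finite R N]
    (H : HypH x N) : Module.length R (LinearMap.ker (LinearMap.lsmul R N x)) ≠ ⊤ := by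
  refine length_ne_top_of_support _ (fun p hp => ?_)
  refine H p (Module.support_subset_of_injective _ (Submodule.subtype_injective _) hp) ?_
  refine Module.annihilator_le_of_mem_support hp ?_
  rw [Module.mem_annihilator]
  intro y
  apply Subtype.ext
  have := y.2
  rwa [LinearMap.mem_ker, LinearMap.lsmul_apply] at this

theorem length_quot_ne_top {N : Type u} [AddCommGroup N] [Module R N] [Module.Finite R N]
    (H : HypH x N) : Module.length R (N ⧸ x • (⊤ : Submodule R N)) ≠ ⊤ := by
  refine length_ne_top_of_support _ (fun p hp => ?_)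
  change p ∈ Module.support R (QuotSMulTop x N) at hp
  rw [Module.support_quotSMulTop] at hp
  exact H p hp.1 (hp.2 (Set.mem_singleton x))

theorem mem_minimalPrimes_of_HypH (hx : x ∈ IsLocalRing.maximalIdeal R) {N : Type*}
    [AddCommGroup N] [Module R N] [Module.Finite R N] (H : HypH x N) {p : PrimeSpectrum R}
    (hp : p ∈ Module.support R N) (hpm : p.asIdeal ≠ IsLocalRing.maximalIdeal R) :
    p.asIdeal ∈ (Module.annihilator R N).minimalPrimes := by
  have hle : Module.annihilator R N ≤ p.asIdeal := Module.mem_support_iff_of_finite.mp hp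
  obtain ⟨q, hq, hqp⟩ := Ideal.exists_minimalPrimes_le hle
  haveI : q.IsPrime := hq.1.1
  have hqeq : q = p.asIdeal := by
    refine eq_of_le_of_forall hx hqp hpm (fun Q hQ hqQ hxQ => ?_)
    exact H ⟨Q, hQ⟩ (Module.mem_support_iff_of_finite.mpr (hq.1.2.trans hqQ)) hxQ
  rw [← hqeq]
  exact hq

theorem finite_support (hx : x ∈ IsLocalRing.maximalIdeal R) (N : Type*) [AddCommGroup N]
    [Module R N] [Module.Finite R N] (H : HypH x N) :
    ({p : PrimeSpectrum R | p.asIdeal ≠ IsLocalRing.maximalIdeal R} ∩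
      Function.support fun p : PrimeSpectrum R => locLen p.asIdeal N).Finite := by
  have hfin : {p : PrimeSpectrum R | p.asIdeal ∈ (Module.annihilator R N).minimalPrimes}.Finite :=
    (Ideal.finite_minimalPrimes_of_isNoetherianRing R _).preimage
      (fun p _ q _ h => PrimeSpectrum.ext h)
  refine hfin.subset ?_
  rintro p ⟨hpm, hp0⟩
  exact mem_minimalPrimes_of_HypH hx H (mem_support_of_locLen_ne_zero hp0) hpm

theorem finite_support_mul (hx : x ∈ IsLocalRing.maximalIdeal R) (N : Type*) [AddCommGroup N]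
    [Module R N] [Module.Finite R N] (H : HypH x N) :
    ({p : PrimeSpectrum R | p.asIdeal ≠ IsLocalRing.maximalIdeal R} ∩
      Function.support fun p : PrimeSpectrum R => locLen p.asIdeal N *
        Module.length R (R ⧸ (p.asIdeal ⊔ Ideal.span {x}))).Finite := by
  refine (finite_support hx N H).subset ?_
  rintro p ⟨hpm, hp0⟩
  exact ⟨hpm, left_ne_zero_of_mul hp0⟩

/-- `b + q ∈ (x + q)` iff `b ∈ q + (x)`. -/
theorem mk_mem_span_iff (q : Ideal R) (x b : R) :
    Ideal.Quotient.mk q b ∈ Ideal.span {Ideal.Quotient.mk q x} ↔ b ∈ q ⊔ Ideal.span {x} := by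
  constructor
  · intro h
    obtain ⟨c, hc⟩ := Ideal.mem_span_singleton'.mp h
    obtain ⟨c', rfl⟩ := Ideal.Quotient.mk_surjective c
    rw [← map_mul, Ideal.Quotient.eq] at hc
    refine Submodule.mem_sup.mpr ⟨b - c' * x, ?_, c' * x,
      Ideal.mem_span_singleton'.mpr ⟨c', rfl⟩, by ring⟩
    have := q.neg_mem hc
    rwa [neg_sub] at this
  · intro h
    obtain ⟨y, hy, z, hz, rfl⟩ := Submodule.mem_sup.mp h
    obtain ⟨c, rfl⟩ := Ideal.mem_span_singleton'.mp hz
    rw [map_add, Ideal.Quotient.eq_zero_iff_mem.mpr hy, zero_add, map_mul]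
    exact Ideal.mul_mem_left _ _ (Ideal.mem_span_singleton_self _)

theorem length_quot_quot (q : Ideal R) (x : R) :
    Module.length R ((R ⧸ q) ⧸ x • (⊤ : Submodule R (R ⧸ q))) =
      Module.length R (R ⧸ (q ⊔ Ideal.span {x})) := by
  obtain ⟨φ, hφdef⟩ : ∃ φ : R →ₗ[R] (R ⧸ q) ⧸ x • (⊤ : Submodule R (R ⧸ q)),
      φ = (x • (⊤ : Submodule R (R ⧸ q))).mkQ ∘ₗ (Submodule.mkQ q) := ⟨_, rfl⟩
  have hφ : Function.Surjective φ := by
    rw [hφdef]
    exact (Submodule.mkQ_surjective _).comp (Submodule.mkQ_surjective _)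
  have hker : LinearMap.ker φ = q ⊔ Ideal.span {x} := by
    ext b
    rw [← mk_mem_span_iff, hφdef, LinearMap.mem_ker, LinearMap.comp_apply, Submodule.mkQ_apply,
      Submodule.Quotient.mk_eq_zero, Submodule.mem_smul_pointwise_iff_exists]
    have hsm : ∀ c : R, x • (Ideal.Quotient.mk q c) = Ideal.Quotient.mk q x * Ideal.Quotient.mk q c :=
      fun c => by rw [← map_mul]; rfl
    constructor
    · rintro ⟨c, -, hc⟩
      obtain ⟨c', rfl⟩ := Ideal.Quotient.mk_surjective c
      rw [hsm] at hc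
      have hc' : Ideal.Quotient.mk q b = Ideal.Quotient.mk q c' * Ideal.Quotient.mk q x := by
        rw [mul_comm]
        exact hc.symm
      rw [hc']
      exact Ideal.mul_mem_left _ _ (Ideal.mem_span_singleton_self _)
    · intro h
      obtain ⟨c, hc⟩ := Ideal.mem_span_singleton'.mp h
      obtain ⟨c', rfl⟩ := Ideal.Quotient.mk_surjective c
      refine ⟨Ideal.Quotient.mk q c', Submodule.mem_top, ?_⟩
      rw [hsm, mul_comm]
      exact hc
  exact ((Submodule.quotEquivOfEq _ _ hker).symm.trans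
    (φ.quotKerEquivOfSurjective hφ)).length_eq.symm

/-- The order of vanishing of `x` in `R/p` as a length over `R`. -/
theorem ord_quotient_eq (p : Ideal R) (x : R) :
    Ring.ord (R ⧸ p) (Ideal.Quotient.mk p x) = Module.length R (R ⧸ (p ⊔ Ideal.span {x})) := by
  unfold Ring.ord
  rw [← Module.length_eq_of_surjective (S := R) (R := R ⧸ p)
    (M := (R ⧸ p) ⧸ Ideal.span {Ideal.Quotient.mk p x}) Ideal.Quotient.mk_surjective]
  obtain ⟨φ, hφdef⟩ : ∃ φ : R →ₗ[R] (R ⧸ p) ⧸ Ideal.span {Ideal.Quotient.mk p x},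
      φ = ((Ideal.span {Ideal.Quotient.mk p x}).mkQ.restrictScalars R) ∘ₗ (Submodule.mkQ p) :=
    ⟨_, rfl⟩
  have hφ : Function.Surjective φ := by
    rw [hφdef]
    exact (Submodule.mkQ_surjective _).comp (Submodule.mkQ_surjective _)
  have hker : LinearMap.ker φ = p ⊔ Ideal.span {x} := by
    ext b
    rw [← mk_mem_span_iff, hφdef, LinearMap.mem_ker, LinearMap.comp_apply,
      LinearMap.restrictScalars_apply, Submodule.mkQ_apply, Submodule.Quotient.mk_eq_zero]
    rfl
  exact ((Submodule.quotEquivOfEq _ _ hker).symm.trans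
    (φ.quotKerEquivOfSurjective hφ)).length_eq.symm

/-- `ℓ(R/(p + xR)) = 1` iff the image of `x` generates the maximal ideal of `R/p`. -/
theorem length_quot_eq_one_iff (hx : x ∈ IsLocalRing.maximalIdeal R) (p : Ideal R)
    (hp : p ≤ IsLocalRing.maximalIdeal R) :
    Module.length R (R ⧸ (p ⊔ Ideal.span {x})) = 1 ↔
      Ideal.map (Ideal.Quotient.mk p) (IsLocalRing.maximalIdeal R) =
        Ideal.span {Ideal.Quotient.mk p x} := by
  rw [Module.length_eq_one_iff, isSimpleModule_iff_isCoatom, ← Ideal.isMaximal_def]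
  constructor
  · intro hmax
    have hJ := IsLocalRing.eq_maximalIdeal hmax
    rw [← hJ, Ideal.map_sup, Ideal.map_quotient_self, bot_sup_eq, Ideal.map_span,
      Set.image_singleton]
  · intro h
    have hJ : p ⊔ Ideal.span {x} = IsLocalRing.maximalIdeal R := by
      refine le_antisymm (sup_le hp ((Ideal.span_singleton_le_iff_mem _).mpr hx)) ?_
      intro y hy
      rw [← mk_mem_span_iff, ← h]
      exact Ideal.mem_map_of_mem _ hy
    rw [hJ]
    exact IsLocalRing.maximalIdeal.isMaximal R

theorem one_le_length_quot (hx : x ∈ IsLocalRing.maximalIdeal R) (p : Ideal R)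
    (hp : p ≤ IsLocalRing.maximalIdeal R) :
    1 ≤ Module.length R (R ⧸ (p ⊔ Ideal.span {x})) := by
  rw [Order.one_le_iff_pos, Module.length_pos_iff]
  refine Ideal.Quotient.nontrivial_iff.mpr (fun h => ?_)
  have : p ⊔ Ideal.span {x} ≤ IsLocalRing.maximalIdeal R :=
    sup_le hp ((Ideal.span_singleton_le_iff_mem _).mpr hx)
  rw [h, top_le_iff] at this
  exact Ideal.IsPrime.ne_top inferInstance this

end Local

section Main

variable {R : Type u} [CommRing R] [IsNoetherianRing R] [IsLocalRing R]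

/-- The weighted sum `∑_{p ≠ m} ℓ_{R_p}(N_p) · ℓ(R/(p + xR))`. -/
noncomputable def wsum (x : R) (N : Type*) [AddCommGroup N] [Module R N] : ℕ∞ :=
  ∑ᶠ (p : PrimeSpectrum R) (_ : p.asIdeal ≠ IsLocalRing.maximalIdeal R),
    locLen p.asIdeal N * Module.length R (R ⧸ (p.asIdeal ⊔ Ideal.span {x}))

/-- The formula to be proved by dévissage. -/
def Good (x : R) (N : Type u) [AddCommGroup N] [Module R N] : Prop :=
  HypH x N → Module.length R (N ⧸ x • (⊤ : Submodule R N)) =
    Module.length R (LinearMap.ker (LinearMap.lsmul R N x)) + wsum x N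

theorem good_subsingleton (x : R) (N : Type u) [AddCommGroup N] [Module R N] [Subsingleton N] :
    Good x N := by
  intro _
  have h1 : Module.length R (N ⧸ x • (⊤ : Submodule R N)) = 0 :=
    Module.length_eq_zero_iff.mpr (Function.Surjective.subsingleton (Submodule.mkQ_surjective _))
  have h2 : Module.length R (LinearMap.ker (LinearMap.lsmul R N x)) = 0 :=
    Module.length_eq_zero_iff.mpr ⟨fun a b => Subtype.ext (Subsingleton.elim _ _)⟩
  have h3 : wsum x N = 0 := by
    unfold wsum
    exact finsum_mem_eq_zero_of_forall_eq_zero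
      (fun p _ => by rw [locLen_of_subsingleton, zero_mul])
  rw [h1, h2, h3, add_zero]

theorem good_exact {x : R} (hx : x ∈ IsLocalRing.maximalIdeal R) {N₁ N₂ N₃ : Type u}
    [AddCommGroup N₁] [Module R N₁] [Module.Finite R N₁]
    [AddCommGroup N₂] [Module R N₂] [Module.Finite R N₂]
    [AddCommGroup N₃] [Module R N₃] [Module.Finite R N₃]
    (f : N₁ →ₗ[R] N₂) (g : N₂ →ₗ[R] N₃) (hf : Function.Injective f)
    (hg : Function.Surjective g) (hfg : Function.Exact f g)
    (h₁ : Good x N₁) (h₃ : Good x N₃) : Good x N₂ := by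
  intro H
  have H₁ : HypH x N₁ := fun p hp => H p (Module.support_subset_of_injective f hf hp)
  have H₃ : HypH x N₃ := fun p hp => H p (Module.support_subset_of_surjective g hg hp)
  have e₁ := h₁ H₁
  have e₃ := h₃ H₃
  have hadd : ∀ p : PrimeSpectrum R,
      locLen p.asIdeal N₂ = locLen p.asIdeal N₁ + locLen p.asIdeal N₃ :=
    fun p => locLen_exact p.asIdeal f g hf hg hfg
  have hw : wsum x N₂ = wsum x N₁ + wsum x N₃ := by
    unfold wsum
    refine Eq.trans ?_ (finsum_mem_add_distrib' (finite_support_mul hx N₁ H₁)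
      (finite_support_mul hx N₃ H₃))
    refine finsum_mem_congr rfl (fun p _ => ?_)
    beta_reduce
    rw [hadd, add_mul]
  have hsix := chi_additive x f g hf hg hfg
  rw [e₁, e₃] at hsix
  have hk₁ : Module.length R (LinearMap.ker (LinearMap.lsmul R N₁ x)) ≠ ⊤ := length_ker_ne_top H₁
  have hk₃ : Module.length R (LinearMap.ker (LinearMap.lsmul R N₃ x)) ≠ ⊤ := length_ker_ne_top H₃
  rw [hw]
  have key : (Module.length R (LinearMap.ker (LinearMap.lsmul R N₁ x)) +
      Module.length R (LinearMap.ker (LinearMap.lsmul R N₃ x))) +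
        Module.length R (N₂ ⧸ x • (⊤ : Submodule R N₂)) =
      (Module.length R (LinearMap.ker (LinearMap.lsmul R N₁ x)) +
      Module.length R (LinearMap.ker (LinearMap.lsmul R N₃ x))) +
        (Module.length R (LinearMap.ker (LinearMap.lsmul R N₂ x)) +
          (wsum x N₁ + wsum x N₃)) := by
    rw [hsix]
    abel
  exact ENat.add_right_injective_of_ne_top (WithTop.add_ne_top.mpr ⟨hk₁, hk₃⟩) key

theorem good_quot {x : R} (hx : x ∈ IsLocalRing.maximalIdeal R) (q : PrimeSpectrum R) :
    Good x (R ⧸ q.asIdeal) := by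
  intro H
  have hQ : ∀ Q : Ideal R, Q.IsPrime → q.asIdeal ≤ Q → x ∈ Q →
      Q = IsLocalRing.maximalIdeal R := by
    intro Q hQ hqQ hxQ
    refine H ⟨Q, hQ⟩ ?_ hxQ
    rw [Module.mem_support_iff_of_finite, Ideal.annihilator_quotient]
    exact hqQ
  by_cases hqm : q.asIdeal = IsLocalRing.maximalIdeal R
  · have hfl : Module.length R (R ⧸ q.asIdeal) ≠ ⊤ := by
      refine length_ne_top_of_support _ (fun p hp => ?_)
      rw [Module.mem_support_iff_of_finite, Ideal.annihilator_quotient, hqm] at hp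
      exact ((IsLocalRing.maximalIdeal.isMaximal R).eq_of_le p.2.ne_top hp).symm
    have hsum : wsum x (R ⧸ q.asIdeal) = 0 := by
      unfold wsum
      refine finsum_mem_eq_zero_of_forall_eq_zero (fun p hp => ?_)
      have hnle : ¬ q.asIdeal ≤ p.asIdeal := by
        intro hle
        rw [hqm] at hle
        exact hp ((IsLocalRing.maximalIdeal.isMaximal R).eq_of_le p.2.ne_top hle).symm
      rw [locLen_quotient_eq_zero hnle, zero_mul]
    rw [hsum, add_zero]
    exact chi_fin x _ hfl
  · have hxq : x ∉ q.asIdeal := fun h => hqm (hQ q.asIdeal q.2 le_rfl h)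
    have hker : LinearMap.ker (LinearMap.lsmul R (R ⧸ q.asIdeal) x) = ⊥ := by
      rw [LinearMap.ker_eq_bot']
      intro y hy
      obtain ⟨b, rfl⟩ := Ideal.Quotient.mk_surjective y
      rw [LinearMap.lsmul_apply] at hy
      have h1 : x • (Ideal.Quotient.mk q.asIdeal b) = Ideal.Quotient.mk q.asIdeal (x * b) := rfl
      rw [h1, Ideal.Quotient.eq_zero_iff_mem] at hy
      rw [Ideal.Quotient.eq_zero_iff_mem]
      exact (q.2.mem_or_mem hy).resolve_left hxq
    have hsum : wsum x (R ⧸ q.asIdeal) =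
        Module.length R (R ⧸ (q.asIdeal ⊔ Ideal.span {x})) := by
      unfold wsum
      have h1 : ∀ p ∈ Function.support (fun p : PrimeSpectrum R =>
          locLen p.asIdeal (R ⧸ q.asIdeal) *
            Module.length R (R ⧸ (p.asIdeal ⊔ Ideal.span {x}))),
          p ∈ {p : PrimeSpectrum R | p.asIdeal ≠ IsLocalRing.maximalIdeal R} ↔
            p ∈ ({q} : Set (PrimeSpectrum R)) := by
        intro p hp
        have hp0 : locLen p.asIdeal (R ⧸ q.asIdeal) ≠ 0 := left_ne_zero_of_mul hp
        have hqp : q.asIdeal ≤ p.asIdeal := by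
          by_contra hn
          exact hp0 (locLen_quotient_eq_zero hn)
        constructor
        · intro hpm
          have h2 : q.asIdeal = p.asIdeal := eq_of_le_of_forall hx hqp hpm hQ
          exact Set.mem_singleton_iff.mpr (PrimeSpectrum.ext h2.symm)
        · intro hpq
          rw [Set.mem_singleton_iff] at hpq
          rw [hpq]
          exact hqm
      refine Eq.trans (finsum_mem_inter_support_eq' _ _ _ h1) ?_
      rw [finsum_mem_singleton, locLen_quotient_self, one_mul]
    rw [hker, Module.length_bot, zero_add, hsum]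
    exact length_quot_quot q.asIdeal x

/-- **Main formula.** `ℓ(M/xM) = ℓ(0 :_M x) + ∑_{p ≠ m} ℓ(M_p) ℓ(R/(p + xR))`. -/
theorem main {x : R} (hx : x ∈ IsLocalRing.maximalIdeal R) (M : Type u) [AddCommGroup M]
    [Module R M] [Module.Finite R M] : Good x M := by
  induction ‹Module.Finite R M› using
    IsNoetherianRing.induction_on_isQuotientEquivQuotientPrime R with
  | subsingleton N => exact good_subsingleton x N
  | quotient N q eqv =>
    exact good_exact hx (eqv.symm : (R ⧸ q.asIdeal) →ₗ[R] N) (0 : N →ₗ[R] PUnit.{u + 1})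
      eqv.symm.injective (Function.surjective_to_subsingleton _)
      ((LinearMap.exact_zero_iff_surjective PUnit.{u + 1}
        (eqv.symm : (R ⧸ q.asIdeal) →ₗ[R] N)).2 eqv.symm.surjective)
      (good_quot hx q) (good_subsingleton x PUnit.{u + 1})
  | exact N₁ N₂ N₃ f g hf hg hfg h₁ h₃ => exact good_exact hx f g hf hg hfg h₁ h₃

/-- An elementary criterion on finite sums in `ℕ∞`. -/
theorem sum_crit {ι : Type*} (F : Finset ι) (a c : ι → ℕ∞) (k L : ℕ∞) (hL : L ≠ ⊤)
    (ha0 : ∀ i ∈ F, a i ≠ 0) (hc : ∀ i ∈ F, 1 ≤ c i) (hE : L = k + ∑ i ∈ F, a i * c i) :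
    ∑ i ∈ F, a i ≤ L ∧ (∑ i ∈ F, a i = L ↔ k = 0 ∧ ∀ i ∈ F, c i = 1) := by
  classical
  have hle : ∑ i ∈ F, a i ≤ ∑ i ∈ F, a i * c i :=
    Finset.sum_le_sum (fun i hi => le_mul_of_one_le_right' (hc i hi))
  have hle2 : ∑ i ∈ F, a i * c i ≤ L := by
    rw [hE]
    exact le_add_self
  refine ⟨hle.trans hle2, ⟨fun h => ?_, fun hh => ?_⟩⟩
  · have hac : ∑ i ∈ F, a i * c i = L := le_antisymm hle2 (h ▸ hle)
    have hacne : ∑ i ∈ F, a i * c i ≠ ⊤ := hac ▸ hL
    have hk : k = 0 := by
      have h2 : ∑ i ∈ F, a i * c i + k = ∑ i ∈ F, a i * c i + 0 := by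
        rw [add_zero, add_comm, ← hE, hac]
      exact ENat.add_right_injective_of_ne_top hacne h2
    refine ⟨hk, fun i hi => ?_⟩
    by_contra hci
    have h2 : 1 + 1 ≤ c i := Order.add_one_le_of_lt (lt_of_le_of_ne (hc i hi) (Ne.symm hci))
    have h3 : a i + 1 ≤ a i * c i := by
      calc a i + 1 ≤ a i + a i :=
            add_le_add le_rfl (Order.one_le_iff_pos.mpr (pos_iff_ne_zero.mpr (ha0 i hi)))
        _ = a i * (1 + 1) := by ring
        _ ≤ a i * c i := mul_le_mul' le_rfl h2
    have h4 : ∑ j ∈ F, a j + 1 ≤ ∑ j ∈ F, a j * c j := by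
      rw [← Finset.add_sum_erase F a hi, ← Finset.add_sum_erase F (fun j => a j * c j) hi]
      calc a i + ∑ j ∈ F.erase i, a j + 1 = (a i + 1) + ∑ j ∈ F.erase i, a j := by abel
        _ ≤ a i * c i + ∑ j ∈ F.erase i, a j * c j :=
          add_le_add h3 (Finset.sum_le_sum (fun j hj =>
            le_mul_of_one_le_right' (hc j (Finset.mem_of_mem_erase hj))))
    rw [h, hac] at h4
    exact absurd ((ENat.add_one_le_iff hL).mp h4) (lt_irrefl _)
  · obtain ⟨hk, hc1⟩ := hh
    rw [hE, hk, zero_add]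
    exact Finset.sum_congr rfl (fun i hi => by rw [hc1 i hi, mul_one])

/-- The inequality `∑_{p ≠ m} ℓ(M_p) ≤ ℓ(M/xM)` and the criterion for equality. -/
theorem sum_le_and_eq_iff {x : R} (hx : x ∈ IsLocalRing.maximalIdeal R) (M : Type u)
    [AddCommGroup M] [Module R M] [Module.Finite R M] (H : HypH x M) :
    (∑ᶠ (p : PrimeSpectrum R) (_ : p.asIdeal ≠ IsLocalRing.maximalIdeal R),
        locLen p.asIdeal M) ≤ Module.length R (M ⧸ x • (⊤ : Submodule R M)) ∧
    ((∑ᶠ (p : PrimeSpectrum R) (_ : p.asIdeal ≠ IsLocalRing.maximalIdeal R),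
        locLen p.asIdeal M) = Module.length R (M ⧸ x • (⊤ : Submodule R M)) ↔
      IsSMulRegular M x ∧ ∀ p ∈ Module.support R M,
        p.asIdeal ≠ IsLocalRing.maximalIdeal R →
          Ideal.map (Ideal.Quotient.mk p.asIdeal) (IsLocalRing.maximalIdeal R) =
            Ideal.span {Ideal.Quotient.mk p.asIdeal x}) := by
  classical
  have hfin := finite_support hx M H
  have hA : (∑ᶠ (p : PrimeSpectrum R) (_ : p.asIdeal ≠ IsLocalRing.maximalIdeal R),
      locLen p.asIdeal M) = ∑ p ∈ hfin.toFinset, locLen p.asIdeal M := by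
    refine Eq.trans ?_ (finsum_mem_eq_finite_toFinset_sum _ hfin)
    exact (finsum_mem_inter_support (fun p : PrimeSpectrum R => locLen p.asIdeal M)
      {p : PrimeSpectrum R | p.asIdeal ≠ IsLocalRing.maximalIdeal R}).symm
  have hAC : wsum x M = ∑ p ∈ hfin.toFinset,
      locLen p.asIdeal M * Module.length R (R ⧸ (p.asIdeal ⊔ Ideal.span {x})) := by
    unfold wsum
    refine Eq.trans ?_ (finsum_mem_eq_finite_toFinset_sum _ hfin)
    exact finsum_mem_inter_support_eq' _
      {p : PrimeSpectrum R | p.asIdeal ≠ IsLocalRing.maximalIdeal R} _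
      (fun p hp => ⟨fun h => ⟨h, left_ne_zero_of_mul hp⟩, fun h => h.1⟩)
  have hE := main hx M H
  rw [hAC] at hE
  have hmemF : ∀ p : PrimeSpectrum R, p ∈ hfin.toFinset ↔
      p.asIdeal ≠ IsLocalRing.maximalIdeal R ∧ locLen p.asIdeal M ≠ 0 := by
    intro p
    rw [Set.Finite.mem_toFinset]
    rfl
  have hcrit := sum_crit hfin.toFinset (fun p => locLen p.asIdeal M)
    (fun p => Module.length R (R ⧸ (p.asIdeal ⊔ Ideal.span {x})))
    (Module.length R (LinearMap.ker (LinearMap.lsmul R M x)))
    (Module.length R (M ⧸ x • (⊤ : Submodule R M))) (length_quot_ne_top H)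
    (fun p hp => ((hmemF p).mp hp).2)
    (fun p _ => one_le_length_quot hx p.asIdeal (IsLocalRing.le_maximalIdeal p.2.ne_top)) hE
  rw [hA]
  refine ⟨hcrit.1, hcrit.2.trans ?_⟩
  have hk : Module.length R (LinearMap.ker (LinearMap.lsmul R M x)) = 0 ↔ IsSMulRegular M x := by
    rw [Module.length_eq_zero_iff, Submodule.subsingleton_iff_eq_bot,
      isSMulRegular_iff_ker_lsmul_eq_bot]
  rw [hk]
  refine and_congr_right (fun _ => ?_)
  constructor
  · intro h p hp hpm
    rw [← length_quot_eq_one_iff hx p.asIdeal (IsLocalRing.le_maximalIdeal p.2.ne_top)]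
    exact h p ((hmemF p).mpr ⟨hpm, locLen_ne_zero_of_mem_support hp⟩)
  · intro h p hp
    obtain ⟨hpm, hp0⟩ := (hmemF p).mp hp
    rw [length_quot_eq_one_iff hx p.asIdeal (IsLocalRing.le_maximalIdeal p.2.ne_top)]
    exact h p (mem_support_of_locLen_ne_zero hp0) hpm

/-- Rewriting a sum over the subtype of minimal primes of `I` as a sum over non-maximal primes. -/
theorem finsum_minimalPrimes_eq {I : Ideal R} (M : Type*) [AddCommGroup M] [Module R M]
    (h1 : ∀ p ∈ I.minimalPrimes, p ≠ IsLocalRing.maximalIdeal R)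
    (h2 : ∀ p ∈ Module.support R M, p.asIdeal ≠ IsLocalRing.maximalIdeal R →
      p.asIdeal ∈ I.minimalPrimes) :
    (∑ᶠ p : I.minimalPrimes,
        haveI : p.1.IsPrime := p.2.1.1
        Module.length (Localization.AtPrime p.1) (LocalizedModule p.1.primeCompl M)) =
      ∑ᶠ (p : PrimeSpectrum R) (_ : p.asIdeal ≠ IsLocalRing.maximalIdeal R),
        locLen p.asIdeal M := by
  have e1 : (∑ᶠ p : I.minimalPrimes,
        haveI : p.1.IsPrime := p.2.1.1
        Module.length (Localization.AtPrime p.1) (LocalizedModule p.1.primeCompl M)) =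
      ∑ᶠ P : {p : PrimeSpectrum R // p.asIdeal ∈ I.minimalPrimes}, locLen P.1.asIdeal M := by
    refine finsum_eq_of_bijective
      (fun p : I.minimalPrimes => (⟨⟨p.1, p.2.1.1⟩, p.2⟩ :
        {p : PrimeSpectrum R // p.asIdeal ∈ I.minimalPrimes})) ⟨?_, ?_⟩ (fun p => rfl)
    · intro p p' h
      apply Subtype.ext
      exact congrArg (fun P : {p : PrimeSpectrum R // p.asIdeal ∈ I.minimalPrimes} =>
        P.1.asIdeal) h
    · intro P
      exact ⟨⟨P.1.asIdeal, P.2⟩, rfl⟩
  rw [e1, finsum_subtype_eq_finsum_cond (f := fun p : PrimeSpectrum R => locLen p.asIdeal M)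
    (fun p => p.asIdeal ∈ I.minimalPrimes)]
  exact finsum_mem_inter_support_eq' _ {p : PrimeSpectrum R | p.asIdeal ∈ I.minimalPrimes}
    {p : PrimeSpectrum R | p.asIdeal ≠ IsLocalRing.maximalIdeal R}
    (fun p hp => ⟨fun h => h1 _ h, fun h => h2 p (mem_support_of_locLen_ne_zero hp) h⟩)

end Main

section Extras

variable {R : Type u} [CommRing R]

theorem smul_top_eq_top_of_isUnit {x : R} (hx : IsUnit x) (N : Type*) [AddCommGroup N]
    [Module R N] : x • (⊤ : Submodule R N) = ⊤ := by
  obtain ⟨u, rfl⟩ := hx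
  refine eq_top_iff.mpr (fun n _ => ?_)
  exact (Submodule.mem_smul_pointwise_iff_exists _ _ _).mpr
    ⟨((u⁻¹ : Rˣ) : R) • n, Submodule.mem_top, by rw [smul_smul, Units.mul_inv, one_smul]⟩

theorem length_quot_eq_zero_of_isUnit {x : R} (hx : IsUnit x) (N : Type*) [AddCommGroup N]
    [Module R N] : Module.length R (N ⧸ x • (⊤ : Submodule R N)) = 0 := by
  rw [Module.length_eq_zero_iff, Submodule.Quotient.subsingleton_iff]
  exact smul_top_eq_top_of_isUnit hx N

theorem length_ker_eq_zero_of_isUnit {x : R} (hx : IsUnit x) (N : Type*) [AddCommGroup N]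
    [Module R N] : Module.length R (LinearMap.ker (LinearMap.lsmul R N x)) = 0 := by
  rw [Module.length_eq_zero_iff, Submodule.subsingleton_iff_eq_bot,
    ← isSMulRegular_iff_ker_lsmul_eq_bot]
  exact hx.isSMulRegular N

theorem length_quot_sup_span_eq_zero_of_isUnit {x : R} (hx : IsUnit x) (p : Ideal R) :
    Module.length R (R ⧸ (p ⊔ Ideal.span {x})) = 0 := by
  rw [Module.length_eq_zero_iff, Ideal.span_singleton_eq_top.mpr hx, sup_top_eq,
    Submodule.Quotient.subsingleton_iff]

variable [IsNoetherianRing R] [IsLocalRing R]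

theorem eq_maximalIdeal_of_supportDim_le_zero {N : Type*} [AddCommGroup N] [Module R N]
    (h : Module.supportDim R N ≤ 0) {p : PrimeSpectrum R} (hp : p ∈ Module.support R N) :
    p.asIdeal = IsLocalRing.maximalIdeal R := by
  have h0 : Order.krullDim (Module.support R N) ≤ 0 := h
  rw [Order.krullDim_nonpos_iff_forall_isMax] at h0
  have hle : p ≤ IsLocalRing.closedPoint R := IsLocalRing.le_maximalIdeal p.2.ne_top
  have hcl : IsLocalRing.closedPoint R ∈ Module.support R N := Module.mem_support_mono hle hp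
  have h1 : (⟨IsLocalRing.closedPoint R, hcl⟩ : Module.support R N) ≤ ⟨p, hp⟩ :=
    h0 ⟨p, hp⟩ (b := ⟨IsLocalRing.closedPoint R, hcl⟩) hle
  exact le_antisymm (IsLocalRing.le_maximalIdeal p.2.ne_top) h1

theorem eq_maximalIdeal_of_isArtinianRing_quotient {t : R}
    (hart : IsArtinianRing (R ⧸ Ideal.span {t})) (Q : Ideal R) (hQ : Q.IsPrime) (htQ : t ∈ Q) :
    Q = IsLocalRing.maximalIdeal R := by
  have hle : Ideal.span {t} ≤ Q := (Ideal.span_singleton_le_iff_mem _).mpr htQ
  haveI : (Q.map (Ideal.Quotient.mk (Ideal.span {t}))).IsPrime :=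
    Ideal.isPrime_map_quotientMk_of_isPrime hle
  haveI hmax : (Q.map (Ideal.Quotient.mk (Ideal.span {t}))).IsMaximal :=
    IsArtinianRing.isMaximal_of_isPrime _
  have h2 : (Ideal.comap (Ideal.Quotient.mk (Ideal.span {t}))
      (Q.map (Ideal.Quotient.mk (Ideal.span {t})))).IsMaximal :=
    Ideal.comap_isMaximal_of_surjective _ Ideal.Quotient.mk_surjective
  rw [Ideal.comap_map_of_surjective _ Ideal.Quotient.mk_surjective, ← RingHom.ker_eq_comap_bot,
    Ideal.mk_ker, sup_of_le_left hle] at h2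
  exact IsLocalRing.eq_maximalIdeal h2

/-- In a local ring of positive dimension the maximal ideal is not a minimal prime. -/
theorem ne_maximalIdeal_of_mem_minimalPrimes (hdim : 0 < ringKrullDim R) :
    ∀ p ∈ (⊥ : Ideal R).minimalPrimes, p ≠ IsLocalRing.maximalIdeal R := by
  intro p hp hpm
  subst hpm
  have hK : Ring.KrullDimLE 0 R := by
    rw [Ring.krullDimLE_zero_iff]
    intro I hI
    have hle : IsLocalRing.maximalIdeal R ≤ I :=
      hp.2 ⟨hI, bot_le⟩ (IsLocalRing.le_maximalIdeal hI.ne_top)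
    have : I = IsLocalRing.maximalIdeal R :=
      le_antisymm (IsLocalRing.le_maximalIdeal hI.ne_top) hle
    rw [this]
    infer_instance
  have h0 : ringKrullDim R ≤ 0 := by
    have := Ring.krullDimLE_iff.mp hK
    exact_mod_cast this
  exact (not_lt.mpr h0) hdim

/-- If `m` is the only prime containing `t ∈ m`, every non-maximal prime is minimal. -/
theorem mem_minimalPrimes_of_ne {t : R} (ht : t ∈ IsLocalRing.maximalIdeal R)
    (hQ : ∀ Q : Ideal R, Q.IsPrime → t ∈ Q → Q = IsLocalRing.maximalIdeal R) (p : Ideal R)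
    [p.IsPrime] (hpm : p ≠ IsLocalRing.maximalIdeal R) : p ∈ (⊥ : Ideal R).minimalPrimes := by
  obtain ⟨q, hq, hqp⟩ := Ideal.exists_minimalPrimes_le (bot_le : (⊥ : Ideal R) ≤ p)
  haveI : q.IsPrime := hq.1.1
  have hqeq : q = p := eq_of_le_of_forall ht hqp hpm (fun Q hQp _ htQ => hQ Q hQp htQ)
  rw [← hqeq]
  exact hq

end Extras

end Groth.Agent.H17.Chi
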