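import Mathlib
import Groth.Agent.H8.QCohStalk

/-!
# Cyclic generation of stalks of a quasi-coherent module and generization
-/

set_option autoImplicit false
set_option linter.style.haveILetI false
universe u
open CategoryTheory CategoryTheory.Limits AlgebraicGeometry TopologicalSpace Opposite

namespace Groth.Agent.H17.CyclicStalk

open Groth.Agent.H8

variable {X : Scheme.{u}}

/-- the generization of `z` in an affine open `V` corresponding to a prime `Q` of the local ring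
at `z`. -/
theorem exists_generization {V : X.Opens} (hV : IsAffineOpen V) (z : X) (hzV : z ∈ V)
    (Q : Ideal (X.presheaf.stalk z)) [hQ : Q.IsPrime] :
    ∃ (y : X) (hyV : y ∈ V), (hV.primeIdealOf ⟨y, hyV⟩).asIdeal =
        Q.comap (X.presheaf.germ V z hzV).hom ∧ y ⤳ z ∧
        (y = z → Q = IsLocalRing.maximalIdeal (X.presheaf.stalk z)) := by
  have hq' : (Q.comap (X.presheaf.germ V z hzV).hom).IsPrime := Ideal.comap_isPrime _ Q
  have hyV : hV.fromSpec ⟨_, hq'⟩ ∈ V := by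
    have h1 : hV.fromSpec ⟨_, hq'⟩ ∈ Set.range hV.fromSpec := ⟨_, rfl⟩
    rwa [hV.range_fromSpec] at h1
  have hpy : hV.primeIdealOf ⟨hV.fromSpec ⟨_, hq'⟩, hyV⟩ = ⟨_, hq'⟩ :=
    hV.fromSpec.isOpenEmbedding.injective (hV.fromSpec_primeIdealOf ⟨_, hyV⟩)
  letI := X.presheaf.algebra_section_stalk ⟨z, hzV⟩
  haveI := hV.isLocalization_stalk ⟨z, hzV⟩
  have hmax : (IsLocalRing.maximalIdeal (X.presheaf.stalk z)).comap
      (X.presheaf.germ V z hzV).hom = (hV.primeIdealOf ⟨z, hzV⟩).asIdeal :=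
    IsLocalization.AtPrime.comap_maximalIdeal (X.presheaf.stalk z)
      (hV.primeIdealOf ⟨z, hzV⟩).asIdeal
  refine ⟨hV.fromSpec ⟨_, hq'⟩, hyV, congrArg PrimeSpectrum.asIdeal hpy, ?_, ?_⟩
  · have hle : (⟨_, hq'⟩ : PrimeSpectrum Γ(X, V)) ≤ hV.primeIdealOf ⟨z, hzV⟩ := by
      change Q.comap (X.presheaf.germ V z hzV).hom ≤ (hV.primeIdealOf ⟨z, hzV⟩).asIdeal
      rw [← hmax]
      exact Ideal.comap_mono (IsLocalRing.le_maximalIdeal hQ.ne_top)
    have h1 := ((PrimeSpectrum.le_iff_specializes _ _).mp hle).map hV.fromSpec.continuous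
    rwa [hV.fromSpec_primeIdealOf ⟨z, hzV⟩] at h1
  · intro hyz
    have h2 : hV.primeIdealOf ⟨hV.fromSpec ⟨_, hq'⟩, hyV⟩ = hV.primeIdealOf ⟨z, hzV⟩ := by
      congr 1
      exact Subtype.ext hyz
    rw [hpy] at h2
    have h3 : Q.comap (X.presheaf.germ V z hzV).hom =
        (IsLocalRing.maximalIdeal (X.presheaf.stalk z)).comap (X.presheaf.germ V z hzV).hom := by
      rw [hmax]
      exact congrArg PrimeSpectrum.asIdeal h2
    have h4 := congrArg (Ideal.map (algebraMap Γ(X, V) (X.presheaf.stalk z))) h3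
    have e1 : Ideal.map (algebraMap Γ(X, V) (X.presheaf.stalk z))
        (Ideal.comap (X.presheaf.germ V z hzV).hom Q) = Q :=
      IsLocalization.map_comap (hV.primeIdealOf ⟨z, hzV⟩).asIdeal.primeCompl
        (X.presheaf.stalk z) Q
    have e2 : Ideal.map (algebraMap Γ(X, V) (X.presheaf.stalk z))
        (Ideal.comap (X.presheaf.germ V z hzV).hom
          (IsLocalRing.maximalIdeal (X.presheaf.stalk z))) =
        IsLocalRing.maximalIdeal (X.presheaf.stalk z) :=
      IsLocalization.map_comap (hV.primeIdealOf ⟨z, hzV⟩).asIdeal.primeCompl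
        (X.presheaf.stalk z) _
    rw [e1, e2] at h4
    exact h4

/-- if a section `n` generates the stalk at the generization `y` of `z` corresponding to the prime
`Q`, then every element of the stalk at `z` is, up to a factor outside `Q`, a multiple of the germ
of `n`. -/
theorem exists_smul_eq_smul_germ (F : X.Modules) [F.IsQuasicoherent] {V : X.Opens}
    (hV : IsAffineOpen V) (z : X) (hzV : z ∈ V) (n : Γ(F, V))
    (Q : Ideal (X.presheaf.stalk z)) [hQ : Q.IsPrime] (y : X) (hyV : y ∈ V)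
    (hy : (hV.primeIdealOf ⟨y, hyV⟩).asIdeal = Q.comap (X.presheaf.germ V z hzV).hom)
    (hgen : ∀ ν : F.presheaf.stalk y, ∃ b : X.presheaf.stalk y,
      b • F.presheaf.germ V y hyV n = ν)
    (μ : F.presheaf.stalk z) :
    ∃ t : X.presheaf.stalk z, t ∉ Q ∧ ∃ r : X.presheaf.stalk z,
      t • μ = r • F.presheaf.germ V z hzV n := by
  have hmemq : ∀ a : Γ(X, V), y ∈ X.basicOpen a ↔ X.presheaf.germ V z hzV a ∉ Q := by
    intro a
    rw [mem_basicOpen_iff_notMem_primeIdealOf hV y hyV a]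
    change a ∉ (hV.primeIdealOf ⟨y, hyV⟩).asIdeal ↔ _
    rw [hy]
    rfl
  obtain ⟨u, hzu, ν, hν⟩ := exists_germ_smul_eq_germ F hV z hzV μ
  obtain ⟨b, hb⟩ := hgen (F.presheaf.germ V y hyV ν)
  obtain ⟨t, hyt, a, ha⟩ : ∃ (t : Γ(X, V)) (_ : y ∈ X.basicOpen t) (a : Γ(X, V)),
      X.presheaf.germ V y hyV t * b = X.presheaf.germ V y hyV a := by
    letI := X.presheaf.algebra_section_stalk ⟨y, hyV⟩
    haveI := hV.isLocalization_stalk ⟨y, hyV⟩
    obtain ⟨⟨a, t⟩, hat⟩ := IsLocalization.surj (hV.primeIdealOf ⟨y, hyV⟩).asIdeal.primeCompl b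
    refine ⟨t.1, (mem_basicOpen_iff_notMem_primeIdealOf hV y hyV t.1).mpr t.2, a, ?_⟩
    rw [mul_comm]
    exact hat
  have h0 : F.presheaf.germ V y hyV (t • ν - a • n) = 0 := by
    rw [map_sub, germ_smul, germ_smul, ← hb, ← mul_smul, ha, sub_self]
  obtain ⟨t', hyt', ht'⟩ := exists_smul_eq_zero_of_germ_eq_zero F hV y hyV _ h0
  have h1 : (t' * t) • ν = (t' * a) • n := by
    rw [smul_sub, sub_eq_zero, smul_smul, smul_smul] at ht'
    exact ht'
  have h2 := congrArg (F.presheaf.germ V z hzV) h1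
  rw [germ_smul, germ_smul, ← hν, ← mul_smul] at h2
  refine ⟨X.presheaf.germ V z hzV (t' * t) * X.presheaf.germ V z hzV u, ?_,
    X.presheaf.germ V z hzV (t' * a), h2⟩
  have hu : IsUnit (X.presheaf.germ V z hzV u) := (Scheme.mem_basicOpen _ _ _ hzV).mp hzu
  intro hmem
  rcases hQ.mem_or_mem hmem with h | h
  · rw [map_mul] at h
    rcases hQ.mem_or_mem h with h' | h'
    · exact (hmemq t').mp hyt' h'
    · exact (hmemq t).mp hyt h'
  · exact hQ.ne_top (Ideal.eq_top_of_isUnit_mem _ h hu)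

end Groth.Agent.H17.CyclicStalk
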