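import Mathlib
import Groth.Agent.H54.AffineDim2
import Groth.Agent.H54.SchemeDim2
import Groth.Agent.H17.IM.DimLocal

/-!
# Dimension of the zero locus of a function on a scheme locally of finite type over a field
-/

set_option autoImplicit false
universe u

namespace Groth.Agent.H17.DimHyp

open AlgebraicGeometry CategoryTheory TopologicalSpace

variable {X : Scheme.{u}}

/-- membership in the zero locus of a global function, read in an affine chart -/
theorem fromSpec_mem_zeroLocus_top_iff (f : Γ(X, ⊤)) (U : X.Opens) (hU : IsAffineOpen U)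
    (Q : PrimeSpectrum Γ(X, U)) :
    hU.fromSpec Q ∈ X.zeroLocus (U := ⊤) {f} ↔
      (X.presheaf.map (homOfLE (le_top : U ≤ ⊤)).op).hom f ∈ Q.asIdeal := by
  have hQU : hU.fromSpec Q ∈ (U : Set X) := by
    rw [← hU.range_fromSpec]; exact Set.mem_range_self Q
  have h1 := X.zeroLocus_map (le_top : U ≤ ⊤) {f}
  rw [Set.image_singleton] at h1
  have h2 : hU.fromSpec Q ∈ X.zeroLocus (U := ⊤) {f} ↔
      hU.fromSpec Q ∈
        X.zeroLocus (U := U) {(X.presheaf.map (homOfLE (le_top : U ≤ ⊤)).op).hom f} := by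
    rw [h1]
    constructor
    · exact fun h => Or.inl h
    · rintro (h | h)
      · exact h
      · exact absurd hQU h
  have h3 := hU.fromSpec_preimage_zeroLocus
    {(X.presheaf.map (homOfLE (le_top : U ≤ ⊤)).op).hom f}
  rw [h2]
  refine (Set.ext_iff.mp h3 Q).trans ?_
  exact (PrimeSpectrum.mem_zeroLocus Q _).trans Set.singleton_subset_iff

/-- an irreducible component of a locally Noetherian scheme is not contained in a set with empty
interior -/
theorem not_subset_of_mem_irreducibleComponents [IsLocallyNoetherian X] (Z : Set X)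
    (hZ : Z ∈ irreducibleComponents (X : Type u)) (Y : Set X) (hY : interior Y = ∅) :
    ¬ Z ⊆ Y := by
  intro hZY
  obtain ⟨x, hx⟩ := hZ.1.nonempty
  obtain ⟨_, ⟨U, hU, rfl⟩, hxU, -⟩ :=
    X.isBasis_affineOpens.exists_subset_of_mem_open (Set.mem_univ x) isOpen_univ
  replace hU : IsAffineOpen U := hU
  have : IsNoetherianRing Γ(X, U) := IsLocallyNoetherian.component_noetherian ⟨U, hU⟩
  have hemb := hU.fromSpec.isOpenEmbedding
  have hpre : hU.fromSpec ⁻¹' Z ∈ irreducibleComponents (Spec Γ(X, U)) :=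
    preimage_mem_irreducibleComponents hZ hemb ⟨x, hx, by rw [hU.range_fromSpec]; exact hxU⟩
  obtain ⟨o, ho, hne, hoZ⟩ :=
    TopologicalSpace.NoetherianSpace.exists_isOpen_nonempty_subset_irreducibleComponent _ hpre
  have hopen : IsOpen (hU.fromSpec '' o) := hemb.isOpenMap _ ho
  have hsub : hU.fromSpec '' o ⊆ Y := by
    rintro _ ⟨q, hq, rfl⟩
    exact hZY (hoZ hq)
  have h3 := interior_maximal hsub hopen
  rw [hY] at h3
  obtain ⟨q, hq⟩ := hne
  exact h3 ⟨q, hq, rfl⟩

/-- `tdeg ξ ≤ dim Z` for a closed set `Z ∋ ξ` -/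
theorem tdeg_le_topologicalKrullDim_closed {k : Type u} [Field k]
    (s : X ⟶ Spec (CommRingCat.of k)) [LocallyOfFiniteType s] (Z : Set X) (hZ : IsClosed Z)
    (ξ : X) (hξZ : ξ ∈ Z) :
    (Groth.Agent.H54.tdeg s ξ : WithBot ℕ∞) ≤ topologicalKrullDim ↥Z := by
  obtain ⟨_, ⟨U, hU, rfl⟩, hξU, -⟩ :=
    X.isBasis_affineOpens.exists_subset_of_mem_open (Set.mem_univ ξ) isOpen_univ
  replace hU : IsAffineOpen U := hU
  obtain ⟨ψ, hψ, hft⟩ := Groth.Agent.H17.IM.exists_chart_data s U hU
  have h1 := Groth.Agent.H54.ringKrullDim_quotient_chart s hU.fromSpec ψ hψ hft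
    (hU.primeIdealOf ⟨ξ, hξU⟩)
  rw [hU.fromSpec_primeIdealOf ⟨ξ, hξU⟩] at h1
  rw [← h1]
  exact Groth.Agent.H17.IM.ringKrullDim_quotient_primeIdealOf_le U hU ξ hξU Z hZ hξZ

/-- the generic point of an irreducible component is not in a nowhere dense closed set -/
theorem generic_not_mem [IsLocallyNoetherian X] (η : X)
    (hη : closure ({η} : Set X) ∈ irreducibleComponents (X : Type u)) (Y : Set X)
    (hYc : IsClosed Y) (hY : interior Y = ∅) : η ∉ Y := by
  intro h
  exact not_subset_of_mem_irreducibleComponents _ hη Y hY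
    (hYc.closure_subset_iff.mpr (Set.singleton_subset_iff.mpr h))

end Groth.Agent.H17.DimHyp
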