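import Groth.Agent.H1.Central.ExtDefs

set_option autoImplicit false
universe u
open CategoryTheory CategoryTheory.Limits MonoidalCategory CartesianMonoidalCategory MonObj GrpObj
  AlgebraicGeometry
open Groth.Agent.H1.Central

namespace Groth.Agent.H17.ExtCOMM

theorem ds_comm {Y : Scheme.{u}} {M : Type} [AddCommGroup M] {T : Over Y}
    (a b : T ⟶ Red.DS Y M) : a * b = b * a := by
  apply Groth.Agent.H1.SplitTori.hom_ext_chi
  intro m
  haveI := Groth.Agent.H91.KummerKer.chi_isMonHom Y m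
  rw [MonObj.mul_comp, MonObj.mul_comp]
  apply Groth.Agent.H1.SplitTori.gm_ext
  rw [GmPts.gmFn_mul, GmPts.gmFn_mul, _root_.mul_comm]

theorem chart_comm {S U' : Scheme.{u}} {H : Over S} [GrpObj H] (g : U' ⟶ S) (M : Type)
    [AddCommGroup M] (e : Grp.mk (Red.bc g H) ≅ Grp.mk (Red.DS U' M)) (T'' : Over U')
    (a' b' : (Over.map g).obj T'' ⟶ H) : a' * b' = b' * a' := by
  let e₀ := Groth.Agent.H91.MultGa.isoOfGrpIso e
  have hpq : ∀ p q : T'' ⟶ Red.bc g H, p * q = q * p := by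
    intro p q
    rw [← cancel_mono e₀.hom, MonObj.mul_comp, MonObj.mul_comp]
    exact ds_comm _ _
  apply ((Over.mapPullbackAdj g).homEquiv T'' H).injective
  rw [AlgGrp.Action.homEquiv_mul, AlgGrp.Action.homEquiv_mul]
  exact hpq _ _

theorem hom_ext_of_local {X Y : Scheme.{u}} (f g : X ⟶ Y)
    (h : ∀ x : X, ∃ W : X.Opens, x ∈ W ∧ W.ι ≫ f = W.ι ≫ g) : f = g := by
  choose W hxW hW using h
  have hcov : TopologicalSpace.IsOpenCover W := by
    rw [TopologicalSpace.IsOpenCover, eq_top_iff]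
    intro x _
    exact TopologicalSpace.Opens.mem_iSup.mpr ⟨x, hxW x⟩
  exact (X.openCoverOfIsOpenCover W hcov).hom_ext f g (fun x => hW x)

theorem multTypeFT_comm {S : Scheme.{u}} {H : Over S} [GrpObj H] (hH : SGA3x.IsMultTypeFT H) : ∀ (T : Over S) (a b : T ⟶ H), a * b = b * a := by
  obtain ⟨S', f, hflat, hsurj, -, hchart⟩ := hH
  haveI := hflat
  haveI := hsurj
  intro T a b
  apply Over.OverMorphism.ext
  haveI : Flat (pullback.fst T.hom f) := inferInstance
  haveI : Surjective (pullback.fst T.hom f) := inferInstance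
  haveI : Epi (pullback.fst T.hom f) := Flat.epi_of_flat_of_surjective _
  rw [← cancel_epi (pullback.fst T.hom f)]
  apply hom_ext_of_local
  intro x
  obtain ⟨U, hs'U, M, _, -, ⟨e⟩⟩ := hchart ((pullback.snd T.hom f).base x)
  refine ⟨(pullback.snd T.hom f) ⁻¹ᵁ U, hs'U, ?_⟩
  let k : ((pullback.snd T.hom f) ⁻¹ᵁ U : Scheme.{u}) ⟶ (U : Scheme.{u}) :=
    (pullback.snd T.hom f) ∣_ U
  have hk : k ≫ U.ι = ((pullback.snd T.hom f) ⁻¹ᵁ U).ι ≫ pullback.snd T.hom f :=
    morphismRestrict_ι _ _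
  let T'' : Over (U : Scheme.{u}) := Over.mk k
  let c : (Over.map (U.ι ≫ f)).obj T'' ⟶ T :=
    Over.homMk (((pullback.snd T.hom f) ⁻¹ᵁ U).ι ≫ pullback.fst T.hom f) (by
      show (((pullback.snd T.hom f) ⁻¹ᵁ U).ι ≫ pullback.fst T.hom f) ≫ T.hom = k ≫ U.ι ≫ f
      rw [Category.assoc, pullback.condition, ← Category.assoc, ← hk, Category.assoc])
  have h1 := chart_comm (U.ι ≫ f) M e T'' (c ≫ a) (c ≫ b)
  rw [← MonObj.comp_mul, ← MonObj.comp_mul] at h1
  have h2 := congrArg (fun φ => φ.left) h1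
  simpa [c, Category.assoc] using h2

end Groth.Agent.H17.ExtCOMM
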