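import Groth.Agent.H8.LocFreeStalk

/-!
# Local freeness of a given rank from a free stalk of that rank
-/

set_option autoImplicit false
set_option linter.style.haveILetI false
universe u
open CategoryTheory CategoryTheory.Limits AlgebraicGeometry TopologicalSpace Opposite
open AlgebraicGeometry.Scheme.Modules

namespace Groth.Agent.H17.LocFreeRank

open Groth.Agent.H8

section Algebra

/-- A finitely presented module with a localisation at `S` free of rank `n` becomes free of rank
`n` after inverting a single `r ∈ S`. -/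
lemma exists_free_away_of_free_rank {R : Type u} [CommRing R] (P : Type u) [AddCommGroup P]
    [Module R P] [Module.FinitePresentation R P] (S : Submonoid R)
    (Rₛ : Type u) [CommRing Rₛ] [Algebra R Rₛ] [IsLocalization S Rₛ] [Nontrivial Rₛ]
    {P' : Type u} [AddCommGroup P'] [Module R P'] [Module Rₛ P'] [IsScalarTower R Rₛ P']
    (f : P →ₗ[R] P') [IsLocalizedModule S f] [Module.Free Rₛ P'] (n : ℕ)
    (hn : Module.finrank Rₛ P' = n) :
    ∃ r ∈ S, Nonempty (LocalizedModule.Away r P ≃ₗ[Localization.Away r]
      (Fin n → Localization.Away r)) := by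
  obtain ⟨r, hr, hfree, hrank⟩ :=
    Module.FinitePresentation.exists_free_localizedModule_powers S f Rₛ
  haveI := hfree
  haveI : Nontrivial (Localization (.powers r)) :=
    (show Localization (.powers r) →+* Rₛ from
      IsLocalization.map (M := .powers r) (T := S) _ (RingHom.id _)
        (Submonoid.powers_le.mpr hr)).domain_nontrivial
  haveI : Module.Finite (Localization (.powers r)) (LocalizedModule.Away r P) :=
    Module.Finite.of_isLocalizedModule (.powers r)
      (LocalizedModule.mkLinearMap (.powers r) P)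
  exact ⟨r, hr, ⟨(Module.finBasisOfFinrankEq (Localization.Away r) (LocalizedModule.Away r P)
    (hrank.trans hn)).equivFun⟩⟩

end Algebra

variable {X : Scheme.{u}} (F : X.Modules) [F.IsQuasicoherent] {U : X.Opens} (hU : IsAffineOpen U)

set_option backward.isDefEq.respectTransparency false in
include hU in
/-- If `Γ(F, U)` is finitely presented and the stalk `F_x` is free of rank `n`, then `F` is free of
rank `n` on a basic open neighbourhood of `x`. -/
theorem exists_basicOpen_restrict_iso_freeMod_of_free_stalk_rank
    [Module.FinitePresentation Γ(X, U) Γ(F, U)] (x : X) (hx : x ∈ U)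
    [Module.Free (X.presheaf.stalk x) (F.presheaf.stalk x)] (n : ℕ)
    (hn : Module.finrank (X.presheaf.stalk x) (F.presheaf.stalk x) = n) :
    ∃ f : Γ(X, U), x ∈ X.basicOpen f ∧
      Nonempty (F.restrict (X.basicOpen f).ι ≅ FlatMod.freeMod (X.basicOpen f) n) := by
  obtain ⟨r, hr, ⟨e⟩⟩ : ∃ r ∈ (hU.primeIdealOf ⟨x, hx⟩).asIdeal.primeCompl,
      Nonempty (LocalizedModule.Away r Γ(F, U) ≃ₗ[Localization.Away r]
        (Fin n → Localization.Away r)) := by
    letI := X.presheaf.algebra_section_stalk ⟨x, hx⟩
    haveI := hU.isLocalization_stalk ⟨x, hx⟩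
    letI := moduleSectionStalk F x hx
    haveI := isScalarTower_sectionStalk F x hx
    haveI := isLocalizedModule_germₗ F hU x hx
    exact exists_free_away_of_free_rank Γ(F, U) (hU.primeIdealOf ⟨x, hx⟩).asIdeal.primeCompl
      (X.presheaf.stalk x) (germₗ F x hx) n hn
  refine ⟨r, (mem_basicOpen_iff_notMem_primeIdealOf hU x hx r).mpr hr, ?_⟩
  letI := moduleSectionBasicOpen F r
  haveI : IsScalarTower Γ(X, U) Γ(X, X.basicOpen r) Γ(F, X.basicOpen r) :=
    IsScalarTower.of_algebraMap_smul fun _ _ => rfl
  haveI := isLocalizedModule_resBasicOpenₗ hU F r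
  haveI : IsLocalization (Submonoid.powers r) Γ(X, X.basicOpen r) := hU.isLocalization_basicOpen r
  exact nonempty_restrict_iso_freeMod (hU.basicOpen r) F n
    (linearEquivOfIsLocalizedModule (Submonoid.powers r)
      (LocalizedModule.mkLinearMap (Submonoid.powers r) Γ(F, U)) (resBasicOpenₗ F r) e)

/-- A quasi-coherent module, finitely presented on affine opens, all of whose stalks are free of
rank `n`, is locally free of rank `n`. -/
theorem isFinLocFreeOfRank_of_free_stalk (n : ℕ)
    (hfp : ∀ U : X.Opens, IsAffineOpen U → Module.FinitePresentation Γ(X, U) Γ(F, U))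
    (hfree : ∀ x : X, Nonempty (F.presheaf.stalk x ≃ₗ[X.presheaf.stalk x]
      (Fin n → X.presheaf.stalk x))) :
    FlatMod.IsFinLocFreeOfRank n F := by
  intro x
  obtain ⟨_, ⟨U, hU, rfl⟩, hxU, -⟩ :=
    X.isBasis_affineOpens.exists_subset_of_mem_open (Set.mem_univ x) isOpen_univ
  replace hU : IsAffineOpen U := hU
  haveI := hfp U hU
  obtain ⟨e⟩ := hfree x
  haveI : Module.Free (X.presheaf.stalk x) (F.presheaf.stalk x) := Module.Free.of_equiv e.symm
  have hn : Module.finrank (X.presheaf.stalk x) (F.presheaf.stalk x) = n := by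
    rw [LinearEquiv.finrank_eq e, Module.finrank_pi, Fintype.card_fin]
  obtain ⟨f, hxf, hiso⟩ :=
    exists_basicOpen_restrict_iso_freeMod_of_free_stalk_rank F hU x hxU n hn
  exact ⟨X.basicOpen f, hxf, hiso⟩

end Groth.Agent.H17.LocFreeRank
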