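import Mathlib
import Groth.Prelude.Def_RefHull
import Groth.Agent.H8.FreeMod
import Groth.Agent.H8.UnitIso
import Groth.Agent.H8.QCohStalk
import Groth.Agent.H17.HomSh
import Groth.Agent.H8.SuppClosed

/-!
# Modules which are generically invertible on an integral scheme have rank one stalks
-/

set_option autoImplicit false
set_option linter.style.haveILetI false
universe u
open CategoryTheory CategoryTheory.Limits AlgebraicGeometry TopologicalSpace Opposite

namespace Groth.Agent.H17.RankOneSheaf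

open Groth.Agent.H8

section Algebra

theorem rank_one_of_equiv {B N : Type*} [CommRing B] [AddCommGroup N] [Module B N]
    (ε : N ≃ₗ[B] (Fin 1 → B)) (n n' : N) :
    ∃ b b' : B, (n ≠ 0 ∨ n' ≠ 0 → b ≠ 0 ∨ b' ≠ 0) ∧ b' • n = b • n' := by
  refine ⟨ε n 0, ε n' 0, ?_, ?_⟩
  · intro h
    by_contra hcon
    push Not at hcon
    have h0 : ∀ k : N, ε k 0 = 0 → k = 0 := by
      intro k hk
      apply ε.injective
      rw [map_zero]
      funext i
      rw [Subsingleton.elim i 0]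
      exact hk
    rcases h with h | h
    · exact h (h0 n hcon.1)
    · exact h (h0 n' hcon.2)
  · apply ε.injective
    rw [map_smul, map_smul]
    funext i
    rw [Subsingleton.elim i 0]
    simp [mul_comm]

end Algebra

variable {X : Scheme.{u}} (F : X.Modules)

/-- sectionwise rank one property over the opens contained in `U₂`. -/
def SecRankOne (U₂ : X.Opens) : Prop :=
  ∀ V : X.Opens, V ≤ U₂ → (Nontrivial Γ(X, V) → Nontrivial Γ(F, V)) ∧
    ∀ n n' : Γ(F, V), ∃ b b' : Γ(X, V),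
      (n ≠ 0 ∨ n' ≠ 0 → b ≠ 0 ∨ b' ≠ 0) ∧ b' • n = b • n'

theorem exists_secRankOne [IsIntegral X] (h : RefHull.GenInvertible F) :
    ∃ U₂ : X.Opens, genericPoint X ∈ U₂ ∧ SecRankOne F U₂ := by
  obtain ⟨U₀, hdense, hinv⟩ := h
  have hη₀ : genericPoint X ∈ U₀ := by
    obtain ⟨z, hz⟩ := hdense.nonempty
    exact ((genericPoint_spec X).mem_open_set_iff U₀.2).mpr ⟨z, Set.mem_univ _, hz⟩
  obtain ⟨U₁, hyU₁, ⟨e⟩⟩ := hinv ⟨genericPoint X, hη₀⟩
  let e' : (F.restrict U₀.ι).restrict U₁.ι ≅ FlatMod.freeMod (↑U₁) 1 :=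
    e ≪≫ structureModuleIsoFreeModOne _
  refine ⟨U₀.ι ''ᵁ U₁, ⟨⟨genericPoint X, hη₀⟩, hyU₁, rfl⟩, ?_⟩
  intro V hV
  have hVU₀ : V ≤ U₀ := by
    intro z hz
    obtain ⟨w, -, rfl⟩ := hV hz
    exact w.2
  have e1 : U₀.ι ''ᵁ (U₀.ι ⁻¹ᵁ V) = V := by
    rw [Scheme.Hom.image_preimage_eq_opensRange_inf, Scheme.Opens.opensRange_ι]
    exact inf_eq_right.mpr hVU₀
  have hV' : U₀.ι ⁻¹ᵁ V ≤ U₁ := by
    intro z hz
    obtain ⟨w, hw, hwz⟩ := hV hz
    have : w = z := U₀.ι.isOpenEmbedding.injective hwz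
    rw [← this]
    exact hw
  obtain ⟨ε⟩ := nonempty_sections_equiv_of_le (F.restrict U₀.ι) e' hV'
  have key : ∀ (V₂ : X.Opens) (_ : U₀.ι ''ᵁ (U₀.ι ⁻¹ᵁ V) = V₂),
      (Nontrivial Γ(X, V₂) → Nontrivial Γ(F, V₂)) ∧ ∀ (n n' : Γ(F, V₂)),
      ∃ b b' : Γ(X, V₂), (n ≠ 0 ∨ n' ≠ 0 → b ≠ 0 ∨ b' ≠ 0) ∧ b' • n = b • n' := by
    rintro _ rfl
    refine ⟨fun hnt => ?_, ?_⟩
    · haveI : Nontrivial Γ(↑U₀, U₀.ι ⁻¹ᵁ V) := hnt
      have : Nontrivial Γ(F.restrict U₀.ι, U₀.ι ⁻¹ᵁ V) := ε.toEquiv.nontrivial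
      exact this
    intro n n'
    obtain ⟨b, b', h1, h2⟩ := rank_one_of_equiv ε
      (show Γ(F.restrict U₀.ι, U₀.ι ⁻¹ᵁ V) from n) (show Γ(F.restrict U₀.ι, U₀.ι ⁻¹ᵁ V) from n')
    refine ⟨b, b', h1, ?_⟩
    rw [← smul_restrict_ι F (U₀.ι ⁻¹ᵁ V) b' n, ← smul_restrict_ι F (U₀.ι ⁻¹ᵁ V) b n']
    exact h2
  exact key V e1


section Stalk

variable [IsIntegral X] [F.IsQuasicoherent]

set_option backward.isDefEq.respectTransparency false in
/-- sections over a nonempty affine open of a generically rank one module are pairwise linearly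
dependent. -/
theorem sections_rank_one {U₂ : X.Opens} (hη : genericPoint X ∈ U₂) (h : SecRankOne F U₂)
    {W : X.Opens} (hW : IsAffineOpen W) (hWne : (W : Set X).Nonempty) (n n' : Γ(F, W)) :
    ∃ c c' : Γ(X, W), (c ≠ 0 ∨ c' ≠ 0) ∧ c' • n = c • n' := by
  have hηW : genericPoint X ∈ W := by
    obtain ⟨z, hz⟩ := hWne
    exact ((genericPoint_spec X).mem_open_set_iff W.2).mpr ⟨z, Set.mem_univ _, hz⟩
  obtain ⟨a₀, ha₀le, hηa₀⟩ := hW.exists_basicOpen_le ⟨genericPoint X, hη⟩ hηW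
  have ha₀ne : a₀ ≠ 0 := by
    rintro rfl
    rw [Scheme.basicOpen_zero] at hηa₀
    exact hηa₀
  haveI : Nonempty W := ⟨⟨genericPoint X, hηW⟩⟩
  haveI : IsDomain Γ(X, W) := inferInstance
  have hVW : X.basicOpen a₀ ≤ W := X.basicOpen_le a₀
  obtain ⟨b, b', hbb, hrel⟩ := (h (X.basicOpen a₀) ha₀le).2
    (F.presheaf.map (homOfLE hVW).op n) (F.presheaf.map (homOfLE hVW).op n')
  by_cases hzero : F.presheaf.map (homOfLE hVW).op n = 0 ∧ F.presheaf.map (homOfLE hVW).op n' = 0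
  · obtain ⟨l, hl⟩ := exists_smul_eq_zero hW F a₀ n hzero.1
    exact ⟨0, a₀ ^ l, Or.inr (pow_ne_zero l ha₀ne), by rw [hl, zero_smul]⟩
  · have hbb' : b ≠ 0 ∨ b' ≠ 0 := hbb (by tauto)
    haveI := hW.isLocalization_basicOpen a₀
    have halg : ∀ r : Γ(X, W), algebraMap Γ(X, W) Γ(X, X.basicOpen a₀) r =
        X.presheaf.map (homOfLE hVW).op r := fun r => rfl
    obtain ⟨⟨β, s⟩, hβ⟩ := IsLocalization.surj (Submonoid.powers a₀) b
    obtain ⟨⟨β', s'⟩, hβ'⟩ := IsLocalization.surj (Submonoid.powers a₀) b'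
    dsimp only at hβ hβ'
    rw [halg, halg] at hβ hβ'
    have hres : F.presheaf.map (homOfLE hVW).op
        (((s : Γ(X, W)) * β') • n - ((s' : Γ(X, W)) * β) • n') = 0 := by
      rw [map_sub, F.map_smul, F.map_smul, sub_eq_zero, map_mul, map_mul, ← hβ, ← hβ']
      calc (X.presheaf.map (homOfLE hVW).op (s : Γ(X, W)) *
            (b' * X.presheaf.map (homOfLE hVW).op (s' : Γ(X, W)))) •
            F.presheaf.map (homOfLE hVW).op n
          = (X.presheaf.map (homOfLE hVW).op (s : Γ(X, W)) *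
              X.presheaf.map (homOfLE hVW).op (s' : Γ(X, W))) •
              (b' • F.presheaf.map (homOfLE hVW).op n) := by
            rw [smul_smul]; congr 1; ring
        _ = (X.presheaf.map (homOfLE hVW).op (s : Γ(X, W)) *
              X.presheaf.map (homOfLE hVW).op (s' : Γ(X, W))) •
              (b • F.presheaf.map (homOfLE hVW).op n') := by rw [hrel]
        _ = (X.presheaf.map (homOfLE hVW).op (s' : Γ(X, W)) *
            (b * X.presheaf.map (homOfLE hVW).op (s : Γ(X, W)))) •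
            F.presheaf.map (homOfLE hVW).op n' := by
            rw [smul_smul]; congr 1; ring
    obtain ⟨l, hl⟩ := exists_smul_eq_zero hW F a₀ _ hres
    have hsne : ∀ t : Submonoid.powers a₀, (t : Γ(X, W)) ≠ 0 := by
      rintro ⟨_, k, rfl⟩
      exact pow_ne_zero k ha₀ne
    have hβne : b ≠ 0 → β ≠ 0 := by
      rintro hb rfl
      rw [map_zero] at hβ
      have hu : IsUnit (X.presheaf.map (homOfLE hVW).op (s : Γ(X, W))) :=
        IsLocalization.map_units Γ(X, X.basicOpen a₀) s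
      exact hb (hu.mul_left_eq_zero.mp hβ)
    have hβ'ne : b' ≠ 0 → β' ≠ 0 := by
      rintro hb rfl
      rw [map_zero] at hβ'
      have hu : IsUnit (X.presheaf.map (homOfLE hVW).op (s' : Γ(X, W))) :=
        IsLocalization.map_units Γ(X, X.basicOpen a₀) s'
      exact hb (hu.mul_left_eq_zero.mp hβ')
    refine ⟨a₀ ^ l * ((s' : Γ(X, W)) * β), a₀ ^ l * ((s : Γ(X, W)) * β'), ?_, ?_⟩
    · rcases hbb' with hb | hb
      · exact Or.inl (mul_ne_zero (pow_ne_zero l ha₀ne) (mul_ne_zero (hsne s') (hβne hb)))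
      · exact Or.inr (mul_ne_zero (pow_ne_zero l ha₀ne) (mul_ne_zero (hsne s) (hβ'ne hb)))
    · rw [smul_sub, sub_eq_zero, smul_smul, smul_smul] at hl
      exact hl


/-- the stalks of a generically rank one quasi-coherent module on an integral scheme have rank at
most one. -/
theorem stalk_rank_one {U₂ : X.Opens} (hη : genericPoint X ∈ U₂) (h : SecRankOne F U₂) (x : X)
    (m m' : F.presheaf.stalk x) :
    ∃ α β : X.presheaf.stalk x, (α ≠ 0 ∨ β ≠ 0) ∧ α • m = β • m' := by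
  obtain ⟨_, ⟨W, hW, rfl⟩, hxW, -⟩ :=
    X.isBasis_affineOpens.exists_subset_of_mem_open (Set.mem_univ x) isOpen_univ
  replace hW : IsAffineOpen W := hW
  obtain ⟨a, hxa, n, hn⟩ := exists_germ_smul_eq_germ F hW x hxW m
  obtain ⟨a', hxa', n', hn'⟩ := exists_germ_smul_eq_germ F hW x hxW m'
  obtain ⟨c, c', hcc, hrel⟩ := sections_rank_one F hη h hW ⟨x, hxW⟩ n n'
  have hua : IsUnit (X.presheaf.germ W x hxW a) := (Scheme.mem_basicOpen _ _ _ hxW).mp hxa
  have hua' : IsUnit (X.presheaf.germ W x hxW a') := (Scheme.mem_basicOpen _ _ _ hxW).mp hxa'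
  haveI : IsDomain (X.presheaf.stalk x) := inferInstance
  have hinj := germ_injective_of_isIntegral X x hxW
  have hne : ∀ r : Γ(X, W), r ≠ 0 → X.presheaf.germ W x hxW r ≠ 0 := by
    intro r hr h0
    exact hr (hinj (by rw [h0, map_zero]))
  refine ⟨X.presheaf.germ W x hxW c' * X.presheaf.germ W x hxW a,
    X.presheaf.germ W x hxW c * X.presheaf.germ W x hxW a', ?_, ?_⟩
  · rcases hcc with hc | hc
    · exact Or.inr (mul_ne_zero (hne c hc) hua'.ne_zero)
    · exact Or.inl (mul_ne_zero (hne c' hc) hua.ne_zero)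
  · rw [mul_smul, mul_smul, hn, hn', ← Groth.Agent.H8.germ_smul, ← Groth.Agent.H8.germ_smul, hrel]

/-- the stalks of a generically rank one module of finite type on an integral scheme are
nonzero. -/
theorem nontrivial_stalk [SheafOfModules.IsFiniteType (R := X.ringCatSheaf) F] {U₂ : X.Opens}
    (hη : genericPoint X ∈ U₂) (h : SecRankOne F U₂) (x : X) :
    Nontrivial (F.presheaf.stalk x) := by
  by_contra hcon
  rw [not_nontrivial_iff_subsingleton] at hcon
  obtain ⟨W', hxW', hW'⟩ := exists_open_subsingleton_stalk F x hcon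
  have hηW' : genericPoint X ∈ W' :=
    ((genericPoint_spec X).mem_open_set_iff W'.2).mpr ⟨x, Set.mem_univ _, hxW'⟩
  have hV : W' ⊓ U₂ ≤ U₂ := inf_le_right
  haveI : Nonempty (W' ⊓ U₂ : X.Opens) := ⟨⟨genericPoint X, hηW', hη⟩⟩
  haveI : IsDomain Γ(X, W' ⊓ U₂) := inferInstance
  haveI : Nontrivial Γ(F, W' ⊓ U₂) := (h _ hV).1 inferInstance
  obtain ⟨s, hs⟩ := exists_ne (0 : Γ(F, W' ⊓ U₂))
  apply hs
  refine Groth.Agent.H17.HomSh.section_ext_germ F s 0 (fun y => ?_)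
  haveI := hW' y.1 y.2.1
  exact Subsingleton.elim _ _

end Stalk

end Groth.Agent.H17.RankOneSheaf
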