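import Groth.Agent.H17.Hartogs
import Groth.Agent.H17.ReflDepth
import Groth.Agent.H17.ReflSheaf
import Groth.Agent.H17.ReflNormal
import Groth.Agent.H15.SerreNormal
import Groth.Agent.S7862

/-!
# Reflexive coherent modules on normal schemes: Hartogs extension
-/

set_option autoImplicit false
set_option linter.style.haveILetI false
universe u
open CategoryTheory CategoryTheory.Limits AlgebraicGeometry TopologicalSpace Opposite

namespace Groth.Agent.H17.NormalRefl

section Algebra

/-- a Noetherian normal local domain of dimension at least two has depth at least two. -/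
theorem two_le_depth_self_of_normal (R : Type u) [CommRing R] [IsLocalRing R] [IsNoetherianRing R]
    [IsDomain R] [IsIntegrallyClosed R] (h : (2 : WithBot ℕ∞) ≤ ringKrullDim R) :
    (2 : ℕ∞) ≤ LocCoh.depth R R := by
  rcases Groth.Agent.H15.SerreNormal.hasSeq_of_normal R with hbot | ⟨-, h2 | hht⟩
  · exfalso
    have hfield : IsField R := (IsLocalRing.isField_iff_maximalIdeal_eq).mpr hbot
    rw [ringKrullDim_eq_zero_of_isField hfield] at h
    exact absurd h (by decide)
  · exact Groth.Agent.H15.Depth.le_idealDepth_of_hasSeq h2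
  · exfalso
    rw [← IsLocalRing.maximalIdeal_height_eq_ringKrullDim] at h
    have h' : (2 : ℕ∞) ≤ (IsLocalRing.maximalIdeal R).height :=
      WithBot.coe_le_coe.mp (show ((2 : ℕ∞) : WithBot ℕ∞) ≤ _ from h)
    exact absurd (h'.trans hht) (by decide)

/-- reflexive modules over a domain are torsion free. -/
theorem smul_eq_zero_of_isReflexive {R M : Type*} [CommRing R] [IsDomain R] [AddCommGroup M]
    [Module R M] [Module.IsReflexive R M] (r : R) (μ : M) (hr : r ≠ 0) (h : r • μ = 0) : μ = 0 := by
  apply (Module.bijective_dual_eval R M).1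
  rw [map_zero]
  refine LinearMap.ext fun f => ?_
  have h1 : r * f μ = 0 := by
    rw [← smul_eq_mul, ← map_smul, h, map_zero]
  exact (mul_eq_zero.mp h1).resolve_left hr

theorem isTorsionFree_of_isReflexive {R M : Type*} [CommRing R] [IsDomain R] [AddCommGroup M]
    [Module R M] [Module.IsReflexive R M] : Module.IsTorsionFree R M := by
  refine ⟨fun r hr a b hab => ?_⟩
  have h1 : r • (a - b) = 0 := by
    rw [smul_sub]
    exact sub_eq_zero.mpr hab
  exact sub_eq_zero.mp (smul_eq_zero_of_isReflexive r _ hr.ne_zero h1)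

end Algebra

variable {X : Scheme.{u}} [IsLocallyNoetherian X]

/-- the unit `E ⟶ j_* j^* E` is an isomorphism when `E` has depth at least two off `U`. -/
theorem isIso_unit_of_depth (E : X.Modules) (hE : Coh.IsCoh E) (U : X.Opens)
    (hdepth : ∀ y : X, y ∉ U →
      (2 : ℕ∞) ≤ LocCoh.depth (X.presheaf.stalk y) (E.presheaf.stalk y)) :
    IsIso ((Scheme.Modules.restrictAdjunction U.ι).unit.app E) := by
  rw [Scheme.Modules.Hom.isIso_iff_isIso_app]
  intro W
  have hb : Function.Bijective (E.presheaf.map (homOfLE (U.ι.image_preimage_le W)).op) := by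
    apply Groth.Agent.H17.Hartogs.map_bijective_of_depth E hE
    intro x hxW hxV
    apply hdepth x
    intro hxU
    exact hxV ⟨⟨x, hxU⟩, hxW, rfl⟩
  have hi : IsIso (E.presheaf.map (homOfLE (U.ι.image_preimage_le W)).op) :=
    (ConcreteCategory.isIso_iff_bijective _).mpr hb
  exact hi

/-- stalks of a stalkwise reflexive coherent module on a normal scheme have depth at least two at
the points of codimension at least two. -/
theorem two_le_depth_stalk_of_normal (hX : Pi1.IsNormalScheme X) (F : X.Modules)
    (hF : Coh.IsCoh F) (x : X)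
    (hrefl : Module.IsReflexive (X.presheaf.stalk x) (F.presheaf.stalk x))
    (hx : (2 : WithBot ℕ∞) ≤ ringKrullDim (X.presheaf.stalk x)) :
    (2 : ℕ∞) ≤ LocCoh.depth (X.presheaf.stalk x) (F.presheaf.stalk x) := by
  haveI := (hX x).1
  haveI := (hX x).2
  haveI : IsNoetherianRing (X.presheaf.stalk x) := inferInstance
  haveI : Module.Finite (X.presheaf.stalk x) (F.presheaf.stalk x) :=
    Groth.Agent.H8.finite_stalk_of_isCoh F hF x
  exact Groth.Agent.H17.ReflDepth.two_le_depth_of_isReflexive _
    (two_le_depth_self_of_normal _ hx) _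

/-- Hartogs: on a normal locally Noetherian scheme, a stalkwise reflexive coherent module is the
direct image of its restriction to any open whose complement has codimension at least two. -/
theorem isIso_unit_of_isReflexive_of_normal (hX : Pi1.IsNormalScheme X) (F : X.Modules)
    (hF : Coh.IsCoh F)
    (hrefl : ∀ x : X, Module.IsReflexive (X.presheaf.stalk x) (F.presheaf.stalk x))
    (U : X.Opens) (hU : ∀ x : X, x ∉ U → (2 : WithBot ℕ∞) ≤ ringKrullDim (X.presheaf.stalk x)) :
    IsIso ((Scheme.Modules.restrictAdjunction U.ι).unit.app F) :=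
  isIso_unit_of_depth F hF U (fun y hy =>
    two_le_depth_stalk_of_normal hX F hF y (hrefl y) (hU y hy))

/-- on a normal locally Noetherian scheme, a coherent module with torsion-free stalks is locally
free on an open containing all points of codimension at most one. -/
theorem exists_bigOpen_isFinLocFree (hX : Pi1.IsNormalScheme X) (M : X.Modules)
    (hM : Coh.IsCoh M)
    (htf : ∀ x : X, Module.IsTorsionFree (X.presheaf.stalk x) (M.presheaf.stalk x)) :
    ∃ U : X.Opens, (∀ x : X, x ∉ U → (2 : WithBot ℕ∞) ≤ ringKrullDim (X.presheaf.stalk x)) ∧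
      FlatMod.IsFinLocFree (M.restrict U.ι) := by
  classical
  haveI : M.IsQuasicoherent := hM.1
  refine ⟨sSup {V : X.Opens | ∃ n : ℕ, Nonempty (M.restrict V.ι ≅ FlatMod.freeMod (↑V) n)},
    ?_, ?_⟩
  · intro x hx
    by_contra hdim
    rw [not_le] at hdim
    apply hx
    obtain ⟨_, ⟨U, hU, rfl⟩, hxU, -⟩ := X.isBasis_affineOpens.exists_subset_of_mem_open
      (Set.mem_univ x) isOpen_univ
    replace hU : IsAffineOpen U := hU
    haveI : IsNoetherianRing Γ(X, U) := IsLocallyNoetherian.component_noetherian ⟨U, hU⟩
    haveI : Module.Finite Γ(X, U) Γ(M, U) := Groth.Agent.H8.finite_sections_of_isCoh M hM hU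
    haveI : Module.FinitePresentation Γ(X, U) Γ(M, U) :=
      Module.finitePresentation_of_finite Γ(X, U) Γ(M, U)
    haveI : IsDomain (X.presheaf.stalk x) := (hX x).1
    haveI : IsIntegrallyClosed (X.presheaf.stalk x) := (hX x).2
    haveI : IsNoetherianRing (X.presheaf.stalk x) := inferInstance
    haveI := Groth.Agent.S7862.isPrincipalIdealRing_of_dim_lt_two (X.presheaf.stalk x) hdim
    haveI := htf x
    haveI : Module.Finite (X.presheaf.stalk x) (M.presheaf.stalk x) :=
      Groth.Agent.H8.finite_stalk_of_isCoh M hM x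
    haveI : Module.Free (X.presheaf.stalk x) (M.presheaf.stalk x) :=
      Module.free_of_finite_type_torsion_free'
    obtain ⟨f, hxf, n, hn⟩ :=
      Groth.Agent.H8.exists_basicOpen_restrict_iso_freeMod_of_free_stalk M hU x hxU
    exact TopologicalSpace.Opens.mem_sSup.mpr ⟨X.basicOpen f, ⟨n, hn⟩, hxf⟩
  · apply Groth.Agent.S7862.isFinLocFree_restrict_of_local
    intro x hx
    obtain ⟨V, ⟨n, hn⟩, hxV⟩ := TopologicalSpace.Opens.mem_sSup.mp hx
    exact ⟨V, n, hxV, hn⟩

end Groth.Agent.H17.NormalRefl
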