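import Mathlib

/-!
# Ishikawa: over a Noetherian ring, `Hom(E, E')` is flat for injective modules `E`, `E'`

Proof by the equational criterion of flatness.
-/

set_option autoImplicit false
universe u
open CategoryTheory

namespace Groth.Agent.H17.FI_ISH

variable {A : Type u} [CommRing A]

/-- factor-and-extend: if `ker p ≤ ker q` and `Q` is injective then `q = ψ ∘ p` for some `ψ`. -/
theorem exists_factor {M N Q : Type u} [AddCommGroup M] [Module A M] [AddCommGroup N] [Module A N]
    [AddCommGroup Q] [Module A Q] [hQ : Module.Injective A Q]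
    (p : M →ₗ[A] N) (q : M →ₗ[A] Q) (h : LinearMap.ker p ≤ LinearMap.ker q) :
    ∃ ψ : N →ₗ[A] Q, ∀ m, ψ (p m) = q m := by
  let ψ0 : LinearMap.range p →ₗ[A] Q :=
    ((LinearMap.ker p).liftQ q h).comp p.quotKerEquivRange.symm.toLinearMap
  obtain ⟨ψ, hψ⟩ := hQ.out (LinearMap.range p).subtype (Submodule.injective_subtype _) ψ0
  refine ⟨ψ, fun m => ?_⟩
  have h1 := hψ ⟨p m, LinearMap.mem_range_self p m⟩
  rw [Submodule.subtype_apply] at h1
  rw [h1]
  have h2 : p.quotKerEquivRange.symm ⟨p m, LinearMap.mem_range_self p m⟩ =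
      Submodule.Quotient.mk m := by
    rw [LinearEquiv.symm_apply_eq]
    ext
    simp
  show ((LinearMap.ker p).liftQ q h) (p.quotKerEquivRange.symm ⟨p m, _⟩) = q m
  rw [h2, Submodule.liftQ_apply]

theorem flat_linearMap_of_injective [IsNoetherianRing A] (E E' : Type u) [AddCommGroup E]
    [Module A E] [AddCommGroup E'] [Module A E'] [Module.Injective A E] [Module.Injective A E'] :
    Module.Flat A (E →ₗ[A] E') := by
  classical
  apply Module.Flat.of_forall_isTrivialRelation
  intro l f x hfx
  let a : (Fin l → A) →ₗ[A] A := ∑ i, f i • (LinearMap.proj i : (Fin l → A) →ₗ[A] A)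
  have ha : ∀ c, a c = ∑ i, f i * c i := by
    intro c
    simp [a, LinearMap.sum_apply]
  have hK : (LinearMap.ker a).FG := IsNoetherian.noetherian _
  obtain ⟨k, b, hb⟩ := Submodule.fg_iff_exists_fin_generating_family.mp hK
  have hbK : ∀ j, a (b j) = 0 := fun j => by
    have h1 : b j ∈ Submodule.span A (Set.range b) := Submodule.subset_span ⟨j, rfl⟩
    rw [hb] at h1
    exact h1
  have step3 : ∀ e : Fin l → E, (∀ j, ∑ i, b j i • e i = 0) → ∃ e0 : E, ∀ i, e i = f i • e0 := by
    intro e he
    let ê : (Fin l → A) →ₗ[A] E :=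
      ∑ i, (LinearMap.proj i : (Fin l → A) →ₗ[A] A).smulRight (e i)
    have hê : ∀ c, ê c = ∑ i, c i • e i := by
      intro c
      simp [ê, LinearMap.sum_apply]
    have hle : LinearMap.ker a ≤ LinearMap.ker ê := by
      rw [← hb, Submodule.span_le]
      rintro _ ⟨j, rfl⟩
      show ê (b j) = 0
      rw [hê]
      exact he j
    obtain ⟨g', hg'⟩ := exists_factor a ê hle
    refine ⟨g' 1, fun i => ?_⟩
    have h1 : ê (Pi.single i 1) = e i := by
      rw [hê, Finset.sum_eq_single i]
      · rw [Pi.single_eq_same, one_smul]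
      · intro j _ hj
        rw [Pi.single_eq_of_ne hj, zero_smul]
      · intro hi
        exact absurd (Finset.mem_univ i) hi
    have h2 : a (Pi.single i 1) = f i := by
      rw [ha, Finset.sum_eq_single i]
      · rw [Pi.single_eq_same, mul_one]
      · intro j _ hj
        rw [Pi.single_eq_of_ne hj, mul_zero]
      · intro hi
        exact absurd (Finset.mem_univ i) hi
    rw [← h1, ← hg', h2]
    conv_lhs => rw [← mul_one (f i), ← smul_eq_mul, map_smul]
  let φ : (Fin l → E) →ₗ[A] E' := ∑ i, (x i).comp (LinearMap.proj i)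
  have hφ : ∀ e, φ e = ∑ i, x i (e i) := by
    intro e
    simp [φ, LinearMap.sum_apply]
  let bT : (Fin l → E) →ₗ[A] (Fin k → E) :=
    LinearMap.pi (fun j => ∑ i, b j i • (LinearMap.proj i : (Fin l → E) →ₗ[A] E))
  have hbT : ∀ e j, bT e j = ∑ i, b j i • e i := by
    intro e j
    simp [bT, LinearMap.sum_apply]
  have hle : LinearMap.ker bT ≤ LinearMap.ker φ := by
    intro e he
    rw [LinearMap.mem_ker] at he ⊢
    obtain ⟨e0, he0⟩ := step3 e (fun j => by rw [← hbT, he]; rfl)
    rw [hφ]
    have h3 : ∑ i, x i (e i) = (∑ i, f i • x i) e0 := by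
      rw [LinearMap.sum_apply]
      refine Finset.sum_congr rfl fun i _ => ?_
      rw [he0 i, map_smul, LinearMap.smul_apply]
    rw [h3, hfx, LinearMap.zero_apply]
  obtain ⟨ψ, hψ⟩ := exists_factor bT φ hle
  refine ⟨k, fun i j => b j i, fun j => ψ.comp (LinearMap.single A (fun _ => E) j), ?_, ?_⟩
  · intro i
    ext e
    have h1 : φ (Pi.single i e) = x i e := by
      rw [hφ, Finset.sum_eq_single i]
      · rw [Pi.single_eq_same]
      · intro j _ hj
        rw [Pi.single_eq_of_ne hj, map_zero]
      · intro hi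
        exact absurd (Finset.mem_univ i) hi
    have h2 : bT (Pi.single i e) = ∑ j, Pi.single j (b j i • e) := by
      funext j
      rw [hbT, Finset.sum_apply, Finset.sum_eq_single i, Finset.sum_eq_single j]
      · rw [Pi.single_eq_same, Pi.single_eq_same]
      · intro j' _ hj'
        rw [Pi.single_eq_of_ne (Ne.symm hj')]
      · intro hj
        exact absurd (Finset.mem_univ j) hj
      · intro i' _ hi'
        rw [Pi.single_eq_of_ne hi', smul_zero]
      · intro hi
        exact absurd (Finset.mem_univ i) hi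
    rw [← h1, ← hψ, h2, map_sum, LinearMap.sum_apply]
    refine Finset.sum_congr rfl fun j _ => ?_
    rw [LinearMap.smul_apply, LinearMap.comp_apply, LinearMap.single_apply, ← map_smul,
      ← Pi.single_smul]
  · intro j
    have h1 := hbK j
    rw [ha] at h1
    exact h1

end Groth.Agent.H17.FI_ISH
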