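import Mathlib

/-!
# An exact functor inverting `K' ⟶ ker φ₀` inverts `coker (K' ⟶ G₀) ⟶ F`
-/

set_option autoImplicit false
universe u v w v' w'
open CategoryTheory CategoryTheory.Limits

namespace Groth.Agent.H17.FPExt_R2

theorem isIso_map_cokernel_desc {C : Type v} [Category.{w} C] [Abelian C] {D : Type v'}
    [Category.{w'} D] [Abelian D] (R : C ⥤ D) [R.Additive] [PreservesFiniteLimits R]
    [PreservesFiniteColimits R] {G₀ F K' : C} (φ₀ : G₀ ⟶ F) [Epi φ₀] (i : K' ⟶ kernel φ₀)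
    (hi : IsIso (R.map i)) :
    IsIso (R.map (cokernel.desc (i ≫ kernel.ι φ₀) φ₀ (by simp))) := by
  have hw : (i ≫ kernel.ι φ₀) ≫ φ₀ = 0 := by simp
  -- `R π` is a cokernel of `R u`
  have h1 := isColimitOfHasCokernelOfPreservesColimit R (i ≫ kernel.ι φ₀)
  -- `φ₀` is a cokernel of its kernel, hence `R φ₀` is a cokernel of `R (kernel.ι φ₀)`
  have h0 := Abelian.epiIsCokernelOfKernel _ (kernelIsKernel φ₀)
  have h2a := isColimitCoforkMapOfIsColimit' R _ h0
  -- hence also a cokernel of `R u = R i ≫ R (kernel.ι φ₀)`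
  have hh : R.map (i ≫ kernel.ι φ₀) = R.map i ≫ R.map (kernel.ι φ₀) := R.map_comp _ _
  have h2 := isCokernelEpiComp h2a (R.map i) hh
  have key : R.map (cokernel.desc (i ≫ kernel.ι φ₀) φ₀ hw) =
      (IsColimit.coconePointUniqueUpToIso h1 h2).hom := by
    apply Cofork.IsColimit.hom_ext h1
    have e1 := IsColimit.comp_coconePointUniqueUpToIso_hom h1 h2 WalkingParallelPair.one
    refine Eq.trans ?_ e1.symm
    show R.map (cokernel.π (i ≫ kernel.ι φ₀)) ≫ R.map (cokernel.desc (i ≫ kernel.ι φ₀) φ₀ hw) =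
      R.map φ₀
    rw [← R.map_comp, cokernel.π_desc]
  rw [key]
  infer_instance

end Groth.Agent.H17.FPExt_R2
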