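import Groth.Prelude.Def_FSRel
import Mathlib.RingTheory.Kaehler.Basic
import Mathlib.Algebra.TrivSqZeroExt.Ideal

/-!
# Relative formal smoothness: extension of derivations

`IsFormallySmoothRel Λ A B` implies that every `Λ`-derivation `A → N` into a `B`-module extends to a
`Λ`-derivation `B → N`; consequently `B ⊗[A] Ω[A⁄Λ] → Ω[B⁄Λ]` has a `B`-linear left inverse.
-/

set_option autoImplicit false
universe u

namespace Groth.Agent.H17.FSRel

open TrivSqZeroExt TensorProduct

/-- transport of the lifting property along `C ⧸ ker π ≃ B'`. -/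
theorem lift_of_surjective {Λ A B : Type u} [CommRing Λ] [CommRing A] [CommRing B] [Algebra Λ A]
    [Algebra Λ B] [Algebra A B] [IsScalarTower Λ A B] (h : EGA41.IsFormallySmoothRel Λ A B)
    (C : Type u) [CommRing C] [Algebra A C] [Algebra Λ C] [IsScalarTower Λ A C]
    (B' : Type u) [CommRing B'] [Algebra A B'] (π : C →ₐ[A] B') (hπ : Function.Surjective π)
    (hker : RingHom.ker (π : C →+* B') ^ 2 = ⊥) (u₀ : B →ₐ[A] B') (u : B →ₐ[Λ] C)
    (hu : ∀ b, π (u b) = u₀ b) : ∃ v : B →ₐ[A] C, ∀ b, π (v b) = u₀ b := by
  set J : Ideal C := RingHom.ker (π : C →+* B') with hJ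
  let e : (C ⧸ J) ≃ₐ[A] B' := Ideal.quotientKerAlgEquivOfSurjective hπ
  have he : ∀ c : C, e (Ideal.Quotient.mk J c) = π c := fun c => rfl
  obtain ⟨v, hv⟩ := h C J hker ((e.symm : B' →ₐ[A] C ⧸ J).comp u₀) ⟨u, by
    ext b
    simp only [AlgHom.coe_comp, Function.comp_apply, Ideal.Quotient.mkₐ_eq_mk,
      AlgHom.coe_restrictScalars', AlgEquiv.coe_toAlgHom]
    rw [AlgEquiv.eq_symm_apply, he, hu]⟩
  refine ⟨v, fun b => ?_⟩
  have := congrArg (fun f => e (f b)) hv
  simp only [AlgHom.coe_comp, Function.comp_apply, Ideal.Quotient.mkₐ_eq_mk, AlgEquiv.coe_toAlgHom,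
    AlgEquiv.apply_symm_apply] at this
  rw [← this, he]

section
variable (Λ A B : Type u) [CommRing Λ] [CommRing A] [CommRing B] [Algebra Λ A] [Algebra Λ B]
  [Algebra A B] [IsScalarTower Λ A B]
variable (N : Type u) [AddCommGroup N] [Module B N] [Module A N] [Module Λ N]
  [IsScalarTower A B N] [IsScalarTower Λ B N]

/-- The op-module structure on a module over a commutative ring. -/
@[reducible] def opMod : Module Bᵐᵒᵖ N := Module.compHom _ ((RingHom.id B).fromOpposite mul_comm)

attribute [local instance] opMod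

theorem isCentral : IsCentralScalar B N := ⟨fun _ _ => rfl⟩

attribute [local instance] isCentral

variable {Λ A B N}

/-- The twisted structure map `a ↦ (a, d a)`. -/
def twist (d : Derivation Λ A N) : A →+* TrivSqZeroExt B N where
  toFun a := inl (algebraMap A B a) + inr (d a)
  map_one' := by
    ext <;> simp
  map_mul' a b := by
    ext
    · simp
    · simp only [snd_add, snd_inl, snd_inr, zero_add, snd_mul, fst_add, fst_inl, fst_inr, add_zero,
        Derivation.leibniz, op_smul_eq_smul, algebraMap_smul]
  map_zero' := by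
    ext <;> simp
  map_add' a b := by
    ext <;> simp

/-- Type synonym for the trivial square zero extension carrying the twisted `A`-algebra
structure. -/
def Tw (B : Type u) [CommRing B] [Algebra A B] [Module B N] (_d : Derivation Λ A N) : Type u :=
  TrivSqZeroExt B N

noncomputable instance (d : Derivation Λ A N) : CommRing (Tw B d) :=
  inferInstanceAs (CommRing (TrivSqZeroExt B N))

noncomputable instance (d : Derivation Λ A N) : Algebra A (Tw B d) := (twist d).toAlgebra

noncomputable instance (d : Derivation Λ A N) : Algebra Λ (Tw B d) :=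
  ((twist d).comp (algebraMap Λ A)).toAlgebra

instance (d : Derivation Λ A N) : IsScalarTower Λ A (Tw B d) :=
  IsScalarTower.of_algebraMap_eq (fun _ => rfl)

theorem algebraMap_Tw (d : Derivation Λ A N) (a : A) :
    algebraMap A (Tw B d) a = (inl (algebraMap A B a) + inr (d a) : TrivSqZeroExt B N) := rfl

/-- projection to `B` as an `A`-algebra map -/
noncomputable def proj (d : Derivation Λ A N) : Tw B d →ₐ[A] B where
  toFun x := fst (show TrivSqZeroExt B N from x)
  map_one' := fst_one
  map_mul' _ _ := fst_mul _ _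
  map_zero' := fst_zero
  map_add' _ _ := fst_add _ _
  commutes' a := by
    rw [algebraMap_Tw]; simp

/-- inclusion of `B` as a `Λ`-algebra map -/
noncomputable def incl (d : Derivation Λ A N) : B →ₐ[Λ] Tw B d where
  toFun b := (inl b : TrivSqZeroExt B N)
  map_one' := inl_one _
  map_mul' _ _ := inl_mul _ _ _
  map_zero' := inl_zero _
  map_add' _ _ := inl_add _ _ _
  commutes' r := by
    show (inl (algebraMap Λ B r) : TrivSqZeroExt B N) = algebraMap A (Tw B d) (algebraMap Λ A r)
    rw [algebraMap_Tw, Derivation.map_algebraMap, inr_zero, add_zero,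
      ← IsScalarTower.algebraMap_apply]

theorem ker_proj_sq (d : Derivation Λ A N) :
    RingHom.ker ((proj d : Tw B d →ₐ[A] B) : Tw B d →+* B) ^ 2 = ⊥ := by
  have : RingHom.ker ((proj d : Tw B d →ₐ[A] B) : Tw B d →+* B) = TrivSqZeroExt.kerIdeal B N := by
    ext x
    rfl
  rw [this]
  exact TrivSqZeroExt.kerIdeal_sq B N

/-- forget the synonym -/
def Tw.val {d : Derivation Λ A N} (x : Tw B d) : TrivSqZeroExt B N := x

theorem Tw.val_mul {d : Derivation Λ A N} (x y : Tw B d) : (x * y).val = x.val * y.val := rfl

theorem Tw.val_add {d : Derivation Λ A N} (x y : Tw B d) : (x + y).val = x.val + y.val := rfl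

theorem Tw.val_algebraMap {d : Derivation Λ A N} (a : A) :
    (algebraMap A (Tw B d) a).val = inl (algebraMap A B a) + inr (d a) := rfl

/-- **Extension of derivations** under relative formal smoothness. -/
theorem exists_derivation_extension (h : EGA41.IsFormallySmoothRel Λ A B) (d : Derivation Λ A N) :
    ∃ D : Derivation Λ B N, ∀ a, D (algebraMap A B a) = d a := by
  obtain ⟨v, hv⟩ := lift_of_surjective h (Tw B d) B (proj d)
    (fun b => ⟨(inl b : TrivSqZeroExt B N), fst_inl N b⟩) (ker_proj_sq d) (AlgHom.id A B) (incl d)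
    (fun b => fst_inl N b)
  have hfst : ∀ b, fst (v b).val = b := hv
  have hmul : ∀ b b', (v (b * b')).val = (v b).val * (v b').val := fun b b' => by
    rw [map_mul, Tw.val_mul]
  have hadd : ∀ b b', (v (b + b')).val = (v b).val + (v b').val := fun b b' => by
    rw [map_add, Tw.val_add]
  have halg : ∀ a, (v (algebraMap A B a)).val = inl (algebraMap A B a) + inr (d a) := fun a => by
    rw [v.commutes a, Tw.val_algebraMap]
  let D₀ : B →ₗ[Λ] N :=
    { toFun := fun b => snd (v b).val
      map_add' := fun b b' => by rw [hadd, snd_add]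
      map_smul' := fun r b => by
        have h1 : r • b = algebraMap A B (algebraMap Λ A r) * b := by
          rw [← IsScalarTower.algebraMap_apply, Algebra.smul_def]
        simp only [RingHom.id_apply]
        rw [h1, hmul, halg, snd_mul, hfst]
        simp only [fst_add, fst_inl, fst_inr, add_zero, snd_add, snd_inl, snd_inr, zero_add,
          Derivation.map_algebraMap, smul_zero, op_smul_eq_smul]
        rw [← IsScalarTower.algebraMap_apply, algebraMap_smul] }
  refine ⟨Derivation.mk' D₀ (fun b b' => ?_), fun a => ?_⟩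
  · show snd (v (b * b')).val = b • snd (v b').val + b' • snd (v b).val
    rw [hmul, snd_mul, hfst, hfst, op_smul_eq_smul]
  · show snd (v (algebraMap A B a)).val = d a
    rw [halg]; simp

end

/-- Relative formal smoothness gives a left inverse of `B ⊗[A] Ω[A⁄Λ] → Ω[B⁄Λ]`. -/
theorem exists_leftInverse_mapBaseChange {Λ A B : Type u} [CommRing Λ] [CommRing A] [CommRing B]
    [Algebra Λ A] [Algebra Λ B] [Algebra A B] [IsScalarTower Λ A B]
    (h : EGA41.IsFormallySmoothRel Λ A B) :
    ∃ l : Ω[B⁄Λ] →ₗ[B] B ⊗[A] Ω[A⁄Λ],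
      l ∘ₗ KaehlerDifferential.mapBaseChange Λ A B = LinearMap.id := by
  let d : Derivation Λ A (B ⊗[A] Ω[A⁄Λ]) :=
    (TensorProduct.mk A B Ω[A⁄Λ] 1).compDer (KaehlerDifferential.D Λ A)
  obtain ⟨D', hD'⟩ := exists_derivation_extension h d
  refine ⟨D'.liftKaehlerDifferential, ?_⟩
  have key : ∀ ω : Ω[A⁄Λ], D'.liftKaehlerDifferential (KaehlerDifferential.map Λ Λ A B ω) =
      (1 : B) ⊗ₜ[A] ω := by
    intro ω
    have hω : ω ∈ Submodule.span A (Set.range (KaehlerDifferential.D Λ A)) := by
      rw [KaehlerDifferential.span_range_derivation]; trivial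
    induction hω using Submodule.span_induction with
    | mem x hx =>
      obtain ⟨a, rfl⟩ := hx
      rw [KaehlerDifferential.map_D, Derivation.liftKaehlerDifferential_comp_D, hD']
      rfl
    | zero => simp
    | add x y _ _ hx hy => rw [map_add, map_add, hx, hy, tmul_add]
    | smul a x _ hx =>
      rw [map_smul, ← algebraMap_smul B a, map_smul, hx, algebraMap_smul, tmul_smul]
  apply TensorProduct.AlgebraTensorModule.ext
  intro b ω
  simp only [LinearMap.coe_comp, Function.comp_apply, KaehlerDifferential.mapBaseChange_tmul,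
    map_smul, key, LinearMap.id_coe, id_eq]
  rw [smul_tmul', smul_eq_mul, mul_one]

end Groth.Agent.H17.FSRel
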