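import Groth.Agent.S8874
import Groth.Agent.H8.CohAffine
import Groth.Agent.H17.HomSh

/-!
# Local generating sections of modules of finite type (no quasi-coherence), and injectivity of the
evaluation map on germs of the sheaf Hom out of a module of finite type
-/

set_option autoImplicit false
set_option linter.style.haveILetI false
universe u
open CategoryTheory CategoryTheory.Limits AlgebraicGeometry TopologicalSpace Opposite

namespace Groth.Agent.H17.FTGen

open Groth.Agent.H8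
open Groth.Agent.S17860 (eq_sum_freeι app_unit unitOne toO restrictO restrictSec smul_restrictSec)

/-- a finite family of generating sections gives an epimorphism from a free module of finite
rank. -/
lemma exists_epi_freeMod_of_generatingSections {X : Scheme.{u}} {M : X.Modules}
    (G : M.GeneratingSections) (hG : G.IsFiniteType) :
    ∃ (k : ℕ) (π : FlatMod.freeMod X k ⟶ M), Epi π := by
  haveI : Finite G.I := hG.finite
  obtain ⟨k, ⟨e⟩⟩ := Finite.exists_equiv_fin G.I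
  let iso : SheafOfModules.free.{u} (R := X.ringCatSheaf) G.I ≅ FlatMod.freeMod X k :=
    Sigma.whiskerEquiv (f := fun _ : G.I => SheafOfModules.unit X.ringCatSheaf)
      (g := fun _ : Fin k => Coh.structureModule X) e (fun _ => Iso.refl _)
  haveI hi : IsIso iso.inv := ⟨⟨iso.hom, iso.inv_hom_id, iso.hom_inv_id⟩⟩
  have he : Epi iso.inv := @IsIso.epi_of_iso _ _ _ _ iso.inv hi
  exact ⟨k, iso.inv ≫ G.π, epi_comp' he G.epi⟩

/-- If `F|_U` is a quotient of `O_U^r`, there are `r` sections of `F` over `U` whose germs generate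
the stalk of `F` at every point of `U`. -/
lemma exists_sections_span_stalks {S : Scheme.{u}} (F : S.Modules) (U : S.Opens) (r : ℕ)
    (π : FlatMod.freeMod (↑U) r ⟶ F.restrict U.ι) [Epi π] :
    ∃ σ : Fin r → Γ(F, U.ι ''ᵁ ⊤), ∀ (s : S) (hsU' : s ∈ U.ι ''ᵁ ⊤),
      Submodule.span (S.presheaf.stalk s)
        (Set.range fun j => F.presheaf.germ (U.ι ''ᵁ ⊤) s hsU' (σ j)) = ⊤ := by
  classical
  obtain ⟨ψ, hψ⟩ : ∃ ψ : Fin r → (Coh.structureModule (↑U : Scheme.{u}) ⟶ F.restrict U.ι),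
      ψ = fun j => Groth.Agent.S17860.freeι (↑U) r j ≫ π := ⟨_, rfl⟩
  obtain ⟨σ, hσ⟩ : ∃ σ : Fin r → Γ(F, U.ι ''ᵁ ⊤), σ = fun j =>
      (ψ j).app ⊤ (unitOne (↑U : Scheme.{u}) ⊤) := ⟨_, rfl⟩
  refine ⟨σ, fun s hsU' => ?_⟩
  obtain ⟨y, -, hy⟩ := hsU'
  have hsU : s ∈ U := hy ▸ y.2
  obtain rfl : y = ⟨s, hsU⟩ := Subtype.ext hy
  set y : (↑U : Scheme.{u}) := ⟨s, hsU⟩ with hydef
  rw [eq_top_iff]
  rintro t -
  obtain ⟨W0, hsW0, t0, rfl⟩ := TopCat.Presheaf.exists_germ_eq F.presheaf t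
  have hle : U.ι ''ᵁ (U.ι ⁻¹ᵁ W0) ≤ W0 := by
    rintro _ ⟨z, hz, rfl⟩
    exact hz
  have hyW : y ∈ U.ι ⁻¹ᵁ W0 := hsW0
  obtain ⟨V, hV, z, hyV, hz⟩ := Groth.Agent.H53.modules_epi_locally_surjective π (U.ι ⁻¹ᵁ W0)
    (show Γ(F.restrict U.ι, U.ι ⁻¹ᵁ W0) from F.presheaf.map (homOfLE hle).op t0) y hyW
  have hsV : s ∈ U.ι ''ᵁ V := ⟨y, hyV, rfl⟩
  have hsum : π.app V z =
      ∑ j, (ψ j).app V ((Groth.Agent.S17860.freeπ (↑U) r j).app V z) := by
    conv_lhs => rw [eq_sum_freeι r V z]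
    rw [map_sum, hψ]
    rfl
  have hgermL : F.presheaf.germ (U.ι ''ᵁ V) s hsV (restrictSec U F V (π.app V z)) =
      F.presheaf.germ W0 s hsW0 t0 := by
    rw [hz]
    show F.presheaf.germ (U.ι ''ᵁ V) s hsV
      (F.presheaf.map (homOfLE (U.ι.image_mono hV)).op (F.presheaf.map (homOfLE hle).op t0)) = _
    rw [TopCat.Presheaf.germ_res_apply, TopCat.Presheaf.germ_res_apply]
  rw [← hgermL, hsum]
  have hsplit : restrictSec U F V (∑ j, (ψ j).app V ((Groth.Agent.S17860.freeπ (↑U) r j).app V z)) =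
      ∑ j, restrictSec U F V ((ψ j).app V ((Groth.Agent.S17860.freeπ (↑U) r j).app V z)) := rfl
  rw [hsplit, map_sum]
  refine Submodule.sum_mem _ (fun j _ => ?_)
  rw [app_unit, smul_restrictSec, germ_smul]
  refine Submodule.smul_mem _ _ ?_
  have h5 : F.presheaf.germ (U.ι ''ᵁ V) s hsV (restrictSec U F V
      ((F.restrict U.ι).presheaf.map (homOfLE (le_top : V ≤ ⊤)).op
        ((ψ j).app ⊤ (unitOne (↑U : Scheme.{u}) ⊤)))) =
      F.presheaf.germ (U.ι ''ᵁ ⊤) s ⟨y, trivial, rfl⟩ (σ j) := by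
    rw [hσ]
    exact TopCat.Presheaf.germ_res_apply F.presheaf
      (homOfLE (U.ι.image_mono (le_top : V ≤ ⊤))) s hsV _
  rw [h5]
  exact Submodule.subset_span ⟨j, rfl⟩

/-- a module of finite type has, near every point, finitely many sections whose germs generate all
nearby stalks. -/
theorem exists_local_generators {X : Scheme.{u}} (F : X.Modules)
    [SheafOfModules.IsFiniteType (R := X.ringCatSheaf) F] (x : X) :
    ∃ (U : X.Opens) (_ : x ∈ U) (r : ℕ) (σ : Fin r → Γ(F, U)), ∀ (y : X) (hy : y ∈ U),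
      Submodule.span (X.presheaf.stalk y)
        (Set.range fun j => F.presheaf.germ U y hy (σ j)) = ⊤ := by
  obtain ⟨ι, U, hG, hcov, -⟩ := exists_isOpenCover_generatingSections F
  obtain ⟨i, hxi⟩ := hcov.exists_mem x
  obtain ⟨G, hGft⟩ := hG i
  obtain ⟨k, π, hπ⟩ := exists_epi_freeMod_of_generatingSections G hGft
  obtain ⟨σ, hσ⟩ := exists_sections_span_stalks F (U i) k π
  have hx' : x ∈ (U i).ι ''ᵁ ⊤ := ⟨⟨x, hxi⟩, trivial, rfl⟩
  exact ⟨(U i).ι ''ᵁ ⊤, hx', k, σ, hσ⟩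

open Groth.Agent.H17.HomSh in
/-- the evaluation map on germs of the sheaf Hom out of a module of finite type is injective. -/
theorem evalStalk_injective_of_isFiniteType {X : Scheme.{u}} (F G : X.Modules)
    [SheafOfModules.IsFiniteType (R := X.ringCatSheaf) F] (x : X) :
    Function.Injective (RefHull.evalStalk F G x) := by
  classical
  rw [injective_iff_map_eq_zero]
  intro θ hθ
  obtain ⟨V, hxV, g, rfl⟩ := TopCat.Presheaf.exists_germ_eq (RefHull.homSh F G).presheaf θ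
  rw [RefHull.evalStalk_germ] at hθ
  obtain ⟨U, hxU, r, σ, hσ⟩ := exists_local_generators F x
  have hWU : V ⊓ U ≤ U := inf_le_right
  have hxW : x ∈ V ⊓ U := ⟨hxV, hxU⟩
  obtain ⟨g', hg'⟩ : ∃ g' : Γ(RefHull.homSh F G, V ⊓ U),
      g' = (RefHull.homSh F G).presheaf.map (homOfLE (inf_le_left : V ⊓ U ≤ V)).op g := ⟨_, rfl⟩
  have hg'x : g'.1 ⟨x, hxW⟩ = 0 := by rw [hg']; exact hθ
  have hloc : ∀ j : Fin r, ∃ (W' : X.Opens) (hW' : W' ≤ V ⊓ U), x ∈ W' ∧
      G.presheaf.map (homOfLE hW').op (fwd F G hWU g' (σ j)) = 0 := by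
    intro j
    refine exists_res_eq_zero_of_germ_eq_zero x G hxW _ ?_
    rw [germ_fwd, hg'x]
    rfl
  choose W' hW' hxW' hW'0 using hloc
  obtain ⟨W₀, hW₀⟩ : ∃ W₀ : X.Opens, W₀ = (⨅ j : Fin r, W' j) ⊓ (V ⊓ U) := ⟨_, rfl⟩
  have hxW₀ : x ∈ W₀ := by
    rw [hW₀]
    refine ⟨?_, hxW⟩
    change x ∈ ((⨅ j : Fin r, W' j : X.Opens) : Set X)
    rw [Opens.coe_iInf]
    exact Set.mem_iInter.mpr fun j => hxW' j
  have hW₀W : W₀ ≤ V ⊓ U := hW₀ ▸ inf_le_right
  have hW₀s : ∀ j : Fin r, W₀ ≤ W' j := fun j => hW₀ ▸ inf_le_left.trans (iInf_le _ j)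
  obtain ⟨g'', hg''⟩ : ∃ g'' : Γ(RefHull.homSh F G, W₀),
      g'' = (RefHull.homSh F G).presheaf.map (homOfLE hW₀W).op g' := ⟨_, rfl⟩
  have hW₀U : W₀ ≤ U := hW₀W.trans hWU
  have hfwd0 : ∀ j : Fin r, fwd F G hW₀U g'' (σ j) = 0 := by
    intro j
    rw [hg'', fwd_res F G hWU hW₀W g' (σ j)]
    have e1 : G.presheaf.map (homOfLE hW₀W).op (fwd F G hWU g' (σ j)) =
        G.presheaf.map (homOfLE (hW₀s j)).op
          (G.presheaf.map (homOfLE (hW' j)).op (fwd F G hWU g' (σ j))) := by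
      rw [← ConcreteCategory.comp_apply, ← Functor.map_comp]
      rfl
    rw [e1, hW'0, map_zero]
  have hzero : g'' = 0 := by
    refine Subtype.ext (funext fun y => ?_)
    refine LinearMap.ext_on_range (hσ y.1 (hW₀U y.2)) (fun j => ?_)
    have h1 := germ_fwd F G hW₀U g'' (σ j) y.1 y.2
    rw [hfwd0 j, map_zero] at h1
    rw [← h1]
    rfl
  have e2 : (RefHull.homSh F G).presheaf.germ V x hxV g =
      (RefHull.homSh F G).presheaf.germ W₀ x hxW₀ g'' := by
    rw [hg'', hg', TopCat.Presheaf.germ_res_apply, TopCat.Presheaf.germ_res_apply]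
  rw [e2, hzero, map_zero]

end Groth.Agent.H17.FTGen
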