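import Mathlib
import Groth.Agent.H95.ZClos
import Groth.Agent.H22.QCohAbelian
import Groth.Agent.H8.QCohLocal
import Groth.Agent.H8.CohAffine

/-!
# A finite type submodule of a quasi-coherent module is quasi-coherent

* `isQuasicoherent_of_affine_cover`: quasi-coherence can be checked on an affine open cover.
* `isQuasicoherent_of_mono_of_isFiniteType`: a finite type subobject of a quasi-coherent module is
  quasi-coherent.
-/

set_option autoImplicit false
set_option linter.style.haveILetI false
universe u
open CategoryTheory CategoryTheory.Limits AlgebraicGeometry TopologicalSpace Opposite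

namespace Groth.Agent.H17.FTSubQCoh

variable {X : Scheme.{u}}

/-- quasi-coherence can be checked on the members of an affine open cover. -/
theorem isQuasicoherent_of_affine_cover (M : X.Modules) {ι : Type u} (U : ι → X.Opens)
    (hU : IsOpenCover U) (hU' : ∀ i, IsAffineOpen (U i))
    (h : ∀ i, (M.restrict (U i).ι).IsQuasicoherent) : M.IsQuasicoherent := by
  refine Groth.Agent.H8.isQuasicoherent_of_presentation_cover M U hU (fun i => Nonempty.some ?_)
  haveI := h i
  have hι : (hU' i).fromSpec = (hU' i).isoSpec.inv ≫ (U i).ι := (hU' i).isoSpec_inv_ι.symm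
  haveI : ((Scheme.Modules.restrictFunctor (U i).ι ⋙
      Scheme.Modules.restrictFunctor (hU' i).isoSpec.inv).obj M).IsQuasicoherent :=
    Scheme.Modules.isQuasicoherent_restrictFunctor (hU' i).isoSpec.inv (M.restrict (U i).ι)
  haveI : (M.restrict (hU' i).fromSpec).IsQuasicoherent :=
    Groth.Agent.H22.QCohLimits.isQuasicoherent_of_iso
      ((Scheme.Modules.restrictFunctorCongr hι).app M ≪≫
        (Scheme.Modules.restrictFunctorComp (hU' i).isoSpec.inv (U i).ι).app M).symm
  exact Groth.Agent.H8.nonempty_presentation_restrict_ι (hU' i) M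

/-- the middle term of an epi-mono factorisation between quasi-coherent modules is
quasi-coherent. -/
theorem isQuasicoherent_of_epi_mono {Y : Scheme.{u}} {P F A : Y.Modules} (p : P ⟶ F) [Epi p]
    (m : F ⟶ A) [Mono m] [P.IsQuasicoherent] [A.IsQuasicoherent] : F.IsQuasicoherent := by
  haveI : StrongEpi p := strongEpi_of_epi _
  have e : F ≅ Abelian.image (p ≫ m) :=
    image.isoStrongEpiMono p m rfl ≪≫ (Abelian.imageIsoImage (p ≫ m)).symm
  haveI : (Abelian.image (p ≫ m)).IsQuasicoherent :=
    Groth.Agent.H22.QCohAbelian.isQuasicoherent_image (p ≫ m)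
  exact Groth.Agent.H22.QCohLimits.isQuasicoherent_of_iso e.symm

/-- a finite type subobject of a quasi-coherent module is quasi-coherent. -/
theorem isQuasicoherent_of_mono_of_isFiniteType {F A : X.Modules} (j : F ⟶ A) [Mono j]
    [A.IsQuasicoherent] [SheafOfModules.IsFiniteType (R := X.ringCatSheaf) F] :
    F.IsQuasicoherent := by
  obtain ⟨ι, U, hG, hcov, haff⟩ := Groth.Agent.H8.exists_isOpenCover_generatingSections F
  refine isQuasicoherent_of_affine_cover F U hcov haff (fun i => ?_)
  obtain ⟨G, -⟩ := hG i
  let P : (U i).toScheme.Modules := SheafOfModules.free G.I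
  let p : P ⟶ F.restrict (U i).ι := G.π
  haveI : Epi p := G.epi
  let m : F.restrict (U i).ι ⟶ A.restrict (U i).ι :=
    (Scheme.Modules.restrictFunctor (U i).ι).map j
  haveI : Mono m := Functor.map_mono _ j
  haveI : (A.restrict (U i).ι).IsQuasicoherent :=
    Scheme.Modules.isQuasicoherent_restrictFunctor (U i).ι A
  haveI : P.IsQuasicoherent :=
    inferInstanceAs (SheafOfModules.free (R := (U i).toScheme.ringCatSheaf) G.I).IsQuasicoherent
  exact isQuasicoherent_of_epi_mono p m

end Groth.Agent.H17.FTSubQCoh
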