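import Groth.Prelude.Def_Fitting
import Groth.Agent.H34.Fitting7
import Groth.Agent.H8.QCohAffine
import Groth.Agent.H8.CohAffine

/-!
# The Fitting ideal sheaves of a quasi-coherent module of finite type

`Fitt.sheafIdeal F r` has the expected ideals on affine opens: `sheafIdeal_ideal`.
-/

set_option autoImplicit false
set_option linter.style.haveILetI false

universe u v w

open CategoryTheory AlgebraicGeometry TopologicalSpace Opposite TensorProduct

namespace Groth.Agent.H17.FittSheaf

open Groth.Agent.H8 Groth.Agent.H34.Fit

section Algebra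

variable {R : Type u} [CommRing R] (S : Submonoid R) (R' : Type w) [CommRing R'] [Algebra R R']
  [IsLocalization S R'] {M : Type v} [AddCommGroup M] [Module R M] {M' : Type*} [AddCommGroup M']
  [Module R M'] [Module R' M'] [IsScalarTower R R' M'] (f : M →ₗ[R] M') [IsLocalizedModule S f]

include S f in
/-- Fitting ideals commute with localization, for abstract localizations. -/
theorem fittIdeal_of_isLocalizedModule [Module.Finite R M] (k : ℕ) :
    Fitt.ideal R' M' k = (Fitt.ideal R M k).map (algebraMap R R') := by
  have hbc : IsBaseChange R' f := IsLocalizedModule.isBaseChange S R' f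
  rw [← fittIdeal_baseChange R' k]
  apply le_antisymm
  · exact fittIdeal_le_of_surjective hbc.equiv.symm.toLinearMap hbc.equiv.symm.surjective k
  · exact fittIdeal_le_of_surjective hbc.equiv.toLinearMap hbc.equiv.surjective k

end Algebra

section Sheaf

variable {X : Scheme.{u}} (F : X.Modules) [F.IsQuasicoherent]

/-- The Fitting ideals on affine opens, as an ideal sheaf datum (for a quasi-coherent module with
finite modules of sections on affine opens). -/
noncomputable def fittData' (hfin : ∀ U : X.affineOpens, Module.Finite Γ(X, U.1) Γ(F, U.1))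
    (r : ℕ) : X.IdealSheafData where
  ideal U := Fitt.ideal Γ(X, U.1) Γ(F, U.1) r
  map_ideal_basicOpen U f := by
    haveI := hfin U
    letI := moduleSectionBasicOpen F f
    haveI : IsScalarTower Γ(X, U.1) Γ(X, X.basicOpen f) Γ(F, X.basicOpen f) :=
      IsScalarTower.of_algebraMap_smul fun r m => rfl
    haveI := isLocalizedModule_resBasicOpenₗ U.2 F f
    haveI := U.2.isLocalization_basicOpen f
    exact (fittIdeal_of_isLocalizedModule (Submonoid.powers f) Γ(X, X.basicOpen f)
      (resBasicOpenₗ F f) r).symm

theorem sheafIdeal_eq' (hfin : ∀ U : X.affineOpens, Module.Finite Γ(X, U.1) Γ(F, U.1)) (r : ℕ) :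
    Fitt.sheafIdeal F r = fittData' F hfin r :=
  Scheme.IdealSheafData.ofIdeals_ideal (fittData' F hfin r)

theorem sheafIdeal_ideal' (hfin : ∀ U : X.affineOpens, Module.Finite Γ(X, U.1) Γ(F, U.1)) (r : ℕ)
    (U : X.affineOpens) :
    (Fitt.sheafIdeal F r).ideal U = Fitt.ideal Γ(X, U.1) Γ(F, U.1) r := by
  rw [sheafIdeal_eq' F hfin]
  rfl

variable [SheafOfModules.IsFiniteType (R := X.ringCatSheaf) F]

/-- The Fitting ideals on affine opens, as an ideal sheaf datum. -/
noncomputable def fittData (r : ℕ) : X.IdealSheafData :=
  fittData' F (fun U => finite_sections_of_isAffineOpen F U.2) r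

theorem sheafIdeal_eq (r : ℕ) : Fitt.sheafIdeal F r = fittData F r :=
  sheafIdeal_eq' F (fun U => finite_sections_of_isAffineOpen F U.2) r

theorem sheafIdeal_ideal (r : ℕ) (U : X.affineOpens) :
    (Fitt.sheafIdeal F r).ideal U = Fitt.ideal Γ(X, U.1) Γ(F, U.1) r :=
  sheafIdeal_ideal' F (fun U => finite_sections_of_isAffineOpen F U.2) r U

end Sheaf

end Groth.Agent.H17.FittSheaf
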