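import Groth.Agent.H17.NormalRefl

/-!
# Hartogs extension for flat quasi-coherent modules on a normal locally Noetherian scheme

`H71.ZC.toSec_surjective_of_depth` is re-proved without the finiteness hypothesis (only weakly
regular sequences of length two are used), and transported to schemes: for a flat quasi-coherent
module `F` on a normal locally Noetherian scheme and an open `U` containing all points of
codimension at most one, `F(V) → F(V ⊓ U)` is bijective and `F ⟶ j_* j^* F` is an isomorphism.
-/

set_option autoImplicit false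
set_option linter.style.haveILetI false
universe u

open AlgebraicGeometry CategoryTheory CategoryTheory.Limits Opposite TopologicalSpace
open Groth.Agent.H58 Groth.Agent.H15.Depth Groth.Agent.H71.ZC
open scoped Pointwise

namespace Groth.Agent.H17.FlatHartogs

section Algebra

variable {A : Type u} [CommRing A] (M : Type u) [AddCommGroup M] [Module A M]

/-- surjectivity of `M → Γ(D(J), M~)` from weakly regular sequences of length two at the primes
containing `J`; no finiteness of `M` is needed. -/
lemma toSec_surjective_of_hasSeq [IsNoetherianRing A] (J : Ideal A)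
    (hinj : Function.Injective (TS.toSec M (LocCoh.puncturedOpen A J)))
    (h : ∀ (P : Ideal A) [P.IsPrime], J ≤ P →
      HasSeq (IsLocalRing.maximalIdeal (Localization.AtPrime P))
        (LocalizedModule P.primeCompl M) 2) :
    Function.Surjective (TS.toSec M (LocCoh.puncturedOpen A J)) := by
  intro τ
  have hmemI : ∀ r : A, r ∈ (LinearMap.range (TS.toSec M (LocCoh.puncturedOpen A J))).comap
      (LinearMap.toSpanSingleton A _ τ) ↔
        r • τ ∈ LinearMap.range (TS.toSec M (LocCoh.puncturedOpen A J)) := fun r => by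
    rw [Submodule.mem_comap, LinearMap.toSpanSingleton_apply]
  generalize hI : (LinearMap.range (TS.toSec M (LocCoh.puncturedOpen A J))).comap
      (LinearMap.toSpanSingleton A _ τ) = I at hmemI
  by_contra hτ
  have hItop : (I : Ideal A) ≠ ⊤ := by
    intro h1
    apply hτ
    have h2 : (1 : A) ∈ I := h1 ▸ Submodule.mem_top
    rw [hmemI, one_smul] at h2
    exact h2
  obtain ⟨⟨P, hP⟩⟩ := Ideal.nonempty_minimalPrimes hItop
  haveI : P.IsPrime := hP.1.1
  have hIP : I ≤ P := hP.1.2
  obtain ⟨n, hn⟩ := TS.exists_pow_smul_mem_range M J τ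
  have hJP : J ≤ P := by
    apply Ideal.IsPrime.le_of_pow_le (n := n)
    intro r hr
    exact hIP ((hmemI r).mpr (hn r hr))
  have hnotI : ∀ s, s ∉ P → s ∉ I := fun s hs hsI => hs (hIP hsI)
  have hseq := h P hJP
  · obtain ⟨a₀, b₀, ha₀, hb₀, hareg, hdiv⟩ := exists_elementary_of_hasSeq_two P hseq
    have hc : ∀ m : M, a₀ • m = 0 → ∃ s, s ∉ P ∧ s • m = 0 := fun m hm =>
      (mk_eq_zero_iff P m).mp (hareg _ (by rw [← map_smul, hm, map_zero]))
    have haT : ∀ τ' : LocalizedModule P.primeCompl (TS.sec M (LocCoh.puncturedOpen A J)),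
        a₀ • τ' = 0 → τ' = 0 := by
      intro τ' hτ'
      obtain ⟨s, μ, hs, hsμ⟩ := exists_smul_eq_mk P τ'
      have h1 : LocalizedModule.mkLinearMap P.primeCompl
          (TS.sec M (LocCoh.puncturedOpen A J)) (a₀ • μ) = 0 := by
        rw [map_smul, ← hsμ, smul_comm, hτ', smul_zero]
      obtain ⟨t, ht, htμ⟩ := (mk_eq_zero_iff P _).mp h1
      obtain ⟨s', hs', hs'μ⟩ := exists_notMem_smul_sec_eq_zero M P a₀ hc _ (t • μ)
        (by rw [smul_comm]; exact htμ)
      have h2 : LocalizedModule.mkLinearMap P.primeCompl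
          (TS.sec M (LocCoh.puncturedOpen A J)) μ = 0 :=
        (mk_eq_zero_iff P μ).mpr ⟨s' * t, P.primeCompl.mul_mem hs' ht, by
          rw [mul_smul]; exact hs'μ⟩
      apply smul_inj P hs
      rw [hsμ, h2, smul_zero]
    obtain ⟨k, s, hs, hsk⟩ := exists_mul_pow_mem_of_mem_minimalPrimes hP ha₀
    obtain ⟨l, t, ht, htl⟩ := exists_mul_pow_mem_of_mem_minimalPrimes hP hb₀
    have hrange : ∀ (c : A) (s : A), s ∉ P → s * c ∈ I →
        c • LocalizedModule.mkLinearMap P.primeCompl (TS.sec M (LocCoh.puncturedOpen A J)) τ ∈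
          LinearMap.range (locMap P.primeCompl (TS.toSec M (LocCoh.puncturedOpen A J))) := by
      intro c s hs hsc
      rw [← map_smul, mk_mem_range_locMap_iff]
      refine ⟨s, hs, ?_⟩
      rw [smul_smul]; exact (hmemI _).mp hsc
    have hfinal := mem_range_of_pow_smul_mem_range
      (locMap P.primeCompl (TS.toSec M (LocCoh.puncturedOpen A J)))
      (locMap_injective _ _ hinj) a₀ b₀ haT hdiv k l
      (LocalizedModule.mkLinearMap P.primeCompl (TS.sec M (LocCoh.puncturedOpen A J)) τ)
      (hrange _ s hs hsk) (hrange _ t ht htl)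
    obtain ⟨s', hs', hs'τ⟩ := (mk_mem_range_locMap_iff _ _ _).mp hfinal
    exact hnotI s' hs' ((hmemI s').mpr hs'τ)

/-! ### depth two from bijectivity -/

/-- bijectivity of `M → Γ(D(J), M~)` from weakly regular sequences of length two at the primes
containing `J`. -/
theorem toSec_bijective_of_hasSeq [IsNoetherianRing A] (J : Ideal A)
    (h : ∀ (P : Ideal A) [P.IsPrime], J ≤ P →
      HasSeq (IsLocalRing.maximalIdeal (Localization.AtPrime P))
        (LocalizedModule P.primeCompl M) 2) :
    Function.Bijective (TS.toSec M (LocCoh.puncturedOpen A J)) := by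
  have hinj : Function.Injective (TS.toSec M (LocCoh.puncturedOpen A J)) := by
    apply toSec_injective_of_noAss
    intro Q hQ hJQ
    haveI := hQ.isPrime
    obtain ⟨-, m', hm'⟩ := isAssociatedPrime_iff.mp hQ
    have hsoc := hasSocle_of_colon Q m' hm'
    obtain ⟨x, hx, hxreg, -⟩ := hasSeq_succ_iff.mp (h Q hJQ)
    exact hsoc.not_regular hx hxreg
  exact ⟨hinj, toSec_surjective_of_hasSeq M J hinj h⟩

/-- weakly regular sequences on the ring stay weakly regular on a flat module. -/
theorem hasSeq_of_flat {R : Type u} [CommRing R] (I : Ideal R) (N : Type u) [AddCommGroup N]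
    [Module R N] [Module.Flat R N] {n : ℕ} (h : HasSeq I R n) : HasSeq I N n := by
  obtain ⟨rs, hw, hI, hl⟩ := h
  exact ⟨rs, ((TensorProduct.lid R N).isWeaklyRegular_congr rs).mp hw.isWeaklyRegular_rTensor,
    hI, hl⟩

/-- a Noetherian normal local domain of dimension at least two has a regular sequence of length
two. -/
theorem hasSeq_two_of_normal (R : Type u) [CommRing R] [IsLocalRing R] [IsNoetherianRing R]
    [IsDomain R] [IsIntegrallyClosed R] (h : (2 : WithBot ℕ∞) ≤ ringKrullDim R) :
    HasSeq (IsLocalRing.maximalIdeal R) R 2 := by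
  rcases Groth.Agent.H15.SerreNormal.hasSeq_of_normal R with hbot | ⟨-, h2 | hht⟩
  · exfalso
    have hfield : IsField R := (IsLocalRing.isField_iff_maximalIdeal_eq).mpr hbot
    rw [ringKrullDim_eq_zero_of_isField hfield] at h
    exact absurd h (by decide)
  · exact h2
  · exfalso
    rw [← IsLocalRing.maximalIdeal_height_eq_ringKrullDim] at h
    have h' : (2 : ℕ∞) ≤ (IsLocalRing.maximalIdeal R).height :=
      WithBot.coe_le_coe.mp (show ((2 : ℕ∞) : WithBot ℕ∞) ≤ _ from h)
    exact absurd (h'.trans hht) (by decide)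

end Algebra

section Bridge

open Groth.Agent.H95.ZClos Groth.Agent.H95.TB Groth.Agent.H8

variable {X : Scheme.{u}} {V : X.Opens} (hV : IsAffineOpen V) (F : X.Modules)

set_option backward.isDefEq.respectTransparency false

/-- flatness of the stalk gives flatness of the localisation of the module of sections. -/
theorem flat_localizedModule_of_flat_stalk [F.IsQuasicoherent] (x : X) (hxV : x ∈ V)
    (hfl : Module.Flat (X.presheaf.stalk x) (F.presheaf.stalk x)) :
    Module.Flat (Localization.AtPrime (hV.primeIdealOf ⟨x, hxV⟩).asIdeal)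
      (LocalizedModule (hV.primeIdealOf ⟨x, hxV⟩).asIdeal.primeCompl (N0 hV F)) := by
  letI := X.presheaf.algebra_section_stalk ⟨x, hxV⟩
  haveI := hV.isLocalization_stalk ⟨x, hxV⟩
  letI := moduleSectionStalk F x hxV
  haveI := isScalarTower_sectionStalk F x hxV
  haveI := isLocalizedModule_germₗ F hV x hxV
  haveI : IsLocalizedModule (hV.primeIdealOf ⟨x, hxV⟩).asIdeal.primeCompl
      ((germₗ F x hxV) ∘ₗ (sectionsRestrictEquiv hV F).toLinearMap) :=
    IsLocalizedModule.of_linearEquiv_right _ _ _
  have h1 : Module.Flat Γ(X, V) (F.presheaf.stalk x) :=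
    (Module.flat_iff_of_isLocalization (X.presheaf.stalk x)
      (hV.primeIdealOf ⟨x, hxV⟩).asIdeal.primeCompl _).mp hfl
  let e : LocalizedModule (hV.primeIdealOf ⟨x, hxV⟩).asIdeal.primeCompl (N0 hV F) ≃ₗ[Γ(X, V)]
      F.presheaf.stalk x :=
    IsLocalizedModule.iso _ ((germₗ F x hxV) ∘ₗ (sectionsRestrictEquiv hV F).toLinearMap)
  have h2 : Module.Flat Γ(X, V)
      (LocalizedModule (hV.primeIdealOf ⟨x, hxV⟩).asIdeal.primeCompl (N0 hV F)) :=
    Module.Flat.of_linearEquiv e
  exact (Module.flat_iff_of_isLocalization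
    (Localization.AtPrime (hV.primeIdealOf ⟨x, hxV⟩).asIdeal)
    (hV.primeIdealOf ⟨x, hxV⟩).asIdeal.primeCompl _).mpr h2

variable [IsLocallyNoetherian X]

/-- on a normal locally Noetherian scheme, the localisation of `Γ(X, V)` at a point of
codimension at least two has a regular sequence of length two. -/
theorem hasSeq_atPrime_of_normal (x : X) (hxV : x ∈ V)
    [IsDomain (X.presheaf.stalk x)] [IsIntegrallyClosed (X.presheaf.stalk x)]
    (hdim : (2 : WithBot ℕ∞) ≤ ringKrullDim (X.presheaf.stalk x)) :
    HasSeq (IsLocalRing.maximalIdeal (Localization.AtPrime (hV.primeIdealOf ⟨x, hxV⟩).asIdeal))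
      (Localization.AtPrime (hV.primeIdealOf ⟨x, hxV⟩).asIdeal) 2 := by
  letI := X.presheaf.algebra_section_stalk ⟨x, hxV⟩
  haveI := hV.isLocalization_stalk ⟨x, hxV⟩
  haveI : IsNoetherianRing Γ(X, V) := IsLocallyNoetherian.component_noetherian ⟨V, hV⟩
  let e : X.presheaf.stalk x ≃+* Localization.AtPrime (hV.primeIdealOf ⟨x, hxV⟩).asIdeal :=
    (IsLocalization.algEquiv (hV.primeIdealOf ⟨x, hxV⟩).asIdeal.primeCompl
      (X.presheaf.stalk x) (Localization.AtPrime (hV.primeIdealOf ⟨x, hxV⟩).asIdeal)).toRingEquiv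
  haveI : IsDomain (Localization.AtPrime (hV.primeIdealOf ⟨x, hxV⟩).asIdeal) :=
    e.symm.toMulEquiv.isDomain _
  haveI : IsIntegrallyClosed (Localization.AtPrime (hV.primeIdealOf ⟨x, hxV⟩).asIdeal) :=
    IsIntegrallyClosed.of_equiv e
  apply hasSeq_two_of_normal
  rw [← ringKrullDim_eq_of_ringEquiv e]
  exact hdim

include hV in
/-- affine case: `F(V) → F(V ⊓ U)` is bijective when the localisations of the module of sections
at the points of `V` outside `U` have weakly regular sequences of length two. -/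
theorem res_bijective_affine_of_hasSeq [F.IsQuasicoherent] (U : X.Opens)
    (h : ∀ (x : X) (hxV : x ∈ V), x ∉ U →
      HasSeq (IsLocalRing.maximalIdeal (Localization.AtPrime (hV.primeIdealOf ⟨x, hxV⟩).asIdeal))
        (LocalizedModule (hV.primeIdealOf ⟨x, hxV⟩).asIdeal.primeCompl (N0 hV F)) 2) :
    Function.Bijective (res F U V) := by
  haveI : IsNoetherianRing Γ(X, V) := IsLocallyNoetherian.component_noetherian ⟨V, hV⟩
  let W : (Spec Γ(X, V)).Opens := hV.fromSpec ⁻¹ᵁ U
  let Zc : Set (PrimeSpectrum Γ(X, V)) := (W : Set (Spec Γ(X, V)))ᶜ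
  have hZc_closed : IsClosed Zc := W.isOpen.isClosed_compl
  let J : Ideal Γ(X, V) := PrimeSpectrum.vanishingIdeal Zc
  have hJ : PrimeSpectrum.zeroLocus (J : Set Γ(X, V)) = Zc := by
    rw [PrimeSpectrum.zeroLocus_vanishingIdeal_eq_closure, hZc_closed.closure_eq]
  have hb : Function.Bijective
      (TS.toSec (R := Γ(X, V)) (N0 hV F) (LocCoh.puncturedOpen Γ(X, V) J)) := by
    apply toSec_bijective_of_hasSeq
    intro P hPprime hJP
    let p : PrimeSpectrum Γ(X, V) := ⟨P, hPprime⟩
    have hp : p ∈ Zc := by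
      rw [← hJ]
      exact (PrimeSpectrum.mem_zeroLocus _ _).mpr hJP
    have hxV : hV.fromSpec p ∈ V := by
      have : hV.fromSpec p ∈ Set.range hV.fromSpec := ⟨_, rfl⟩
      rw [hV.range_fromSpec] at this
      exact this
    have hxU : hV.fromSpec p ∉ U := fun hU' => hp hU'
    have hp' : hV.primeIdealOf ⟨hV.fromSpec p, hxV⟩ = p :=
      hV.fromSpec.isOpenEmbedding.injective (hV.fromSpec_primeIdealOf ⟨hV.fromSpec p, hxV⟩)
    have h2 := h _ hxV hxU
    rw [hp'] at h2
    exact h2
  have hW : LocCoh.puncturedOpen Γ(X, V) J = W := by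
    apply Opens.ext
    show (PrimeSpectrum.zeroLocus (J : Set Γ(X, V)))ᶜ = (W : Set (Spec Γ(X, V)))
    rw [hJ]
    exact compl_compl _
  rw [hW] at hb
  have hb2 := (toSec_bijective_iff hV F W).1 hb
  exact (bij_congr₂ F.presheaf (fromSpec_image_top_eq hV) (image_preimage_fromSpec hV U) _ _).1 hb2

end Bridge

section Global

open Groth.Agent.H95.ZClos Groth.Agent.H95.TB Groth.Agent.H8

variable {X : Scheme.{u}} [IsLocallyNoetherian X] (F : X.Modules)

/-- Hartogs for flat quasi-coherent modules on a normal locally Noetherian scheme: affine case. -/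
theorem res_bijective_affine_of_flat (hX : Pi1.IsNormalScheme X) (hF : Coh.IsQCoh F)
    (hfl : FlatMod.IsFlat F) (U : X.Opens)
    (hU : ∀ x : X, ringKrullDim (X.presheaf.stalk x) ≤ 1 → x ∈ U)
    {V : X.Opens} (hV : IsAffineOpen V) : Function.Bijective (res F U V) := by
  haveI : F.IsQuasicoherent := hF
  apply res_bijective_affine_of_hasSeq hV F U
  intro x hxV hxU
  haveI := (hX x).1
  haveI := (hX x).2
  have hdim : (2 : WithBot ℕ∞) ≤ ringKrullDim (X.presheaf.stalk x) := by
    by_contra hlt
    exact hxU (hU x (Groth.Agent.H17.ReflNormal.le_one_of_lt_two (not_le.mp hlt)))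
  haveI := flat_localizedModule_of_flat_stalk hV F x hxV (hfl x)
  exact hasSeq_of_flat _ _ (hasSeq_atPrime_of_normal hV x hxV hdim)

/-- Hartogs for flat quasi-coherent modules on a normal locally Noetherian scheme. -/
theorem res_bijective_of_flat (hX : Pi1.IsNormalScheme X) (hF : Coh.IsQCoh F)
    (hfl : FlatMod.IsFlat F) (U : X.Opens)
    (hU : ∀ x : X, ringKrullDim (X.presheaf.stalk x) ≤ 1 → x ∈ U) (V : X.Opens) :
    Function.Bijective (res F U V) :=
  res_bijective_of_affine F U (fun _ hV' => res_bijective_affine_of_flat F hX hF hfl U hU hV') V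

/-- on a normal locally Noetherian scheme, a flat quasi-coherent module is the direct image of its
restriction to any open containing all points of codimension at most one. -/
theorem isIso_unit_of_flat (hX : Pi1.IsNormalScheme X) (hF : Coh.IsQCoh F)
    (hfl : FlatMod.IsFlat F) (U : X.Opens)
    (hU : ∀ x : X, ringKrullDim (X.presheaf.stalk x) ≤ 1 → x ∈ U) :
    IsIso ((Scheme.Modules.restrictAdjunction U.ι).unit.app F) := by
  rw [Scheme.Modules.Hom.isIso_iff_isIso_app]
  intro W
  have h1 := res_bijective_of_flat F hX hF hfl U hU W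
  have e : W ⊓ U = U.ι ''ᵁ (U.ι ⁻¹ᵁ W) := by
    rw [Scheme.Hom.image_preimage_eq_opensRange_inf, Scheme.Opens.opensRange_ι, inf_comm]
  have hb : Function.Bijective (F.presheaf.map (homOfLE (U.ι.image_preimage_le W)).op) :=
    (bij_congr₂ F.presheaf rfl e (homOfLE inf_le_left)
      (homOfLE (U.ι.image_preimage_le W))).mp h1
  have hi : IsIso (F.presheaf.map (homOfLE (U.ι.image_preimage_le W)).op) :=
    (ConcreteCategory.isIso_iff_bijective _).mpr hb
  exact hi

end Global

end Groth.Agent.H17.FlatHartogs
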