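import Mathlib
import Groth.Prelude.Def_SGA1

/-!
# Retraction onto an open whose translates under a finite group form a disjoint cover
-/

set_option autoImplicit false
universe u
open CategoryTheory CategoryTheory.Limits AlgebraicGeometry

namespace Groth.Agent.H17.FreeSec_C

variable {X : Scheme.{u}} {G : Type u} [Group G]

/-- the translate `(ρ g)⁻¹ U` -/
def V (ρ : G →* Aut X) (U : X.Opens) (g : G) : X.Opens := (ρ g).hom ⁻¹ᵁ U

theorem mem_V (ρ : G →* Aut X) (U : X.Opens) (g : G) (x : X) :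
    x ∈ V ρ U g ↔ (ρ g).hom.base x ∈ U := Iff.rfl

theorem hmul (ρ : G →* Aut X) (a b : G) : (ρ (a * b)).hom = (ρ b).hom ≫ (ρ a).hom := by
  rw [map_mul]
  rfl

theorem hpt (ρ : G →* Aut X) (a b : G) (x : X) :
    (ρ (a * b)).hom.base x = (ρ a).hom.base ((ρ b).hom.base x) := by
  rw [hmul]
  rfl

theorem exists_retraction {X : Scheme.{u}} {G : Type u} [Group G] [Finite G] (ρ : G →* Aut X)
    (U : X.Opens) (hcov : ∀ x : X, ∃ g : G, (ρ g).hom.base x ∈ U)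
    (hdisj : ∀ g : G, g ≠ 1 → ∀ x : X, x ∈ U → (ρ g).hom.base x ∉ U) :
    ∃ t : X ⟶ U.toScheme, U.ι ≫ t = 𝟙 _ ∧ (∀ g : G, (ρ g).hom ≫ t = t) ∧
      ∀ {W : Scheme.{u}} (p : X ⟶ W), (∀ g : G, (ρ g).hom ≫ p = p) → t ≫ U.ι ≫ p = p := by
  classical
  have hV : TopologicalSpace.IsOpenCover (V ρ U) := by
    apply TopologicalSpace.IsOpenCover.mk
    rw [eq_top_iff]
    intro x _
    rw [TopologicalSpace.Opens.mem_iSup]
    exact hcov x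
  have hdisj' : ∀ (g h : G) (x : X), x ∈ V ρ U g → x ∈ V ρ U h → g = h := by
    intro g h x hxg hxh
    by_contra hne
    have h1 : h * g⁻¹ ≠ 1 := fun h1 => hne (mul_inv_eq_one.mp h1).symm
    have h2 := hdisj (h * g⁻¹) h1 ((ρ g).hom.base x) hxg
    rw [← hpt, inv_mul_cancel_right] at h2
    exact h2 hxh
  let 𝒰 : X.OpenCover := X.openCoverOfIsOpenCover (V ρ U) hV
  let tg : ∀ g : G, ((V ρ U g : X.Opens) : Scheme.{u}) ⟶ (U : Scheme.{u}) :=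
    fun g => (ρ g).hom ∣_ U
  have compat : ∀ g h : 𝒰.I₀, pullback.fst (𝒰.f g) (𝒰.f h) ≫ tg g =
      pullback.snd (𝒰.f g) (𝒰.f h) ≫ tg h := by
    intro g h
    by_cases hgh : g = h
    · subst hgh
      have h1 : pullback.fst (𝒰.f g) (𝒰.f g) = pullback.snd (𝒰.f g) (𝒰.f g) := by
        rw [← cancel_mono (𝒰.f g)]
        exact pullback.condition
      rw [h1]
    · have hE : IsEmpty ↑(pullback (𝒰.f g) (𝒰.f h)) := by
        refine ⟨fun z => hgh ?_⟩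
        have hc := congrArg (fun φ : pullback (𝒰.f g) (𝒰.f h) ⟶ X => φ.base z)
          (pullback.condition (f := 𝒰.f g) (g := 𝒰.f h))
        have hxg : (pullback.fst (𝒰.f g) (𝒰.f h) ≫ 𝒰.f g).base z ∈ V ρ U g :=
          ((pullback.fst (𝒰.f g) (𝒰.f h)).base z).2
        have hxh : (pullback.snd (𝒰.f g) (𝒰.f h) ≫ 𝒰.f h).base z ∈ V ρ U h :=
          ((pullback.snd (𝒰.f g) (𝒰.f h)).base z).2
        rw [← hc] at hxh
        exact hdisj' g h _ hxg hxh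
      exact (isInitialOfIsEmpty : IsInitial (pullback (𝒰.f g) (𝒰.f h))).hom_ext _ _
  let t : X ⟶ (U : Scheme.{u}) := 𝒰.glueMorphisms tg compat
  have ht : ∀ g : G, (V ρ U g).ι ≫ t = tg g := fun g => 𝒰.ι_glueMorphisms tg compat g
  have key : ∀ g : G, (V ρ U g).ι ≫ t ≫ U.ι = (V ρ U g).ι ≫ (ρ g).hom := by
    intro g
    rw [← Category.assoc, ht g]
    exact morphismRestrict_ι _ _
  refine ⟨t, ?_, ?_, ?_⟩
  · have h1 : V ρ U 1 = U := by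
      show (ρ 1).hom ⁻¹ᵁ U = U
      rw [map_one]
      rfl
    have h2 : (ρ 1).hom = 𝟙 X := by
      rw [map_one]
      rfl
    have h3 : (X.isoOfEq h1.symm).hom ≫ (V ρ U 1).ι = U.ι := X.isoOfEq_hom_ι h1.symm
    rw [← cancel_mono U.ι, Category.assoc, Category.id_comp]
    calc U.ι ≫ t ≫ U.ι = ((X.isoOfEq h1.symm).hom ≫ (V ρ U 1).ι) ≫ t ≫ U.ι := by rw [h3]
      _ = (X.isoOfEq h1.symm).hom ≫ ((V ρ U 1).ι ≫ t ≫ U.ι) := by rw [Category.assoc]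
      _ = (X.isoOfEq h1.symm).hom ≫ ((V ρ U 1).ι ≫ (ρ 1).hom) := by rw [key 1]
      _ = (X.isoOfEq h1.symm).hom ≫ ((V ρ U 1).ι ≫ 𝟙 X) :=
        congrArg (fun φ => (X.isoOfEq h1.symm).hom ≫ ((V ρ U 1).ι ≫ φ)) h2
      _ = U.ι := by rw [Category.comp_id, h3]
  · intro g
    rw [← cancel_mono U.ι]
    refine Scheme.Cover.hom_ext 𝒰 _ _ (fun (h : G) => ?_)
    change (V ρ U h).ι ≫ ((ρ g).hom ≫ t) ≫ U.ι = (V ρ U h).ι ≫ t ≫ U.ι
    have hr : Set.range ((V ρ U h).ι ≫ (ρ g).hom).base ⊆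
        Set.range (V ρ U (h * g⁻¹)).ι.base := by
      rintro _ ⟨z, rfl⟩
      rw [Scheme.Opens.range_ι]
      show (ρ (h * g⁻¹)).hom.base ((ρ g).hom.base z.1) ∈ U
      rw [← hpt, inv_mul_cancel_right]
      exact z.2
    have e1 : IsOpenImmersion.lift (V ρ U (h * g⁻¹)).ι ((V ρ U h).ι ≫ (ρ g).hom) hr ≫
        (V ρ U (h * g⁻¹)).ι = (V ρ U h).ι ≫ (ρ g).hom := IsOpenImmersion.lift_fac _ _ hr
    calc (V ρ U h).ι ≫ ((ρ g).hom ≫ t) ≫ U.ι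
        = ((V ρ U h).ι ≫ (ρ g).hom) ≫ t ≫ U.ι := by simp only [Category.assoc]
      _ = (IsOpenImmersion.lift (V ρ U (h * g⁻¹)).ι ((V ρ U h).ι ≫ (ρ g).hom) hr ≫
          (V ρ U (h * g⁻¹)).ι) ≫ t ≫ U.ι := by rw [e1]
      _ = IsOpenImmersion.lift (V ρ U (h * g⁻¹)).ι ((V ρ U h).ι ≫ (ρ g).hom) hr ≫
          ((V ρ U (h * g⁻¹)).ι ≫ t ≫ U.ι) := by rw [Category.assoc]
      _ = IsOpenImmersion.lift (V ρ U (h * g⁻¹)).ι ((V ρ U h).ι ≫ (ρ g).hom) hr ≫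
          ((V ρ U (h * g⁻¹)).ι ≫ (ρ (h * g⁻¹)).hom) := by rw [key (h * g⁻¹)]
      _ = (IsOpenImmersion.lift (V ρ U (h * g⁻¹)).ι ((V ρ U h).ι ≫ (ρ g).hom) hr ≫
          (V ρ U (h * g⁻¹)).ι) ≫ (ρ (h * g⁻¹)).hom := by rw [Category.assoc]
      _ = ((V ρ U h).ι ≫ (ρ g).hom) ≫ (ρ (h * g⁻¹)).hom := by rw [e1]
      _ = (V ρ U h).ι ≫ (ρ h).hom := by rw [Category.assoc, ← hmul, inv_mul_cancel_right]
      _ = (V ρ U h).ι ≫ t ≫ U.ι := (key h).symm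
  · intro W p hp
    refine Scheme.Cover.hom_ext 𝒰 _ _ (fun (h : G) => ?_)
    change (V ρ U h).ι ≫ t ≫ U.ι ≫ p = (V ρ U h).ι ≫ p
    calc (V ρ U h).ι ≫ t ≫ U.ι ≫ p = ((V ρ U h).ι ≫ t ≫ U.ι) ≫ p := by
          simp only [Category.assoc]
      _ = ((V ρ U h).ι ≫ (ρ h).hom) ≫ p := by rw [key h]
      _ = (V ρ U h).ι ≫ p := by rw [Category.assoc, hp h]

end Groth.Agent.H17.FreeSec_C
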