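import Groth.Agent.H17.NormalRefl
import Groth.Agent.H17.StalkSeq
import Groth.Agent.H17.ReflNormal
import Groth.Agent.S16081
import Groth.Agent.S16082
import Groth.Agent.S7862
import Groth.Agent.H54.SchemeDim2

/-!
# Morphisms from global sections of the sheaf Hom, specialisation maps, and extension of
generically defined homomorphisms into reflexive modules on normal schemes
-/

set_option autoImplicit false
set_option linter.style.haveILetI false
universe u
open CategoryTheory CategoryTheory.Limits AlgebraicGeometry TopologicalSpace Opposite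

namespace Groth.Agent.H17.HomExtend

open Groth.Agent.H8 Groth.Agent.H17.HomSh

variable {X : Scheme.{u}}

section HomOfSection

variable (F G : X.Modules)

/-- restriction of a global section of the sheaf Hom to an open. -/
noncomputable def resTop (g : Γ(RefHull.homSh F G, ⊤)) (V : X.Opens) :
    Γ(RefHull.homSh F G, V) :=
  (RefHull.homSh F G).presheaf.map (homOfLE (le_top : V ≤ ⊤)).op g

omit F G in
theorem memTop (y : X) : y ∈ (⊤ : X.Opens) := trivial

theorem resTop_apply (g : Γ(RefHull.homSh F G, ⊤)) (V : X.Opens) (y : V) :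
    (resTop F G g V).1 y = g.1 ⟨y.1, memTop y.1⟩ := rfl

/-- the action of a global section of the sheaf Hom on sections over `V`. -/
noncomputable def secFun (g : Γ(RefHull.homSh F G, ⊤)) (V : X.Opens) : Γ(F, V) →+ Γ(G, V) where
  toFun m := fwd F G (le_refl V) (resTop F G g V) m
  map_zero' := fwd_zero F G (le_refl V) (resTop F G g V)
  map_add' := fwd_add F G (le_refl V) (resTop F G g V)

theorem germ_secFun (g : Γ(RefHull.homSh F G, ⊤)) (V : X.Opens) (m : Γ(F, V)) (y : X)
    (hy : y ∈ V) :
    G.presheaf.germ V y hy (secFun F G g V m) = g.1 ⟨y, memTop y⟩ (F.presheaf.germ V y hy m) := by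
  show G.presheaf.germ V y hy (fwd F G (le_refl V) (resTop F G g V) m) = _
  rw [germ_fwd]
  rfl

/-- the morphism of modules defined by a global section of the sheaf Hom. -/
noncomputable def homOfSection (g : Γ(RefHull.homSh F G, ⊤)) : F ⟶ G :=
  ⟨PresheafOfModules.homMk
    { app := fun V => AddCommGrpCat.ofHom (secFun F G g V.unop)
      naturality := fun {U V} i => by
        ext s
        refine section_ext_germ G _ _ (fun y => ?_)
        change G.presheaf.germ V.unop y.1 y.2
            (secFun F G g V.unop (F.presheaf.map i s)) =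
          G.presheaf.germ V.unop y.1 y.2 (G.presheaf.map i (secFun F G g U.unop s))
        have h1 := germ_secFun F G g V.unop (F.presheaf.map i s) y.1 y.2
        have h2 := germ_secFun F G g U.unop s y.1 (leOfHom i.unop y.2)
        have h3 := TopCat.Presheaf.germ_res_apply' G.presheaf i y.1 y.2 (secFun F G g U.unop s)
        have h4 := TopCat.Presheaf.germ_res_apply' F.presheaf i y.1 y.2 s
        exact h1.trans ((congrArg _ h4).trans (h2.symm.trans h3.symm)) }
    (fun U r s => (fwdₗ F G U.unop (resTop F G g U.unop)).map_smul r s)⟩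

theorem homOfSection_app (g : Γ(RefHull.homSh F G, ⊤)) (V : X.Opens) (m : Γ(F, V)) :
    (homOfSection F G g).app V m = secFun F G g V m := rfl

theorem stalkMapₗ_homOfSection (g : Γ(RefHull.homSh F G, ⊤)) (y : X) :
    RefHull.stalkMapₗ (homOfSection F G g) y = g.1 ⟨y, memTop y⟩ := by
  refine LinearMap.ext fun t => ?_
  obtain ⟨V, hyV, m, rfl⟩ := TopCat.Presheaf.exists_germ_eq F.presheaf t
  rw [RefHull.stalkMapₗ_germ, homOfSection_app, germ_secFun]

end HomOfSection

section Specialize

variable (M : X.Modules) {x η : X} (h : η ⤳ x)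

theorem sp_germ {V : X.Opens} (hx : x ∈ V) (m : Γ(M, V)) :
    (M.presheaf.stalkSpecializes h) (M.presheaf.germ V x hx m) =
      M.presheaf.germ V η (h.mem_open V.isOpen hx) m :=
  ConcreteCategory.congr_hom (TopCat.Presheaf.germ_stalkSpecializes M.presheaf hx h) m

omit M in
theorem spO_germ {V : X.Opens} (hx : x ∈ V) (a : Γ(X, V)) :
    (X.presheaf.stalkSpecializes h) (X.presheaf.germ V x hx a) =
      X.presheaf.germ V η (h.mem_open V.isOpen hx) a :=
  ConcreteCategory.congr_hom (TopCat.Presheaf.germ_stalkSpecializes X.presheaf hx h) a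

/-- the specialisation map of a module is semilinear over the specialisation map of the
structure sheaf. -/
theorem sp_smul (r : X.presheaf.stalk x) (v : M.presheaf.stalk x) :
    (M.presheaf.stalkSpecializes h) (r • v) =
      (X.presheaf.stalkSpecializes h) r • (M.presheaf.stalkSpecializes h) v := by
  obtain ⟨U, hxU, a, rfl⟩ := X.presheaf.exists_germ_eq r
  obtain ⟨U', hxU', m₀, rfl⟩ := M.presheaf.exists_germ_eq v
  have hxW : x ∈ U ⊓ U' := ⟨hxU, hxU'⟩
  rw [← X.presheaf.germ_res_apply (homOfLE (inf_le_left : U ⊓ U' ≤ U)) x hxW a,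
    ← M.presheaf.germ_res_apply (homOfLE (inf_le_right : U ⊓ U' ≤ U')) x hxW m₀,
    ← germ_smul M x hxW, sp_germ, sp_germ, spO_germ, germ_smul]

theorem sp_add (v w : M.presheaf.stalk x) :
    (M.presheaf.stalkSpecializes h) (v + w) =
      (M.presheaf.stalkSpecializes h) v + (M.presheaf.stalkSpecializes h) w :=
  map_add _ v w

variable {M} in
/-- stalk maps of morphisms commute with specialisation. -/
theorem sp_stalkMapₗ {N : X.Modules} (φ : M ⟶ N) (v : M.presheaf.stalk x) :
    RefHull.stalkMapₗ φ η ((M.presheaf.stalkSpecializes h) v) =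
      (N.presheaf.stalkSpecializes h) (RefHull.stalkMapₗ φ x v) := by
  obtain ⟨U, hxU, m, rfl⟩ := M.presheaf.exists_germ_eq v
  rw [sp_germ, RefHull.stalkMapₗ_germ, RefHull.stalkMapₗ_germ, sp_germ]

/-- evaluation of germs of the sheaf Hom commutes with specialisation. -/
theorem evalStalk_sp (N : X.Modules) (θ : (RefHull.homSh M N).presheaf.stalk x)
    (v : M.presheaf.stalk x) :
    RefHull.evalStalk M N η (((RefHull.homSh M N).presheaf.stalkSpecializes h) θ)
        ((M.presheaf.stalkSpecializes h) v) =
      (N.presheaf.stalkSpecializes h) (RefHull.evalStalk M N x θ v) := by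
  obtain ⟨U, hxU, g, rfl⟩ := (RefHull.homSh M N).presheaf.exists_germ_eq θ
  obtain ⟨U', hxU', m, rfl⟩ := M.presheaf.exists_germ_eq v
  have hxW : x ∈ U ⊓ U' := ⟨hxU, hxU'⟩
  have hηW : η ∈ U ⊓ U' := h.mem_open (U ⊓ U').isOpen hxW
  rw [← (RefHull.homSh M N).presheaf.germ_res_apply (homOfLE (inf_le_left : U ⊓ U' ≤ U)) x hxW g,
    ← M.presheaf.germ_res_apply (homOfLE (inf_le_right : U ⊓ U' ≤ U')) x hxW m,
    sp_germ, sp_germ, RefHull.evalStalk_germ, RefHull.evalStalk_germ]
  have h1 := germ_fwd M N (le_refl (U ⊓ U'))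
    ((RefHull.homSh M N).presheaf.map (homOfLE (inf_le_left : U ⊓ U' ≤ U)).op g)
    (M.presheaf.map (homOfLE (inf_le_right : U ⊓ U' ≤ U')).op m) η hηW
  have h2 := germ_fwd M N (le_refl (U ⊓ U'))
    ((RefHull.homSh M N).presheaf.map (homOfLE (inf_le_left : U ⊓ U' ≤ U)).op g)
    (M.presheaf.map (homOfLE (inf_le_right : U ⊓ U' ≤ U')).op m) x hxW
  rw [← h1, ← h2, sp_germ]

end Specialize

section Integral

variable [IsIntegral X] (M : X.Modules) [M.IsQuasicoherent]

/-- on an integral scheme, the specialisation map from a stalk of a torsion-free quasi-coherent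
module to the generic stalk is injective. -/
theorem sp_injective (hM : TorSh.IsTorsionFree M) (x : X) (h : genericPoint X ⤳ x) :
    Function.Injective (M.presheaf.stalkSpecializes h) := by
  rw [injective_iff_map_eq_zero]
  intro v hv
  obtain ⟨V, hxV, m, rfl⟩ := M.presheaf.exists_germ_eq v
  rw [sp_germ] at hv
  obtain ⟨W, hWV, hηW, hW⟩ := exists_res_eq_zero_of_germ_eq_zero (genericPoint X) M
    (h.mem_open V.isOpen hxV) m hv
  have hm : m = 0 := by
    apply Groth.Agent.H17.ReflNormal.res_injective_of_isTorsionFree M hM hWV hηW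
    rw [hW, map_zero]
  rw [hm, map_zero]

/-- linear maps out of the generic stalk of a quasi-coherent module are determined by their values
on the image of any stalk. -/
theorem stalkHom_ext_sp (N : X.Modules) {x η : X} (h : η ⤳ x) (f f' : RefHull.StalkHom M N η)
    (hf : ∀ v : M.presheaf.stalk x, f ((M.presheaf.stalkSpecializes h) v) =
      f' ((M.presheaf.stalkSpecializes h) v)) : f = f' := by
  obtain ⟨_, ⟨V, hV, rfl⟩, hxV, -⟩ := X.isBasis_affineOpens.exists_subset_of_mem_open
    (Set.mem_univ x) isOpen_univ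
  replace hV : IsAffineOpen V := hV
  refine stalkHom_ext M N hV η (h.mem_open V.isOpen hxV) f f' (fun m => ?_)
  have := hf (M.presheaf.germ V x hxV m)
  rwa [sp_germ] at this

end Integral

section Algebra

/-- over a principal ideal domain, the evaluation map of a finite module into its double dual is
surjective. -/
theorem dual_eval_surjective_of_pid (R M : Type*) [CommRing R] [IsDomain R]
    [IsPrincipalIdealRing R] [AddCommGroup M] [Module R M] [Module.Finite R M] :
    Function.Surjective (Module.Dual.eval R M) := by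
  classical
  let T := Submodule.torsion R M
  haveI : Module.Free R (M ⧸ T) := Module.free_of_finite_type_torsion_free'
  -- every linear form kills the torsion
  have hkill : ∀ (f : Module.Dual R M) (t : M), t ∈ T → f t = 0 := by
    intro f t ht
    obtain ⟨a, ha⟩ := (Submodule.mem_torsion_iff t).mp ht
    have ha' : (a : R) • t = 0 := ha
    have h1 : (a : R) • f t = 0 := by rw [← map_smul, ha', map_zero]
    rcases smul_eq_zero.mp h1 with h2 | h2
    · exact absurd h2 (nonZeroDivisors.coe_ne_zero a)
    · exact h2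
  intro φ
  -- the induced element of the bidual of the quotient
  let φ' : Module.Dual R (Module.Dual R (M ⧸ T)) :=
    φ.comp (LinearMap.lcomp R R T.mkQ)
  obtain ⟨w, hw⟩ := (Module.bijective_dual_eval R (M ⧸ T)).2 φ'
  obtain ⟨v, rfl⟩ := T.mkQ_surjective w
  refine ⟨v, ?_⟩
  ext f
  have hf : T ≤ LinearMap.ker f := fun t ht => hkill f t ht
  have h1 : f = (T.liftQ f hf).comp T.mkQ := (T.liftQ_mkQ f hf).symm
  have h2 := LinearMap.congr_fun hw (T.liftQ f hf)
  rw [Module.Dual.eval_apply] at h2
  rw [Module.Dual.eval_apply]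
  have h3 : φ' (T.liftQ f hf) = φ ((T.liftQ f hf).comp T.mkQ) := rfl
  rw [h3, ← h1] at h2
  rw [← h2]
  rfl

/-- surjective version of `ReflSheaf.bijective_iff_dual_eval`. -/
theorem surjective_of_dual_eval {R M Ox D : Type*} [CommRing R] [AddCommGroup M] [Module R M]
    [AddCommGroup Ox] [Module R Ox] [AddCommGroup D] [Module R D]
    (ι : R ≃ₗ[R] Ox) (e₁ : D ≃ₗ[R] (M →ₗ[R] Ox)) (B : M →ₗ[R] (D →ₗ[R] Ox))
    (hB : ∀ v θ, B v θ = e₁ θ v) (h : Function.Surjective (Module.Dual.eval R M)) :
    Function.Surjective B := by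
  let α : Module.Dual R M ≃ₗ[R] D := (LinearEquiv.congrRight ι) ≪≫ₗ e₁.symm
  let Ψ : (D →ₗ[R] Ox) ≃ₗ[R] Module.Dual R (Module.Dual R M) :=
    LinearEquiv.arrowCongr α.symm ι.symm
  have h0 : ∀ v, Ψ (B v) = Module.Dual.eval R M v := by
    intro v
    refine LinearMap.ext fun φ => ?_
    change ι.symm (B v (α φ)) = φ v
    rw [hB]
    change ι.symm (e₁ (e₁.symm (LinearEquiv.congrRight ι φ)) v) = φ v
    rw [LinearEquiv.apply_symm_apply]
    change ι.symm (ι (φ v)) = φ v
    exact ι.symm_apply_apply _
  intro b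
  obtain ⟨v, hv⟩ := h (Ψ b)
  exact ⟨v, Ψ.injective ((h0 v).trans hv)⟩

end Algebra

section BidualSurj

variable [IsLocallyNoetherian X] (F : X.Modules)

open Groth.Agent.H17.ReflSheaf in
/-- at a point whose local ring is a principal ideal domain, the biduality map of a coherent module
is surjective on stalks. -/
theorem stalkMap_bidualMap_surjective_of_pid (hF : Coh.IsCoh F) (x : X)
    [IsDomain (X.presheaf.stalk x)] [IsPrincipalIdealRing (X.presheaf.stalk x)] :
    Function.Surjective (RefHull.stalkMapₗ (RefHull.bidualMap F) x) := by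
  haveI := isFP_of_isCoh F hF
  haveI := isFP_of_isCoh _ (isCoh_dual F hF)
  have he₁ : Function.Bijective (RefHull.evalStalk F (Coh.structureModule X) x) :=
    ⟨evalStalk_injective F _ x, evalStalk_surjective F _ x⟩
  have he₂ : Function.Bijective
      (RefHull.evalStalk (RefHull.dual F) (Coh.structureModule X) x) :=
    ⟨evalStalk_injective _ _ x, evalStalk_surjective _ _ x⟩
  let ι : X.presheaf.stalk x ≃ₗ[X.presheaf.stalk x] (Coh.structureModule X).presheaf.stalk x :=
    LinearEquiv.ofBijective (Groth.Agent.H2.ConnComp.L X x) (Groth.Agent.H2.ConnComp.L_bijective X x)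
  haveI : Module.Finite (X.presheaf.stalk x) (F.presheaf.stalk x) := finite_stalk_of_isCoh F hF x
  have key := surjective_of_dual_eval ι (LinearEquiv.ofBijective _ he₁) (RefHull.bidualAt F x)
    (fun v θ => rfl) (dual_eval_surjective_of_pid _ _)
  intro w
  obtain ⟨v, hv⟩ := key (RefHull.evalStalk (RefHull.dual F) (Coh.structureModule X) x w)
  refine ⟨v, he₂.1 ?_⟩
  rw [← hv]
  exact evalStalk_stalkMap F x v

end BidualSurj

section Extend

variable [IsIntegral X]

/-- a point of an integral scheme other than the generic point whose local ring has dimension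
less than two has a local ring of dimension one. -/
theorem dim_eq_one_of_lt_two (x : X) (hx : x ≠ genericPoint X)
    (hdim : ringKrullDim (X.presheaf.stalk x) < 2) : ringKrullDim (X.presheaf.stalk x) = 1 := by
  have hspec : genericPoint X ⤳ x := (genericPoint_spec X).specializes (Set.mem_univ x)
  have hlt : x < genericPoint X := (Groth.Agent.H54.scheme_lt_iff _ _).mpr ⟨hspec, hx⟩
  have h1 := Order.coheight_add_one_le hlt
  rw [ringKrullDim_stalk_eq_coheight] at hdim ⊢
  have h2 : Order.coheight x < 2 :=
    WithBot.coe_lt_coe.mp (show ((Order.coheight x : ℕ∞) : WithBot ℕ∞) <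
      ((2 : ℕ∞) : WithBot ℕ∞) from hdim)
  have h3 : Order.coheight x ≤ 1 := by
    have h6 : (2 : ℕ∞) = 1 + 1 := by norm_num
    rw [h6] at h2
    exact (ENat.lt_add_one_iff (by simp)).mp h2
  have h4 : (1 : ℕ∞) ≤ Order.coheight x := le_trans (by simp) h1
  have h5 : Order.coheight x = 1 := le_antisymm h3 h4
  rw [h5]
  rfl

/-- two sections of a torsion-free quasi-coherent module on an integral scheme with the same germ
at the generic point have the same germs everywhere. -/
theorem germ_eq_of_germ_generic_eq (H : X.Modules) [H.IsQuasicoherent]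
    (htf : TorSh.IsTorsionFree H) {V V' : X.Opens} (hηV : genericPoint X ∈ V)
    (hηV' : genericPoint X ∈ V') (g : Γ(H, V)) (g' : Γ(H, V'))
    (h : H.presheaf.germ V (genericPoint X) hηV g = H.presheaf.germ V' (genericPoint X) hηV' g')
    (y : X) (hy : y ∈ V) (hy' : y ∈ V') :
    H.presheaf.germ V y hy g = H.presheaf.germ V' y hy' g' := by
  obtain ⟨W, hηW, iV, iV', heq⟩ := TopCat.Presheaf.germ_eq H.presheaf _ hηV hηV' g g' h
  have hWVV : W ≤ V ⊓ V' := le_inf (leOfHom iV) (leOfHom iV')
  have key : H.presheaf.map (homOfLE (inf_le_left : V ⊓ V' ≤ V)).op g =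
      H.presheaf.map (homOfLE (inf_le_right : V ⊓ V' ≤ V')).op g' := by
    apply Groth.Agent.H17.ReflNormal.res_injective_of_isTorsionFree H htf hWVV hηW
    have e1 : (homOfLE (inf_le_left : V ⊓ V' ≤ V)).op ≫ (homOfLE hWVV).op = iV.op := rfl
    have e2 : (homOfLE (inf_le_right : V ⊓ V' ≤ V')).op ≫ (homOfLE hWVV).op = iV'.op := rfl
    rw [← ConcreteCategory.comp_apply, ← ConcreteCategory.comp_apply, ← H.presheaf.map_comp,
      ← H.presheaf.map_comp, e1, e2]
    exact heq
  rw [← H.presheaf.germ_res_apply (homOfLE (inf_le_left : V ⊓ V' ≤ V)) y ⟨hy, hy'⟩ g,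
    ← H.presheaf.germ_res_apply (homOfLE (inf_le_right : V ⊓ V' ≤ V')) y ⟨hy, hy'⟩ g', key]

variable [IsLocallyNoetherian X]

open Groth.Agent.H17.ReflSheaf in
/-- **Extension of generically defined homomorphisms.** On a normal integral locally Noetherian
scheme, a linear map of generic stalks `G_η → F'_η` with `F'` reflexive coherent which maps `G_x`
into `F'_x` for all points `x` of codimension one is the generic stalk of a morphism `G ⟶ F'`. -/
theorem exists_hom_of_codim_one (hX : Pi1.IsNormalScheme X) (G F' : X.Modules)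
    (hG : Coh.IsCoh G) (hF' : Coh.IsCoh F') (hF'r : RefHull.IsReflexive F')
    (T' : RefHull.StalkHom G F' (genericPoint X))
    (hT' : ∀ x : X, ringKrullDim (X.presheaf.stalk x) = 1 → ∀ (h : genericPoint X ⤳ x)
      (v : G.presheaf.stalk x), ∃ w : F'.presheaf.stalk x,
        T' ((G.presheaf.stalkSpecializes h) v) = (F'.presheaf.stalkSpecializes h) w) :
    ∃ ψ : G ⟶ F', RefHull.stalkMapₗ ψ (genericPoint X) = T' := by
  classical
  haveI : G.IsQuasicoherent := hG.1
  haveI : F'.IsQuasicoherent := hF'.1
  haveI := isFP_of_isCoh G hG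
  have hHc : Coh.IsCoh (RefHull.homSh G F') := isCoh_homSh G F' hG hF'
  have hHr : RefHull.IsReflexive (RefHull.homSh G F') :=
    Groth.Agent.S16081.result X G F' hG hF' hF'r
  have htfF' : TorSh.IsTorsionFree F' := fun x => by
    haveI : Module.IsReflexive (X.presheaf.stalk x) (F'.presheaf.stalk x) :=
      isReflexiveAt_of_isReflexive F' hF' hF'r x
    exact Groth.Agent.H17.NormalRefl.isTorsionFree_of_isReflexive
  have htfH : TorSh.IsTorsionFree (RefHull.homSh G F') :=
    Groth.Agent.S16082.result X G F' hG.1 (isFP_of_isCoh G hG) hF'.1 htfF'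
  haveI : (RefHull.homSh G F').IsQuasicoherent := hHc.1
  obtain ⟨θ, hθ⟩ := evalStalk_surjective G F' (genericPoint X) T'
  -- local sections near each point of codimension at most one
  have hloc : ∀ x : X, ringKrullDim (X.presheaf.stalk x) < 2 →
      ∃ (V : X.Opens) (_ : x ∈ V) (hηV : genericPoint X ∈ V) (g : Γ(RefHull.homSh G F', V)),
        (RefHull.homSh G F').presheaf.germ V (genericPoint X) hηV g = θ := by
    intro x hdim
    by_cases hxη : x = genericPoint X
    · obtain ⟨V, hηV, g, hg⟩ := (RefHull.homSh G F').presheaf.exists_germ_eq θ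
      exact ⟨V, hxη ▸ hηV, hηV, g, hg⟩
    · have hd1 := dim_eq_one_of_lt_two x hxη hdim
      have hsp : genericPoint X ⤳ x := (genericPoint_spec X).specializes (Set.mem_univ x)
      choose wf hwf using hT' x hd1 hsp
      have hinjF := sp_injective F' htfF' x hsp
      let hx : RefHull.StalkHom G F' x :=
        { toFun := wf
          map_add' := fun v w => by
            apply hinjF
            rw [sp_add, ← hwf, ← hwf, ← hwf, sp_add, map_add]
          map_smul' := fun r v => by
            apply hinjF
            rw [RingHom.id_apply, sp_smul, ← hwf, ← hwf, sp_smul, map_smul] }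
      obtain ⟨θx, hθx⟩ := evalStalk_surjective G F' x hx
      have hsp_θ : ((RefHull.homSh G F').presheaf.stalkSpecializes hsp) θx = θ := by
        apply evalStalk_injective G F' (genericPoint X)
        rw [hθ]
        apply stalkHom_ext_sp G F' hsp
        intro v
        rw [evalStalk_sp, hθx]
        exact (hwf v).symm
      obtain ⟨V, hxV, g, rfl⟩ := (RefHull.homSh G F').presheaf.exists_germ_eq θx
      refine ⟨V, hxV, hsp.mem_open V.isOpen hxV, g, ?_⟩
      rw [← hsp_θ, sp_germ]
  choose Vf hxVf hηVf gf hgf using hloc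
  -- the open set of definition
  let U : X.Opens := ⨆ (p : {x : X // ringKrullDim (X.presheaf.stalk x) < 2}), Vf p.1 p.2
  have hmemU : ∀ y : X, y ∈ U ↔ ∃ (x : X) (hx : ringKrullDim (X.presheaf.stalk x) < 2),
      y ∈ Vf x hx := by
    intro y
    constructor
    · intro hy
      obtain ⟨p, hp⟩ := Opens.mem_iSup.mp hy
      exact ⟨p.1, p.2, hp⟩
    · rintro ⟨x, hx, hy⟩
      exact Opens.mem_iSup.mpr ⟨⟨x, hx⟩, hy⟩
  have hUle : ∀ (x : X) (hx : ringKrullDim (X.presheaf.stalk x) < 2), Vf x hx ≤ U :=
    fun x hx y hy => (hmemU y).mpr ⟨x, hx, hy⟩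
  have hlowU : ∀ (x : X), ringKrullDim (X.presheaf.stalk x) < 2 → x ∈ U :=
    fun x hx => (hmemU x).mpr ⟨x, hx, hxVf x hx⟩
  -- the family of germs
  have hchoice : ∀ y : U, ∃ (x : X) (hx : ringKrullDim (X.presheaf.stalk x) < 2),
      y.1 ∈ Vf x hx := fun y => (hmemU y.1).mp y.2
  choose cx chx cmem using hchoice
  obtain ⟨gU, hgU⟩ := exists_section_of_germs (RefHull.homSh G F') U
    (fun y => (RefHull.homSh G F').presheaf.germ (Vf (cx y) (chx y)) y.1 (cmem y)
      (gf (cx y) (chx y)))
    (fun y => ⟨Vf (cx y) (chx y), cmem y, hUle _ _, gf (cx y) (chx y), fun z =>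
      germ_eq_of_germ_generic_eq _ htfH (hηVf _ _) (hηVf _ _) _ _
        ((hgf _ _).trans (hgf _ _).symm) z.1 z.2 (cmem ⟨z.1, hUle _ _ z.2⟩)⟩)
  -- the generic point lies in U, and the germ there is θ
  have hdimη : ringKrullDim (X.presheaf.stalk (genericPoint X)) < 2 := by
    haveI : Field (X.presheaf.stalk (genericPoint X)) :=
      inferInstanceAs (Field X.functionField)
    rw [ringKrullDim_eq_zero_of_field]
    norm_num
  have hηU : genericPoint X ∈ U := hlowU _ hdimη
  have hgUη : (RefHull.homSh G F').presheaf.germ U (genericPoint X) hηU gU = θ := by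
    rw [hgU ⟨genericPoint X, hηU⟩]
    exact hgf _ _
  -- Hartogs extension
  have hbij := Groth.Agent.H17.Hartogs.map_bijective_of_depth (RefHull.homSh G F') hHc
    (le_top : U ≤ ⊤) (fun x _ hx =>
      Groth.Agent.H17.NormalRefl.two_le_depth_stalk_of_normal hX _ hHc x
        (isReflexiveAt_of_isReflexive _ hHc hHr x)
        (not_lt.mp (fun hlt => hx (hlowU x hlt))))
  obtain ⟨g, hg⟩ := hbij.2 gU
  refine ⟨homOfSection G F' g, ?_⟩
  rw [stalkMapₗ_homOfSection, ← hθ, ← hgUη, ← hg,
    (RefHull.homSh G F').presheaf.germ_res_apply (homOfLE (le_top : U ≤ ⊤)) (genericPoint X) hηU g,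
    RefHull.evalStalk_germ]

end Extend

end Groth.Agent.H17.HomExtend
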