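import Groth.Agent.H17.HomSh

/-!
# Sections of the sheaf Hom over an open `U` define morphisms of the restricted modules
-/

set_option autoImplicit false
set_option linter.style.haveILetI false
universe u
open CategoryTheory CategoryTheory.Limits AlgebraicGeometry TopologicalSpace Opposite

namespace Groth.Agent.H17.HomRestrict

open Groth.Agent.H8 Groth.Agent.H17.HomSh

variable {X : Scheme.{u}} (F G : X.Modules) {U : X.Opens}

/-- restriction of a section of the sheaf Hom to a smaller open. -/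
noncomputable def resTo (g : Γ(RefHull.homSh F G, U)) (V : X.Opens) (h : V ≤ U) :
    Γ(RefHull.homSh F G, V) :=
  (RefHull.homSh F G).presheaf.map (homOfLE h).op g

theorem resTo_apply (g : Γ(RefHull.homSh F G, U)) (V : X.Opens) (h : V ≤ U) (y : V) :
    (resTo F G g V h).1 y = g.1 ⟨y.1, h y.2⟩ := rfl

/-- the action of a section of the sheaf Hom over `U` on sections over `V ≤ U`. -/
noncomputable def secFunOn (g : Γ(RefHull.homSh F G, U)) (V : X.Opens) (h : V ≤ U) :
    Γ(F, V) →+ Γ(G, V) where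
  toFun m := fwd F G (le_refl V) (resTo F G g V h) m
  map_zero' := fwd_zero F G (le_refl V) (resTo F G g V h)
  map_add' := fwd_add F G (le_refl V) (resTo F G g V h)

theorem germ_secFunOn (g : Γ(RefHull.homSh F G, U)) (V : X.Opens) (h : V ≤ U) (m : Γ(F, V))
    (y : X) (hy : y ∈ V) :
    G.presheaf.germ V y hy (secFunOn F G g V h m) =
      g.1 ⟨y, h hy⟩ (F.presheaf.germ V y hy m) := by
  show G.presheaf.germ V y hy (fwd F G (le_refl V) (resTo F G g V h) m) = _
  rw [germ_fwd]
  rfl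

theorem secFunOn_smul (g : Γ(RefHull.homSh F G, U)) (V : X.Opens) (h : V ≤ U) (r : Γ(X, V))
    (m : Γ(F, V)) : secFunOn F G g V h (r • m) = r • secFunOn F G g V h m :=
  (fwdₗ F G V (resTo F G g V h)).map_smul r m

theorem image_le (V : (U : Scheme.{u}).Opens) : U.ι ''ᵁ V ≤ U := by
  rintro _ ⟨z, -, rfl⟩
  exact z.2

/-- the morphism of restricted modules defined by a section of the sheaf Hom over `U`. -/
noncomputable def homOfSectionOn (g : Γ(RefHull.homSh F G, U)) :
    (Scheme.Modules.restrictFunctor U.ι).obj F ⟶ (Scheme.Modules.restrictFunctor U.ι).obj G :=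
  ⟨PresheafOfModules.homMk
    { app := fun V => AddCommGrpCat.ofHom (secFunOn F G g (U.ι ''ᵁ V.unop) (image_le V.unop))
      naturality := fun {V₁ V₂} i => by
        ext s
        refine section_ext_germ G _ _ (fun y => ?_)
        change G.presheaf.germ (U.ι ''ᵁ V₂.unop) y.1 y.2
            (secFunOn F G g (U.ι ''ᵁ V₂.unop) (image_le V₂.unop)
              (F.presheaf.map (U.ι.opensFunctor.map i.unop).op s)) =
          G.presheaf.germ (U.ι ''ᵁ V₂.unop) y.1 y.2
            (G.presheaf.map (U.ι.opensFunctor.map i.unop).op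
              (secFunOn F G g (U.ι ''ᵁ V₁.unop) (image_le V₁.unop) s))
        have hy1 : y.1 ∈ U.ι ''ᵁ V₁.unop := (U.ι.image_mono (leOfHom i.unop)) y.2
        have h1 := germ_secFunOn F G g (U.ι ''ᵁ V₂.unop) (image_le V₂.unop)
          (F.presheaf.map (U.ι.opensFunctor.map i.unop).op s) y.1 y.2
        have h2 := germ_secFunOn F G g (U.ι ''ᵁ V₁.unop) (image_le V₁.unop) s y.1 hy1
        have h3 := TopCat.Presheaf.germ_res_apply G.presheaf (U.ι.opensFunctor.map i.unop) y.1 y.2
          (secFunOn F G g (U.ι ''ᵁ V₁.unop) (image_le V₁.unop) s)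
        have h4 := TopCat.Presheaf.germ_res_apply F.presheaf (U.ι.opensFunctor.map i.unop) y.1 y.2 s
        exact h1.trans ((congrArg _ h4).trans (h2.symm.trans h3.symm)) }
    (fun V r s => secFunOn_smul F G g (U.ι ''ᵁ V.unop) (image_le V.unop)
      ((U.ι.appIso V.unop).inv r) s)⟩

theorem homOfSectionOn_app (g : Γ(RefHull.homSh F G, U)) (V : (U : Scheme.{u}).Opens)
    (m : Γ(F, U.ι ''ᵁ V)) :
    (homOfSectionOn F G g).app V m = secFunOn F G g (U.ι ''ᵁ V) (image_le V) m := rfl

/-- the stalk map of `homOfSectionOn` at a point of `U`, transported to the stalks of `F` and `G`,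
is the value of the section of the sheaf Hom at that point (elementwise form). -/
theorem stalk_homOfSectionOn_apply (g : Γ(RefHull.homSh F G, U)) (x : X) (hx : x ∈ U)
    (t : F.presheaf.stalk x) :
    ((Scheme.Modules.restrictStalkNatIso U.ι (⟨x, hx⟩ : U)).hom.app G)
      (((TopCat.Presheaf.stalkFunctor _ (⟨x, hx⟩ : U)).map (homOfSectionOn F G g).mapPresheaf)
        (((Scheme.Modules.restrictStalkNatIso U.ι (⟨x, hx⟩ : U)).inv.app F) t)) =
      g.1 ⟨x, hx⟩ t := by
  obtain ⟨W, hxW, m, rfl⟩ := F.presheaf.exists_germ_eq t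
  obtain ⟨V, hV⟩ : ∃ V : (U : Scheme.{u}).Opens, V = U.ι ⁻¹ᵁ W := ⟨_, rfl⟩
  have hyV : (⟨x, hx⟩ : U) ∈ V := by rw [hV]; exact hxW
  have hle : U.ι ''ᵁ V ≤ W := by
    rw [hV]
    rintro _ ⟨z, hz, rfl⟩
    exact hz
  have hxV' : x ∈ U.ι ''ᵁ V := ⟨⟨x, hx⟩, hyV, rfl⟩
  obtain ⟨m', hm'⟩ : ∃ m' : Γ(F, U.ι ''ᵁ V), m' = F.presheaf.map (homOfLE hle).op m := ⟨_, rfl⟩
  have e0 : F.presheaf.germ W x hxW m = F.presheaf.germ (U.ι ''ᵁ V) x hxV' m' := by
    rw [hm', TopCat.Presheaf.germ_res_apply]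
  have ea := ConcreteCategory.congr_hom
    (Scheme.Modules.germ_restrictStalkNatIso_inv_app U.ι (⟨x, hx⟩ : U) F (U := V) hyV) m'
  have eb := TopCat.Presheaf.stalkFunctor_map_germ_apply V (⟨x, hx⟩ : U) hyV
    (homOfSectionOn F G g).mapPresheaf m'
  have ec := ConcreteCategory.congr_hom
    (Scheme.Modules.germ_restrictStalkNatIso_hom_app U.ι (⟨x, hx⟩ : U) G (U := V) hyV)
    (secFunOn F G g (U.ι ''ᵁ V) (image_le V) m')
  have ed := germ_secFunOn F G g (U.ι ''ᵁ V) (image_le V) m' x hxV'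
  rw [e0]
  simp only at ea ec
  erw [ea, eb]
  erw [ec]
  exact ed

theorem stalk_homOfSectionOn (g : Γ(RefHull.homSh F G, U)) (x : X) (hx : x ∈ U) :
    (Scheme.Modules.restrictStalkNatIso U.ι (⟨x, hx⟩ : U)).inv.app F ≫
      (TopCat.Presheaf.stalkFunctor _ (⟨x, hx⟩ : U)).map (homOfSectionOn F G g).mapPresheaf ≫
        (Scheme.Modules.restrictStalkNatIso U.ι (⟨x, hx⟩ : U)).hom.app G =
      AddCommGrpCat.ofHom (g.1 ⟨x, hx⟩).toAddMonoidHom := by
  ext t
  exact stalk_homOfSectionOn_apply F G g x hx t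

end Groth.Agent.H17.HomRestrict
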