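import Mathlib
import Groth.Agent.H99.IrrBNA

set_option autoImplicit false
universe u
open TensorProduct

namespace Groth.Agent.H17.IrrBN

noncomputable section

/-- monomial with exponent vector `c`. -/
def mon {r : ℕ} (e : ℕ) (c : Fin r → Fin (e + 1)) : Fin r →₀ ℕ :=
  Finsupp.equivFunOnFinite.symm (fun t => (c t : ℕ))

@[simp] lemma mon_apply {r : ℕ} (e : ℕ) (c : Fin r → Fin (e + 1)) (t : Fin r) :
    mon e c t = (c t : ℕ) := rfl

lemma sum_monomial_coeff {R : Type*} [CommSemiring R] {r : ℕ} (e : ℕ)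
    (q : MvPolynomial (Fin r) R) (hq : q.totalDegree ≤ e) :
    ∑ c : Fin r → Fin (e + 1), MvPolynomial.monomial (mon e c) (q.coeff (mon e c)) = q := by
  classical
  ext m'
  rw [MvPolynomial.coeff_sum]
  simp only [MvPolynomial.coeff_monomial]
  by_cases hm : ∀ t, m' t ≤ e
  · have hc0 : mon e (fun t => (⟨m' t, Nat.lt_succ_of_le (hm t)⟩ : Fin (e + 1))) = m' := by
      ext t; simp
    rw [Finset.sum_eq_single (fun t => (⟨m' t, Nat.lt_succ_of_le (hm t)⟩ : Fin (e + 1)))]
    · rw [if_pos hc0, hc0]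
    · intro c _ hc
      rw [if_neg]
      intro h
      apply hc
      funext t
      apply Fin.ext
      simp [← h]
    · intro h; exact absurd (Finset.mem_univ _) h
  · push_neg at hm
    obtain ⟨t, ht⟩ := hm
    have h0 : q.coeff m' = 0 := by
      by_contra h
      have hmem : m' ∈ q.support := MvPolynomial.mem_support_iff.mpr h
      have h1 := MvPolynomial.monomial_le_degreeOf t hmem
      have h2 := MvPolynomial.degreeOf_le_totalDegree q t
      omega
    rw [h0]
    apply Finset.sum_eq_zero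
    intro c _
    split_ifs with h
    · rw [h, h0]
    · rfl

/-- generic monic polynomial of degree `n`, coefficients of `x`-degree `≤ e` in each variable. -/
def gen {R : Type*} [CommRing R] {r : ℕ} (e n : ℕ) (u : Fin n × (Fin r → Fin (e + 1)) → R) :
    Polynomial (MvPolynomial (Fin r) R) :=
  Polynomial.X ^ n + ∑ i : Fin n, Polynomial.C (∑ c : Fin r → Fin (e + 1),
    MvPolynomial.monomial (mon e c) (u (i, c))) * Polynomial.X ^ (i : ℕ)

lemma gen_monic {R : Type*} [CommRing R] {r : ℕ} (e n : ℕ)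
    (u : Fin n × (Fin r → Fin (e + 1)) → R) : (gen e n u).Monic :=
  Polynomial.monic_X_pow_add (Polynomial.degree_sum_fin_lt _)

lemma gen_natDegree {R : Type*} [CommRing R] [Nontrivial R] {r : ℕ} (e n : ℕ)
    (u : Fin n × (Fin r → Fin (e + 1)) → R) : (gen e n u).natDegree = n := by
  unfold gen
  rw [Polynomial.natDegree_add_eq_left_of_degree_lt, Polynomial.natDegree_X_pow]
  rw [Polynomial.degree_X_pow]
  exact Polynomial.degree_sum_fin_lt _

lemma gen_map {R R' : Type*} [CommRing R] [CommRing R'] {r : ℕ} (e n : ℕ)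
    (u : Fin n × (Fin r → Fin (e + 1)) → R) (f : R →+* R') :
    (gen e n u).map (MvPolynomial.map f) = gen e n (fun p => f (u p)) := by
  simp only [gen, Polynomial.map_add, Polynomial.map_pow, Polynomial.map_X, Polynomial.map_sum,
    Polynomial.map_mul, Polynomial.map_C, map_sum, MvPolynomial.map_monomial]

lemma gen_eq_of_monic {R : Type*} [CommRing R] {r : ℕ} (e : ℕ)
    (G : Polynomial (MvPolynomial (Fin r) R)) (hG : G.Monic)
    (hdeg : ∀ i, (G.coeff i).totalDegree ≤ e) :
    gen e G.natDegree (fun p => (G.coeff (p.1 : ℕ)).coeff (mon e p.2)) = G := by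
  unfold gen
  conv_rhs => rw [hG.as_sum]
  congr 1
  rw [Finset.sum_range]
  refine Finset.sum_congr rfl (fun i _ => ?_)
  have h := sum_monomial_coeff e (G.coeff (i : ℕ)) (hdeg i)
  show Polynomial.C (∑ c : Fin r → Fin (e + 1),
    MvPolynomial.monomial (mon e c) ((G.coeff (i : ℕ)).coeff (mon e c))) * Polynomial.X ^ (i : ℕ) = _
  rw [h]

section Univ

variable {A : Type u} [CommRing A] {r : ℕ} (e d1 d2 : ℕ)
  (F : Polynomial (MvPolynomial (Fin r) A))

/-- index type of the unknown coefficients. -/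
abbrev J (r e d1 d2 : ℕ) : Type :=
  (Fin d1 × (Fin r → Fin (e + 1))) ⊕ (Fin d2 × (Fin r → Fin (e + 1)))

/-- the equations `G * H - F`. -/
def DD : Polynomial (MvPolynomial (Fin r) (MvPolynomial (J r e d1 d2) A)) :=
  gen e d1 (fun p => (MvPolynomial.X (Sum.inl p) : MvPolynomial (J r e d1 d2) A)) *
    gen e d2 (fun p => (MvPolynomial.X (Sum.inr p) : MvPolynomial (J r e d1 d2) A)) -
    F.map (MvPolynomial.map (algebraMap A (MvPolynomial (J r e d1 d2) A)))

/-- the ideal of equations. -/
def bb : Ideal (MvPolynomial (J r e d1 d2) A) :=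
  Ideal.span (Set.range (fun p : ℕ × (Fin r →₀ ℕ) => ((DD e d1 d2 F).coeff p.1).coeff p.2))

/-- the universal algebra of factorizations. -/
abbrev CC : Type u := MvPolynomial (J r e d1 d2) A ⧸ bb e d1 d2 F

lemma key {K : Type u} [CommRing K] [Algebra A K] (ψ : MvPolynomial (J r e d1 d2) A →ₐ[A] K) :
    (bb e d1 d2 F ≤ RingHom.ker (ψ : MvPolynomial (J r e d1 d2) A →+* K)) ↔
      gen e d1 (fun p => ψ (MvPolynomial.X (Sum.inl p))) *
        gen e d2 (fun p => ψ (MvPolynomial.X (Sum.inr p))) =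
        F.map (MvPolynomial.map (algebraMap A K)) := by
  have hcomp : (MvPolynomial.map (ψ : MvPolynomial (J r e d1 d2) A →+* K)).comp
      (MvPolynomial.map (algebraMap A (MvPolynomial (J r e d1 d2) A))) =
      (MvPolynomial.map (algebraMap A K) : MvPolynomial (Fin r) A →+* MvPolynomial (Fin r) K) := by
    refine RingHom.ext (fun p => ?_)
    rw [RingHom.comp_apply, MvPolynomial.map_map, ψ.comp_algebraMap]
  have hΨ : (DD e d1 d2 F).map (MvPolynomial.map (ψ : MvPolynomial (J r e d1 d2) A →+* K)) =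
      gen e d1 (fun p => ψ (MvPolynomial.X (Sum.inl p))) *
        gen e d2 (fun p => ψ (MvPolynomial.X (Sum.inr p))) -
        F.map (MvPolynomial.map (algebraMap A K)) := by
    unfold DD
    rw [Polynomial.map_sub, Polynomial.map_mul, gen_map, gen_map, Polynomial.map_map, hcomp]
    rfl
  rw [bb, Ideal.span_le]
  constructor
  · intro h
    rw [← sub_eq_zero, ← hΨ]
    ext k m
    rw [Polynomial.coeff_map, MvPolynomial.coeff_map]
    simp only [Polynomial.coeff_zero, MvPolynomial.coeff_zero]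
    exact h ⟨(k, m), rfl⟩
  · intro h
    rintro _ ⟨⟨k, m⟩, rfl⟩
    have h1 : (DD e d1 d2 F).map (MvPolynomial.map (ψ : MvPolynomial (J r e d1 d2) A →+* K)) = 0 := by
      rw [hΨ, h, sub_self]
    have h2 := congrArg (fun P => (P.coeff k).coeff m) h1
    simp only [Polynomial.coeff_map, MvPolynomial.coeff_map, Polynomial.coeff_zero,
      MvPolynomial.coeff_zero] at h2
    exact h2

lemma exists_factorization_of_point {K : Type u} [Field K] [Algebra A K]
    (χ : CC e d1 d2 F →ₐ[A] K) :
    ∃ G H : Polynomial (MvPolynomial (Fin r) K), G.Monic ∧ H.Monic ∧ G.natDegree = d1 ∧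
      H.natDegree = d2 ∧ G * H = F.map (MvPolynomial.map (algebraMap A K)) := by
  let ψ : MvPolynomial (J r e d1 d2) A →ₐ[A] K := χ.comp (Ideal.Quotient.mkₐ A (bb e d1 d2 F))
  refine ⟨gen e d1 _, gen e d2 _, gen_monic _ _ _, gen_monic _ _ _, gen_natDegree _ _ _,
    gen_natDegree _ _ _, (key e d1 d2 F ψ).mp ?_⟩
  intro x hx
  rw [RingHom.mem_ker]
  show χ (Ideal.Quotient.mk _ x) = 0
  rw [Ideal.Quotient.eq_zero_iff_mem.mpr hx, map_zero]

lemma exists_point_of_factorization {K : Type u} [Field K] [Algebra A K]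
    (G H : Polynomial (MvPolynomial (Fin r) K)) (hG : G.Monic) (hH : H.Monic)
    (hGd : G.natDegree = d1) (hHd : H.natDegree = d2)
    (hGe : ∀ i, (G.coeff i).totalDegree ≤ e) (hHe : ∀ i, (H.coeff i).totalDegree ≤ e)
    (hGH : G * H = F.map (MvPolynomial.map (algebraMap A K))) :
    Nonempty (CC e d1 d2 F →ₐ[A] K) := by
  subst hGd hHd
  let ψ : MvPolynomial (J r e G.natDegree H.natDegree) A →ₐ[A] K :=
    MvPolynomial.aeval (Sum.elim (fun p => (G.coeff (p.1 : ℕ)).coeff (mon e p.2))
      (fun p => (H.coeff (p.1 : ℕ)).coeff (mon e p.2)))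
  have h : bb e _ _ F ≤ RingHom.ker (ψ : MvPolynomial (J r e G.natDegree H.natDegree) A →+* K) := by
    rw [key]
    simp only [ψ, MvPolynomial.aeval_X, Sum.elim_inl, Sum.elim_inr]
    rw [gen_eq_of_monic e G hG hGe, gen_eq_of_monic e H hH hHe, hGH]
  exact ⟨Ideal.Quotient.liftₐ _ ψ (fun x hx => h hx)⟩

end Univ

lemma exists_algHom_of_nontrivial (Ω : Type u) [Field Ω] [IsAlgClosed Ω] (B : Type u) [CommRing B]
    [Algebra Ω B] [Algebra.FiniteType Ω B] [Nontrivial B] : Nonempty (B →ₐ[Ω] Ω) := by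
  obtain ⟨m, hm⟩ := Ideal.exists_maximal B
  letI : Field (B ⧸ m) := Ideal.Quotient.field m
  haveI : Algebra.FiniteType Ω (B ⧸ m) :=
    Algebra.FiniteType.of_surjective (Ideal.Quotient.mkₐ Ω m) (Ideal.Quotient.mkₐ_surjective Ω m)
  haveI : Module.Finite Ω (B ⧸ m) := finite_of_finite_type_of_isJacobsonRing Ω (B ⧸ m)
  have hs : Function.Surjective (algebraMap Ω (B ⧸ m)) :=
    (IsAlgClosed.algebraMap_bijective_of_isIntegral (k := Ω) (K := B ⧸ m)).2
  let eq : Ω ≃ₐ[Ω] (B ⧸ m) := AlgEquiv.ofBijective (Algebra.ofId Ω (B ⧸ m))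
    ⟨(algebraMap Ω (B ⧸ m)).injective, hs⟩
  exact ⟨(eq.symm : (B ⧸ m) →ₐ[Ω] Ω).comp (Ideal.Quotient.mkₐ Ω m)⟩

lemma nontrivial_tensor_of_injective {A Ω C : Type u} [CommRing A] [IsDomain A] [Field Ω]
    [Algebra A Ω] (hinj : Function.Injective (algebraMap A Ω)) [CommRing C] [Algebra A C]
    (hC : Function.Injective (algebraMap A C)) : Nontrivial (Ω ⊗[A] C) := by
  letI : Algebra (FractionRing A) Ω := (IsFractionRing.lift hinj).toAlgebra
  haveI : IsScalarTower A (FractionRing A) Ω :=
    IsScalarTower.of_algebraMap_eq (fun x => (IsFractionRing.lift_algebraMap hinj x).symm)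
  haveI : Module.Flat A Ω := Module.Flat.trans A (FractionRing A) Ω
  have h1 : Function.Injective ((Algebra.linearMap A C).lTensor Ω) :=
    Module.Flat.lTensor_preserves_injective_linearMap _ hC
  have h2 : Function.Injective (fun w : Ω => w ⊗ₜ[A] (1 : C)) := by
    have : (fun w : Ω => w ⊗ₜ[A] (1 : C)) =
        ((Algebra.linearMap A C).lTensor Ω) ∘ (TensorProduct.rid A Ω).symm := by
      funext w; simp
    rw [this]; exact h1.comp (TensorProduct.rid A Ω).symm.injective
  exact ⟨⟨(0 : Ω) ⊗ₜ 1, (1 : Ω) ⊗ₜ 1, fun h => zero_ne_one (h2 h)⟩⟩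

lemma totalDegree_map_le' {R S σ : Type*} [CommSemiring R] [CommSemiring S] (f : R →+* S)
    (p : MvPolynomial σ R) : (MvPolynomial.map f p).totalDegree ≤ p.totalDegree :=
  Finset.sup_mono (MvPolynomial.support_map_subset f p)

lemma exists_ne_zero_algebraMap_eq_zero {A : Type u} [CommRing A] [IsDomain A] {r : ℕ}
    (e d1 d2 : ℕ) (F : Polynomial (MvPolynomial (Fin r) A))
    {Ω : Type u} [Field Ω] [IsAlgClosed Ω] [Algebra A Ω]
    (hinj : Function.Injective (algebraMap A Ω))
    (hirr : Irreducible ((F.map (MvPolynomial.map (algebraMap A Ω))).map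
      (algebraMap (MvPolynomial (Fin r) Ω) (FractionRing (MvPolynomial (Fin r) Ω)))))
    (h1 : 1 ≤ d1) (h2 : 1 ≤ d2) :
    ∃ a : A, a ≠ 0 ∧ algebraMap A (CC e d1 d2 F) a = 0 := by
  by_contra hcon
  push_neg at hcon
  have hCinj : Function.Injective (algebraMap A (CC e d1 d2 F)) :=
    (injective_iff_map_eq_zero _).mpr (fun a ha => by
      by_contra hne
      exact hcon a hne ha)
  haveI := nontrivial_tensor_of_injective hinj hCinj
  haveI : Algebra.FiniteType A (CC e d1 d2 F) :=
    Algebra.FiniteType.of_surjective (Ideal.Quotient.mkₐ A (bb e d1 d2 F))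
      (Ideal.Quotient.mkₐ_surjective A _)
  haveI : Algebra.FiniteType Ω (Ω ⊗[A] CC e d1 d2 F) := inferInstance
  obtain ⟨χΩ⟩ := exists_algHom_of_nontrivial Ω (Ω ⊗[A] CC e d1 d2 F)
  let χ : CC e d1 d2 F →ₐ[A] Ω :=
    (χΩ.restrictScalars A).comp Algebra.TensorProduct.includeRight
  obtain ⟨G, H, hG, hH, hGd, hHd, hGH⟩ := exists_factorization_of_point e d1 d2 F χ
  rw [← hGH, Polynomial.map_mul] at hirr
  rcases hirr.isUnit_or_isUnit rfl with hu | hu
  · have h0 := Polynomial.natDegree_eq_zero_of_isUnit hu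
    rw [hG.natDegree_map] at h0
    omega
  · have h0 := Polynomial.natDegree_eq_zero_of_isUnit hu
    rw [hH.natDegree_map] at h0
    omega

/-- (BN) Bertini–Noether. -/
theorem bertini_noether {A : Type u} [CommRing A] [IsDomain A] {r : ℕ}
    (F : Polynomial (MvPolynomial (Fin r) A)) (hF : F.Monic)
    {Ω : Type u} [Field Ω] [IsAlgClosed Ω] [Algebra A Ω]
    (hinj : Function.Injective (algebraMap A Ω))
    (hirr : Irreducible ((F.map (MvPolynomial.map (algebraMap A Ω))).map
      (algebraMap (MvPolynomial (Fin r) Ω) (FractionRing (MvPolynomial (Fin r) Ω))))) :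
    ∃ a : A, a ≠ 0 ∧ ∀ (K : Type u) [Field K] [Algebra A K], algebraMap A K a ≠ 0 →
      Irreducible ((F.map (MvPolynomial.map (algebraMap A K))).map
        (algebraMap (MvPolynomial (Fin r) K) (FractionRing (MvPolynomial (Fin r) K)))) := by
  classical
  set d := F.natDegree with hd
  set e := (Finset.range (d + 1)).sup (fun i => (F.coeff i).totalDegree) with he_def
  have he : ∀ i, (F.coeff i).totalDegree ≤ e := by
    intro i
    by_cases hi : i ≤ d
    · exact Finset.le_sup (f := fun i => (F.coeff i).totalDegree)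
        (Finset.mem_range.mpr (Nat.lt_succ_of_le hi))
    · rw [Polynomial.coeff_eq_zero_of_natDegree_lt (not_le.mp hi), MvPolynomial.totalDegree_zero]
      exact Nat.zero_le _
  have hd1 : 1 ≤ d := by
    by_contra h
    have h0 : F.natDegree = 0 := by omega
    have hF1 : F = 1 := hF.natDegree_eq_zero.mp h0
    rw [hF1] at hirr
    simp only [Polynomial.map_one] at hirr
    exact hirr.not_isUnit isUnit_one
  have step1 : ∀ p : ℕ × ℕ, 1 ≤ p.1 → 1 ≤ p.2 →
      ∃ a : A, a ≠ 0 ∧ algebraMap A (CC e p.1 p.2 F) a = 0 :=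
    fun p h1 h2 => exists_ne_zero_algebraMap_eq_zero e p.1 p.2 F hinj hirr h1 h2
  let a : ℕ × ℕ → A := fun p =>
    if h : 1 ≤ p.1 ∧ 1 ≤ p.2 then (step1 p h.1 h.2).choose else 1
  refine ⟨∏ p ∈ Finset.HasAntidiagonal.antidiagonal d, a p, ?_, ?_⟩
  · rw [Finset.prod_ne_zero_iff]
    intro p _
    simp only [a]
    split_ifs with h
    · exact (step1 p h.1 h.2).choose_spec.1
    · exact one_ne_zero
  · intro K _ _ haK
    by_contra hK
    set FK := F.map (MvPolynomial.map (algebraMap A K)) with hFK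
    have hFKm : FK.Monic := hF.map _
    have hFKd : FK.natDegree = d := hF.natDegree_map _
    have heK : ∀ i, (FK.coeff i).totalDegree ≤ e := by
      intro i
      rw [hFK, Polynomial.coeff_map]
      exact (totalDegree_map_le' _ _).trans (he i)
    obtain ⟨G, H, hG, hH, hG1, hH1, hGH, hGe, hHe⟩ :=
      Groth.Agent.H99.IrrBNA.exists_monic_factorization_of_not_irreducible FK hFKm
        (by omega) e heK hK
    have hsum : G.natDegree + H.natDegree = d := by
      rw [← hFKd, ← hGH, hG.natDegree_mul hH]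
    obtain ⟨χ⟩ := exists_point_of_factorization e G.natDegree H.natDegree F G H hG hH rfl rfl
      hGe hHe hGH
    have hmem : (G.natDegree, H.natDegree) ∈ Finset.HasAntidiagonal.antidiagonal d :=
      Finset.HasAntidiagonal.mem_antidiagonal.mpr hsum
    apply haK
    rw [map_prod]
    apply Finset.prod_eq_zero hmem
    have hap : a (G.natDegree, H.natDegree) =
        (step1 (G.natDegree, H.natDegree) hG1 hH1).choose := dif_pos ⟨hG1, hH1⟩
    rw [hap]
    have h0 := (step1 (G.natDegree, H.natDegree) hG1 hH1).choose_spec.2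
    have h3 := χ.commutes ((step1 (G.natDegree, H.natDegree) hG1 hH1).choose)
    rw [h0, map_zero] at h3
    exact h3.symm

end

end Groth.Agent.H17.IrrBN
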