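import Groth.Agent.H17.FlatHartogs
import Groth.Agent.H31.MVShriek
import Groth.Agent.H8.StalkExact
import Groth.Agent.H8.SuppClosed
import Groth.Agent.H8.CohKerCoker

/-!
# Morphisms of flat quasi-coherent modules on normal schemes which are isomorphisms in codimension
at most one are isomorphisms
-/

set_option autoImplicit false
set_option linter.style.haveILetI false
universe u
open CategoryTheory CategoryTheory.Limits AlgebraicGeometry TopologicalSpace Opposite

namespace Groth.Agent.H17.IsoCodimOne

variable {X : Scheme.{u}} [IsLocallyNoetherian X]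

/-- on a normal locally Noetherian scheme, a morphism of flat quasi-coherent modules which is an
isomorphism over an open containing all points of codimension at most one is an isomorphism. -/
theorem isIso_of_isIso_restrict (hX : Pi1.IsNormalScheme X) {M N : X.Modules}
    (hM : Coh.IsQCoh M) (hMfl : FlatMod.IsFlat M) (hN : Coh.IsQCoh N) (hNfl : FlatMod.IsFlat N)
    (φ : M ⟶ N) (U : X.Opens)
    (hU : ∀ x : X, ringKrullDim (X.presheaf.stalk x) ≤ 1 → x ∈ U)
    (h : IsIso ((Scheme.Modules.restrictFunctor U.ι).map φ)) : IsIso φ := by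
  haveI := Groth.Agent.H17.FlatHartogs.isIso_unit_of_flat M hX hM hMfl U hU
  haveI := Groth.Agent.H17.FlatHartogs.isIso_unit_of_flat N hX hN hNfl U hU
  have nat := (Scheme.Modules.restrictAdjunction U.ι).unit.naturality φ
  have e : φ = (Scheme.Modules.restrictAdjunction U.ι).unit.app M ≫
      (Scheme.Modules.pushforward U.ι).map ((Scheme.Modules.restrictFunctor U.ι).map φ) ≫
      inv ((Scheme.Modules.restrictAdjunction U.ι).unit.app N) := by
    rw [← Category.assoc, IsIso.eq_comp_inv]
    exact nat
  rw [e]
  infer_instance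

set_option backward.isDefEq.respectTransparency false in
/-- on a normal locally Noetherian scheme, a morphism between flat quasi-coherent modules, the
target of finite type, which is bijective on stalks at all points of codimension at most one is an
isomorphism. -/
theorem isIso_of_stalk_bijective (hX : Pi1.IsNormalScheme X) {M N : X.Modules}
    (hM : Coh.IsQCoh M) (hMfl : FlatMod.IsFlat M) (hN : Coh.IsQCoh N) (hNfl : FlatMod.IsFlat N)
    [SheafOfModules.IsFiniteType (R := X.ringCatSheaf) N]
    (φ : M ⟶ N) [Mono φ]
    (h : ∀ x : X, ringKrullDim (X.presheaf.stalk x) ≤ 1 →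
      Subsingleton ((cokernel φ).presheaf.stalk x)) : IsIso φ := by
  haveI : SheafOfModules.IsFiniteType (R := X.ringCatSheaf) (cokernel φ) :=
    Groth.Agent.H8.isFiniteType_of_epi (cokernel.π φ)
  have hcl := Groth.Agent.H8.isClosed_support_of_isFiniteType (M := cokernel φ)
  let U : X.Opens := ⟨{x : X | ¬ Subsingleton ↑((cokernel φ).presheaf.stalk x)}ᶜ, hcl.isOpen_compl⟩
  have hmemU : ∀ x : X, x ∈ U ↔ Subsingleton ↑((cokernel φ).presheaf.stalk x) := fun x => by
    show x ∈ {x : X | ¬ Subsingleton ↑((cokernel φ).presheaf.stalk x)}ᶜ ↔ _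
    rw [Set.mem_compl_iff, Set.mem_setOf_eq, not_not]
  refine isIso_of_isIso_restrict hX hM hMfl hN hNfl φ U (fun x hx => (hmemU x).mpr (h x hx)) ?_
  apply Groth.Agent.H31.MVS.isIso_restrict_of_stalks
  intro x hx
  have hinj : Function.Injective (Groth.Agent.H8.stalkMap φ x) := by
    rw [Groth.Agent.H8.stalkMap_injective_iff]
    have hz : IsZero (kernel φ) := isZero_kernel_of_mono φ
    exact Groth.Agent.H8.subsingleton_stalk_of_isZero _ hz x
  have hsurj : Function.Surjective (Groth.Agent.H8.stalkMap φ x) := by
    rw [Groth.Agent.H8.stalkMap_surjective_iff]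
    exact (hmemU x).mp hx
  exact (ConcreteCategory.isIso_iff_bijective _).mpr ⟨hinj, hsurj⟩

end Groth.Agent.H17.IsoCodimOne
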