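import Mathlib.RingTheory.Ideal.KrullsHeightTheorem
import Mathlib.RingTheory.Ideal.MinimalPrime.Noetherian
import Mathlib.RingTheory.Spectrum.Prime.Noetherian
import Mathlib.Topology.JacobsonSpace
import Mathlib.Topology.NoetherianSpace

/-!
# Complement of a closed set meeting all closed sets is Jacobson (locally Noetherian spectral case)

* `exists_prime_gt_notMem`: in a Noetherian ring, if `p < q < q'` are primes and `f ∉ p`, there is
  a prime `r > p` with `f ∉ r`.
* `jacobsonSpace_compl`: for a `T0` space locally given by spectra of Noetherian rings and a closed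
  subset `Y` meeting every nonempty closed subset, the complement of `Y` is a Jacobson space.
-/

set_option autoImplicit false
universe u v

namespace Groth.Agent.H17.JacobsonCompl

open Topology

/-- domain version -/
theorem domain_no_chain {D : Type u} [CommRing D] [IsDomain D] [IsNoetherianRing D] {f : D}
    (hf : f ≠ 0) (hall : ∀ q : Ideal D, q.IsPrime → q ≠ ⊥ → f ∈ q) {q q' : Ideal D}
    (hq : q.IsPrime) (hq' : q'.IsPrime) (hq0 : q ≠ ⊥) (hlt : q < q') : False := by
  classical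
  have hfin : (Ideal.span {f}).minimalPrimes.Finite :=
    Ideal.finite_minimalPrimes_of_isNoetherianRing D _
  -- a nonzero prime inside a prime of height ≤ 1 equals it
  have heq : ∀ P Q : Ideal D, P.IsPrime → Q.IsPrime → P ≠ ⊥ → P ≤ Q → Q.height ≤ 1 → P = Q := by
    intro P Q hP hQ hP0 hPQ hQht
    by_contra hne
    have hlt' : P < Q := lt_of_le_of_ne hPQ hne
    have h1 : P.height < (1 : ℕ) :=
      (Ideal.height_le_iff (p := Q) (n := 1)).mp (by exact_mod_cast hQht) P hP hlt'
    have h2 : P.height = 0 := by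
      have : P.height < 1 := by exact_mod_cast h1
      exact ENat.lt_one_iff_eq_zero.mp this
    exact hP0 (Ideal.height_eq_zero_iff_eq_bot.mp h2)
  have hq'0 : q' ≠ ⊥ := fun h => by rw [h] at hlt; exact not_lt_bot hlt
  have hminP : ∀ P ∈ (Ideal.span {f}).minimalPrimes, P.IsPrime ∧ P ≠ ⊥ ∧ P.height ≤ 1 := by
    intro P hP
    have hfP : f ∈ P := hP.1.2 (Ideal.mem_span_singleton_self f)
    refine ⟨hP.1.1, fun h => hf ?_, ?_⟩
    · rw [h] at hfP; exact (Ideal.mem_bot).mp hfP
    · exact Ideal.height_le_one_of_isPrincipal_of_mem_minimalPrimes (Ideal.span {f}) P hP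
  have hcover : (q' : Set D) ⊆ ⋃ P ∈ (hfin.toFinset : Set (Ideal D)), (P : Set D) := by
    intro a ha
    by_cases ha0 : a = 0
    · obtain ⟨P, hP, -⟩ := Ideal.exists_minimalPrimes_le
        (show Ideal.span {f} ≤ q' from
          (Ideal.span_singleton_le_iff_mem _).mpr (hall q' hq' hq'0))
      refine Set.mem_biUnion (show P ∈ (hfin.toFinset : Set (Ideal D)) by simpa using hP) ?_
      rw [ha0]; exact P.zero_mem
    · obtain ⟨Q, hQ, -⟩ := Ideal.exists_minimalPrimes_le
        (show Ideal.span {a} ≤ q' from (Ideal.span_singleton_le_iff_mem _).mpr ha)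
      have hQprime : Q.IsPrime := hQ.1.1
      have haQ : a ∈ Q := hQ.1.2 (Ideal.mem_span_singleton_self a)
      have hQ0 : Q ≠ ⊥ := fun h => ha0 (by rw [h] at haQ; exact (Ideal.mem_bot).mp haQ)
      have hfQ : f ∈ Q := hall Q hQprime hQ0
      obtain ⟨P, hP, hPle⟩ := Ideal.exists_minimalPrimes_le
        (show Ideal.span {f} ≤ Q from (Ideal.span_singleton_le_iff_mem _).mpr hfQ)
      obtain ⟨hPprime, hP0, -⟩ := hminP P hP
      have hQht : Q.height ≤ 1 :=
        Ideal.height_le_one_of_isPrincipal_of_mem_minimalPrimes (Ideal.span {a}) Q hQ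
      have hPQ : P = Q := heq P Q hPprime hQprime hP0 hPle hQht
      refine Set.mem_biUnion (show P ∈ (hfin.toFinset : Set (Ideal D)) by simpa using hP) ?_
      rw [hPQ]; exact haQ
  obtain ⟨P, hP, hle⟩ := (Ideal.subset_union_prime (f := fun P : Ideal D => P) ⊥ ⊥
    (fun P hP _ _ => (hminP P (hfin.mem_toFinset.mp hP)).1)).mp hcover
  obtain ⟨hPprime, -, hPht⟩ := hminP P (hfin.mem_toFinset.mp hP)
  have hqP : q = P := heq q P hq hPprime hq0 (hlt.le.trans hle) hPht
  exact absurd (hqP ▸ hle) (not_le_of_gt hlt)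

/-- In a Noetherian ring, if `p < q < q'` are primes and `f ∉ p`, there is a prime `r > p` with
`f ∉ r` (otherwise `R/p` would have dimension `≤ 1` above `p`). -/
theorem exists_prime_gt_notMem {R : Type u} [CommRing R] [IsNoetherianRing R] {p q q' : Ideal R}
    (hp : p.IsPrime) (hq : q.IsPrime) (hq' : q'.IsPrime) (h1 : p < q) (h2 : q < q') {f : R}
    (hf : f ∉ p) : ∃ r : Ideal R, r.IsPrime ∧ p < r ∧ f ∉ r := by
  by_contra hno
  push Not at hno
  have hsurj : Function.Surjective (Ideal.Quotient.mk p) := Ideal.Quotient.mk_surjective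
  have hker : RingHom.ker (Ideal.Quotient.mk p) = p := Ideal.mk_ker
  have hcm : ∀ I : Ideal R, p ≤ I → Ideal.comap (Ideal.Quotient.mk p) (Ideal.map (Ideal.Quotient.mk p) I) = I := by
    intro I hI
    rw [Ideal.comap_map_of_surjective _ hsurj, ← RingHom.ker_eq_comap_bot, hker, sup_eq_left.mpr hI]
  have hf' : Ideal.Quotient.mk p f ≠ 0 := fun h => hf (Ideal.Quotient.eq_zero_iff_mem.mp h)
  have hqbar : (Ideal.map (Ideal.Quotient.mk p) q).IsPrime :=
    Ideal.map_isPrime_of_surjective hsurj (hker.trans_le h1.le)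
  have hq'bar : (Ideal.map (Ideal.Quotient.mk p) q').IsPrime :=
    Ideal.map_isPrime_of_surjective hsurj (hker.trans_le (h1.le.trans h2.le))
  refine domain_no_chain (D := R ⧸ p) hf' ?_ hqbar hq'bar ?_ ?_
  · intro Q hQ hQ0
    have hr : (Ideal.comap (Ideal.Quotient.mk p) Q).IsPrime := Ideal.comap_isPrime _ Q
    have hple : p ≤ Ideal.comap (Ideal.Quotient.mk p) Q := by
      refine hker.symm.le.trans ?_
      rw [RingHom.ker_eq_comap_bot]; exact Ideal.comap_mono bot_le
    have hpne : p ≠ Ideal.comap (Ideal.Quotient.mk p) Q := by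
      intro h
      apply hQ0
      rw [← Ideal.map_comap_of_surjective _ hsurj Q, ← h, Ideal.map_quotient_self]
    exact hno _ hr (lt_of_le_of_ne hple hpne)
  · intro h
    have := hcm q h1.le
    rw [h, ← RingHom.ker_eq_comap_bot, hker] at this
    exact absurd this.symm.le (not_le_of_gt h1)
  · refine lt_of_le_of_ne (Ideal.map_mono h2.le) (fun h => ?_)
    have e1 := hcm q h1.le
    have e2 := hcm q' (h1.le.trans h2.le)
    rw [h, e2] at e1
    exact absurd e1.le (not_le_of_gt h2)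

/-- Main topological statement. -/
theorem jacobsonSpace_compl {X : Type v} [TopologicalSpace X] [T0Space X]
    (hloc : ∀ x : X, ∃ (R : Type u) (_ : CommRing R) (_ : IsNoetherianRing R)
      (φ : PrimeSpectrum R → X), IsOpenEmbedding φ ∧ x ∈ Set.range φ)
    (Y : Set X) (hY : IsClosed Y)
    (hmeet : ∀ Z : Set X, IsClosed Z → Z.Nonempty → (Z ∩ Y).Nonempty) :
    JacobsonSpace ↥(Yᶜ) := by
  -- Step A
  have hP : ∀ c t t' : X, c ⤳ t → t ⤳ t' → c ≠ t → t ≠ t' → ∀ W : Set X, IsOpen W → c ∈ W →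
      ∃ z ∈ W, c ⤳ z ∧ z ≠ c := by
    intro c t t' hct htt' hne1 hne2 W hW hcW
    obtain ⟨R, _, _, φ, hφ, ⟨pt', rfl⟩⟩ := hloc t'
    obtain ⟨pt, rfl⟩ : t ∈ Set.range φ := htt'.mem_open hφ.isOpen_range ⟨pt', rfl⟩
    obtain ⟨pc, rfl⟩ : c ∈ Set.range φ := hct.mem_open hφ.isOpen_range ⟨pt, rfl⟩
    rw [hφ.isInducing.specializes_iff, ← PrimeSpectrum.le_iff_specializes] at hct htt'
    have hlt1 : pc.asIdeal < pt.asIdeal :=
      lt_of_le_of_ne hct (fun h => hne1 (congrArg φ (PrimeSpectrum.ext h)))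
    have hlt2 : pt.asIdeal < pt'.asIdeal :=
      lt_of_le_of_ne htt' (fun h => hne2 (congrArg φ (PrimeSpectrum.ext h)))
    obtain ⟨_, ⟨f, rfl⟩, hpcf, hfW⟩ :=
      PrimeSpectrum.isTopologicalBasis_basic_opens.exists_subset_of_mem_open
        (show pc ∈ φ ⁻¹' W from hcW) (hW.preimage hφ.continuous)
    obtain ⟨r, hr, hpr, hfr⟩ := exists_prime_gt_notMem pc.2 pt.2 pt'.2 hlt1 hlt2
      ((PrimeSpectrum.mem_basicOpen f pc).mp hpcf)
    refine ⟨φ ⟨r, hr⟩, hfW ((PrimeSpectrum.mem_basicOpen f ⟨r, hr⟩).mpr hfr), ?_, ?_⟩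
    · rw [hφ.isInducing.specializes_iff, ← PrimeSpectrum.le_iff_specializes]
      exact hpr.le
    · intro h
      have := hφ.injective h
      exact absurd (congrArg PrimeSpectrum.asIdeal this).le (not_le_of_gt hpr)
  rw [jacobsonSpace_iff_locallyClosed]
  intro Z hZne hZlc
  have hUopen : IsOpen (Yᶜ : Set X) := hY.isOpen_compl
  have hZ'lc : IsLocallyClosed (Subtype.val '' Z : Set X) :=
    hZlc.image IsInducing.subtypeVal (by rw [Subtype.range_coe]; exact hUopen.isLocallyClosed)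
  obtain ⟨z0, hz0⟩ := hZne
  obtain ⟨R, _, _, φ, hφ, hzφ⟩ := hloc z0.1
  have hVopen : IsOpen (Set.range φ) := hφ.isOpen_range
  obtain ⟨W', F, hW', hF, hWF⟩ := hZ'lc.inter hVopen.isLocallyClosed
  have hcomp : IsCompact ((Subtype.val '' Z : Set X) ∩ Set.range φ) := by
    have h : (Subtype.val '' Z : Set X) ∩ Set.range φ =
        φ '' (φ ⁻¹' ((Subtype.val '' Z : Set X) ∩ Set.range φ)) := by
      rw [Set.image_preimage_eq_inter_range, Set.inter_assoc, Set.inter_self]
    rw [h]
    exact (TopologicalSpace.NoetherianSpace.isCompact _).image hφ.continuous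
  have hcs : CompactSpace ↥((Subtype.val '' Z : Set X) ∩ Set.range φ) :=
    isCompact_iff_compactSpace.mp hcomp
  have hne : (Set.univ : Set ↥((Subtype.val '' Z : Set X) ∩ Set.range φ)).Nonempty :=
    ⟨⟨z0.1, ⟨z0, hz0, rfl⟩, hzφ⟩, trivial⟩
  obtain ⟨c, -, hc⟩ := IsClosed.exists_closed_singleton isClosed_univ hne
  have hTc : ∀ t ∈ closure ({c.1} : Set X), t ∈ (Subtype.val '' Z : Set X) ∩ Set.range φ →
      t = c.1 := by
    intro t ht htZ
    have h1 : (⟨t, htZ⟩ : ↥((Subtype.val '' Z : Set X) ∩ Set.range φ)) ∈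
        closure ({c} : Set ↥((Subtype.val '' Z : Set X) ∩ Set.range φ)) := by
      rw [closure_subtype, Set.image_singleton]; exact ht
    rw [hc.closure_eq] at h1
    exact congrArg Subtype.val (Set.mem_singleton_iff.mp h1)
  have hcZ : c.1 ∈ (Subtype.val '' Z : Set X) ∩ Set.range φ := c.2
  have hcWF : c.1 ∈ W' ∩ F := hWF ▸ hcZ
  have hTF : closure ({c.1} : Set X) ⊆ F :=
    closure_minimal (Set.singleton_subset_iff.mpr hcWF.2) hF
  have hTW : ∀ t ∈ closure ({c.1} : Set X), t ∈ W' → t = c.1 := fun t ht htW =>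
    hTc t ht (hWF ▸ (⟨htW, hTF ht⟩ : t ∈ W' ∩ F))
  have hclosed : ∀ t ∈ closure ({c.1} : Set X), t ≠ c.1 → IsClosed ({t} : Set X) := by
    intro t ht htc
    rw [← closure_eq_iff_isClosed]
    refine Set.Subset.antisymm ?_ subset_closure
    intro t' ht'
    by_contra hne'
    have hct : c.1 ⤳ t := specializes_iff_mem_closure.mpr ht
    have htt' : t ⤳ t' := specializes_iff_mem_closure.mpr ht'
    obtain ⟨z, hzW, hcz, hzc⟩ := hP c.1 t t' hct htt' (Ne.symm htc)
      (fun h => hne' (Set.mem_singleton_iff.mpr h.symm)) W' hW' hcWF.1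
    exact hzc (hTW z (specializes_iff_mem_closure.mp hcz) hzW)
  have hY' : ∀ t ∈ closure ({c.1} : Set X), t ≠ c.1 → t ∈ Y := by
    intro t ht htc
    obtain ⟨y, hy1, hy2⟩ := hmeet {t} (hclosed t ht htc) (Set.singleton_nonempty t)
    rw [Set.mem_singleton_iff] at hy1
    exact hy1 ▸ hy2
  obtain ⟨zc, hzcZ, hzc⟩ := hcZ.1
  refine ⟨zc, hzcZ, ?_⟩
  rw [mem_closedPoints_iff, ← closure_eq_iff_isClosed]
  refine Set.Subset.antisymm ?_ subset_closure
  intro t ht
  rw [closure_subtype, Set.image_singleton, hzc] at ht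
  by_contra hne'
  have h3 : t.1 ≠ c.1 := fun h => hne' (Set.mem_singleton_iff.mpr (Subtype.ext (h.trans hzc.symm)))
  exact t.2 (hY' t.1 ht h3)

end Groth.Agent.H17.JacobsonCompl
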