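import Mathlib
import Groth.Agent.H58.LCFalt

/-!
# Faltings' local-global principle for the finiteness of local cohomology

* `soc_H_fg` (Brodmann–Lashgari): if `H^i_I(M)` is finite for `i < n` then `(0 :_{H^n_I(M)} I)` is
  finitely generated.
* `finite_H_of_locally`: finiteness of `H^i_I(M)`, `i ≤ n`, can be checked locally.
-/

set_option autoImplicit false
universe u

namespace Groth.Agent.H17.LCLocGlob

open Groth.Agent.H58.LC

variable {R : Type u} [CommRing R]

/-- elements killed by `I` -/
def soc (I : Ideal R) (N : Type u) [AddCommGroup N] [Module R N] : Submodule R N where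
  carrier := {z | ∀ a ∈ I, a • z = 0}
  zero_mem' := fun a _ => smul_zero a
  add_mem' := fun {x y} hx hy a ha => by rw [smul_add, hx a ha, hy a ha, add_zero]
  smul_mem' := fun c x hx a ha => by rw [smul_comm, hx a ha, smul_zero]

lemma mem_soc {I : Ideal R} {N : Type u} [AddCommGroup N] [Module R N] {z : N} :
    z ∈ soc I N ↔ ∀ a ∈ I, a • z = 0 := Iff.rfl

section lemmaA

variable [IsNoetherianRing R]

/-- `0 :_C I` is finitely generated inside the image of `B`, if `A → B → C` is exact with `A`
finite and `0 :_B I` finitely generated -/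
theorem soc_inf_range_fg (I : Ideal R) {A B C : Type u} [AddCommGroup A] [Module R A]
    [AddCommGroup B] [Module R B] [AddCommGroup C] [Module R C] [Module.Finite R A]
    (f : A →ₗ[R] B) (g : B →ₗ[R] C) (hfg : Function.Exact f g) (hB : (soc I B).FG) :
    (soc I C ⊓ LinearMap.range g).FG := by
  classical
  obtain ⟨s, hs⟩ := (IsNoetherian.noetherian I : I.FG)
  have hmap : ((soc I C).comap g).map g = soc I C ⊓ LinearMap.range g := by
    rw [Submodule.map_comap_eq, inf_comm]
  rw [← hmap]
  refine Submodule.FG.map g ?_
  let φ : B →ₗ[R] (s → B) := LinearMap.pi (fun j => (j : R) • LinearMap.id)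
  have hφ : ∀ (b : B) (j : s), φ b j = (j : R) • b := fun b j => rfl
  refine Submodule.fg_of_fg_map_of_fg_inf_ker φ ?_ ?_
  · let ψ : (s → A) →ₗ[R] (s → B) := f.compLeft s
    have hle : ((soc I C).comap g).map φ ≤ LinearMap.range ψ := by
      rintro _ ⟨b, hb, rfl⟩
      have hb' : ∀ j : s, ∃ a : A, f a = (j : R) • b := by
        intro j
        have h0 : g ((j : R) • b) = 0 := by
          rw [map_smul]
          exact hb (j : R) (hs ▸ Submodule.subset_span j.2)
        exact (hfg _).1 h0
      choose a ha using hb'
      refine ⟨a, ?_⟩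
      funext j
      rw [hφ]
      exact ha j
    have hNoeth : IsNoetherian R (s → A) := inferInstance
    have hfg' : (Submodule.comap ψ (((soc I C).comap g).map φ)).FG :=
      IsNoetherian.noetherian _
    have := hfg'.map ψ
    rwa [Submodule.map_comap_eq_of_le hle] at this
  · have hker : (soc I C).comap g ⊓ LinearMap.ker φ = soc I B := by
      ext b
      constructor
      · rintro ⟨-, hb⟩
        have hb : φ b = 0 := hb
        have hb' : ∀ j : s, (j : R) • b = 0 := fun j => by
          rw [← hφ, hb]; rfl
        intro a ha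
        rw [← hs] at ha
        refine Submodule.span_induction (p := fun a _ => a • b = 0) ?_ ?_ ?_ ?_ ha
        · intro y hy
          exact hb' ⟨y, hy⟩
        · exact zero_smul R b
        · intro y z _ _ hy hz
          rw [add_smul, hy, hz, add_zero]
        · intro c y _ hy
          rw [smul_eq_mul, mul_smul, hy, smul_zero]
      · intro hb
        refine ⟨?_, ?_⟩
        · intro a ha
          rw [← map_smul, hb a ha, map_zero]
        · show φ b = 0
          funext j
          rw [hφ]
          exact hb (j : R) (hs ▸ Submodule.subset_span j.2)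
    rw [hker]
    exact hB

end lemmaA

section lemmaB

variable [IsNoetherianRing R] (I : Ideal R)

/-- **Brodmann–Lashgari**: if `H^i_I(M)` is finite for all `i < n` then `0 :_{H^n_I(M)} I` is
finitely generated. -/
theorem soc_H_fg : ∀ (n : ℕ) (M : Type u) [AddCommGroup M] [Module R M] [Module.Finite R M],
    (∀ i < n, Module.Finite R (LocCoh.H I i M)) → (soc I (LocCoh.H I n M)).FG := by
  intro n
  induction n with
  | zero =>
    intro M _ _ _ _
    haveI := finite_H_zero I M
    haveI : IsNoetherian R (LocCoh.H I 0 M) := isNoetherian_of_isNoetherianRing_of_finite R _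
    exact IsNoetherian.noetherian _
  | succ n ih =>
    intro M _ _ _ hfin
    have hbar : DRing.torsionSub I (M ⧸ DRing.torsionSub I M) = ⊥ :=
      torsionSub_quot_torsionSub I M
    have hfin' : ∀ i < n + 1, Module.Finite R (LocCoh.H I i (M ⧸ DRing.torsionSub I M)) := by
      intro i hi
      rcases Nat.eq_zero_or_pos i with h0 | hpos
      · subst h0
        exact finite_H_zero I _
      · haveI := hfin i hi
        exact Module.Finite.equiv (LinearEquiv.ofBijective _
          (Hmap_mkQ_torsionSub_bijective I M i hpos))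
    suffices h : (soc I (LocCoh.H I (n + 1) (M ⧸ DRing.torsionSub I M))).FG by
      let e := LinearEquiv.ofBijective _
        (Hmap_mkQ_torsionSub_bijective I M (n + 1) (Nat.succ_pos n))
      have hEq : soc I (LocCoh.H I (n + 1) M) =
          (soc I (LocCoh.H I (n + 1) (M ⧸ DRing.torsionSub I M))).map e.symm.toLinearMap := by
        ext z
        constructor
        · intro hz
          refine ⟨e z, ?_, e.symm_apply_apply z⟩
          intro a ha
          rw [← map_smul, hz a ha, map_zero]
        · rintro ⟨w, hw, rfl⟩ a ha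
          show a • e.symm w = 0
          rw [← map_smul, hw a ha, map_zero]
      rw [hEq]
      exact h.map _
    obtain ⟨x, hxI, hxinj⟩ :=
      exists_mem_pow_smul_injective I (M ⧸ DRing.torsionSub I M) hbar 1
    rw [pow_one] at hxI
    let f : (M ⧸ DRing.torsionSub I M) →ₗ[R] (M ⧸ DRing.torsionSub I M) := x • LinearMap.id
    have hf : Function.Injective f := hxinj
    have hHf : ∀ (j : ℕ) (y : LocCoh.H I j (M ⧸ DRing.torsionSub I M)),
        Hmap I j f y = x • y := by
      intro j y
      show Hmap I j (x • LinearMap.id) y = _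
      rw [Hmap_smul, Hmap_id]
      rfl
    have hQfin : ∀ i < n, Module.Finite R
        (LocCoh.H I i ((M ⧸ DRing.torsionSub I M) ⧸ LinearMap.range f)) := by
      intro i hi
      obtain ⟨δ, -, e2, -, -⟩ := les_mod I f (LinearMap.range f).mkQ hf
        (Submodule.mkQ_surjective _) (LinearMap.exact_map_mkQ_range f) i
      haveI := hfin' i (by omega)
      haveI := hfin' (i + 1) (by omega)
      haveI : IsNoetherian R (LocCoh.H I i (M ⧸ DRing.torsionSub I M)) :=
        isNoetherian_of_isNoetherianRing_of_finite R _
      haveI : IsNoetherian R (LocCoh.H I (i + 1) (M ⧸ DRing.torsionSub I M)) :=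
        isNoetherian_of_isNoetherianRing_of_finite R _
      haveI := isNoetherian_of_range_eq_ker _ δ e2.linearMap_ker_eq.symm
      infer_instance
    have hsoc := ih ((M ⧸ DRing.torsionSub I M) ⧸ LinearMap.range f) hQfin
    obtain ⟨δ, -, e2, e3, -⟩ := les_mod I f (LinearMap.range f).mkQ hf
      (Submodule.mkQ_surjective _) (LinearMap.exact_map_mkQ_range f) n
    haveI := hfin' n (by omega)
    have hA := soc_inf_range_fg I _ δ e2 hsoc
    have hle : soc I (LocCoh.H I (n + 1) (M ⧸ DRing.torsionSub I M)) ≤ LinearMap.range δ := by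
      intro z hz
      exact (e3 z).1 (by rw [hHf]; exact hz x hxI)
    rwa [inf_eq_left.2 hle] at hA

end lemmaB

section kill

variable [IsNoetherianRing R] (I : Ideal R)

/-- if `N_p` is finite and `N` is `I`-power torsion then a power of `I` kills `N_p` -/
theorem loc_kill (p : Ideal R) [p.IsPrime] (N : Type u) [AddCommGroup N] [Module R N]
    (hN : LocCoh.IsPowerTorsion I N)
    (hfin : Module.Finite (Localization.AtPrime p) (LocalizedModule p.primeCompl N)) :
    ∃ k : ℕ, ∀ a ∈ I ^ k, ∀ z : N, ∃ s ∉ p, s • a • z = 0 := by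
  classical
  obtain ⟨S, hS⟩ := (Module.Finite.fg_top :
    (⊤ : Submodule (Localization.AtPrime p) (LocalizedModule p.primeCompl N)).FG)
  have hy : ∀ y : LocalizedModule p.primeCompl N, ∃ k : ℕ, ∀ a ∈ I ^ k, a • y = 0 := by
    intro y
    induction y using LocalizedModule.induction_on with
    | h z s =>
      obtain ⟨k, hk⟩ := hN z
      refine ⟨k, fun a ha => ?_⟩
      rw [LocalizedModule.smul'_mk, hk a ha, LocalizedModule.zero_mk]
  choose k hk using hy
  refine ⟨S.sup k, fun a ha z => ?_⟩
  have hall : ∀ y : LocalizedModule p.primeCompl N, a • y = 0 := by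
    intro y
    have hmem : y ∈ Submodule.span (Localization.AtPrime p) (S : Set _) := hS ▸ Submodule.mem_top
    refine Submodule.span_induction (p := fun y _ => a • y = 0) ?_ ?_ ?_ ?_ hmem
    · intro w hw
      exact hk w a (Ideal.pow_le_pow_right (Finset.le_sup hw) ha)
    · exact smul_zero a
    · intro u v _ _ hu hv
      rw [smul_add, hu, hv, add_zero]
    · intro c u _ hu
      rw [smul_comm, hu, smul_zero]
  have h0 := hall (LocalizedModule.mk z 1)
  rw [LocalizedModule.smul'_mk, ← LocalizedModule.zero_mk (1 : p.primeCompl),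
    LocalizedModule.mk_eq] at h0
  obtain ⟨u, hu⟩ := h0
  refine ⟨u.1, u.2, ?_⟩
  have hu' : u • a • z = 0 := by simpa using hu
  exact hu'

/-- a power of `I` kills an `I`-power torsion module `N` with `0 :_N I` finitely generated whose
localizations are all finite -/
theorem exists_pow_kill_of_locally (N : Type u) [AddCommGroup N] [Module R N]
    (hN : LocCoh.IsPowerTorsion I N) (hsoc : (soc I N).FG)
    (hloc : ∀ (p : Ideal R) [p.IsPrime],
      Module.Finite (Localization.AtPrime p) (LocalizedModule p.primeCompl N)) :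
    ∃ k : ℕ, ∀ a ∈ I ^ k, ∀ z : N, a • z = 0 := by
  classical
  -- the associated primes of `N` are those of the socle
  haveI : Module.Finite R (soc I N) := Module.Finite.iff_fg.2 hsoc
  have hsub : associatedPrimes R N ⊆ associatedPrimes R (soc I N) := by
    intro P hP
    obtain ⟨hPp, z, hz⟩ := isAssociatedPrime_iff.1 hP
    have hPz : ∀ r, r ∈ P ↔ r • z = 0 := fun r => by
      rw [hz, Submodule.mem_colon_singleton, Submodule.mem_bot]
    have hIP : I ≤ P := by
      obtain ⟨m, hm⟩ := hN z
      have : I ^ m ≤ P := fun r hr => (hPz r).2 (hm r hr)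
      exact hPp.le_of_pow_le this
    have hzs : z ∈ soc I N := fun a ha => (hPz a).1 (hIP ha)
    refine isAssociatedPrime_iff.2 ⟨hPp, ⟨z, hzs⟩, ?_⟩
    ext r
    rw [hPz, Submodule.mem_colon_singleton, Submodule.mem_bot]
    constructor
    · intro h; exact Subtype.ext h
    · intro h; exact congrArg Subtype.val h
  have hfinAss : (associatedPrimes R N).Finite :=
    (associatedPrimes.finite R (soc I N)).subset hsub
  have hk : ∀ P : Ideal R, ∃ k : ℕ, P ∈ associatedPrimes R N →
      ∀ a ∈ I ^ k, ∀ z : N, ∃ s ∉ P, s • a • z = 0 := by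
    intro P
    by_cases hP : P ∈ associatedPrimes R N
    · haveI : P.IsPrime := hP.1
      obtain ⟨k, hk⟩ := loc_kill I P N hN (hloc P)
      exact ⟨k, fun _ => hk⟩
    · exact ⟨0, fun h => absurd h hP⟩
  choose k hk using hk
  refine ⟨hfinAss.toFinset.sup k, fun a ha z => ?_⟩
  by_contra hne
  haveI : Nontrivial (Submodule.span R {a • z}) :=
    ⟨⟨⟨a • z, Submodule.mem_span_singleton_self _⟩, 0, fun h => hne (congrArg Subtype.val h)⟩⟩
  obtain ⟨P, hP⟩ := associatedPrimes.nonempty R (Submodule.span R {a • z})
  have hPN : P ∈ associatedPrimes R N :=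
    associatedPrimes.subset_of_injective (f := (Submodule.span R {a • z}).subtype)
      (Submodule.injective_subtype _) hP
  obtain ⟨hPp, ⟨y, hy⟩, hPy⟩ := isAssociatedPrime_iff.1 hP
  obtain ⟨b, rfl⟩ := Submodule.mem_span_singleton.1 hy
  have hak : a ∈ I ^ k P :=
    Ideal.pow_le_pow_right (Finset.le_sup (hfinAss.mem_toFinset.2 hPN)) ha
  obtain ⟨s, hsP, hs0⟩ := hk P hPN a hak (b • z)
  apply hsP
  rw [hPy, Submodule.mem_colon_singleton, Submodule.mem_bot]
  apply Subtype.ext
  show s • b • a • z = 0
  rw [smul_comm b a z]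
  exact hs0

end kill

section main

variable [IsNoetherianRing R] (I : Ideal R)

/-- **Faltings' local-global principle** for finiteness of local cohomology. -/
theorem finite_H_of_locally (M : Type u) [AddCommGroup M] [Module R M] [Module.Finite R M] :
    ∀ n : ℕ, (∀ (p : Ideal R) [p.IsPrime], ∀ i ≤ n,
      Module.Finite (Localization.AtPrime p) (LocalizedModule p.primeCompl (LocCoh.H I i M))) →
    ∀ i ≤ n, Module.Finite R (LocCoh.H I i M) := by
  intro n
  induction n with
  | zero =>
    intro _ i hi
    obtain rfl : i = 0 := Nat.le_zero.1 hi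
    exact finite_H_zero I M
  | succ n ih =>
    intro hloc
    have hlow : ∀ i ≤ n, Module.Finite R (LocCoh.H I i M) :=
      ih (fun p _ i hi => hloc p i (by omega))
    have hsoc := soc_H_fg I (n + 1) M (fun i hi => hlow i (by omega))
    obtain ⟨k₁, hk₁⟩ := exists_pow_kill_of_locally I (LocCoh.H I (n + 1) M)
      (isPowerTorsion_H I (n + 1)) hsoc (fun p _ => hloc p (n + 1) le_rfl)
    have hall : ∀ i ≤ n + 1, ∃ m : ℕ, ∀ a ∈ I ^ m, ∀ x : LocCoh.H I i M, a • x = 0 := by
      intro i hi
      rcases Nat.eq_or_lt_of_le hi with h | h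
      · subst h
        exact ⟨k₁, hk₁⟩
      · haveI := hlow i (by omega)
        exact exists_pow_smul_eq_zero_of_finite I _ (isPowerTorsion_H I i)
    obtain ⟨K, hK⟩ := exists_uniform_pow I (n + 1) (fun i => LocCoh.H I i M) hall
    exact finite_H_of_pow_smul_eq_zero I (n + 1) K M hK

end main

end Groth.Agent.H17.LCLocGlob
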