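import Mathlib
import Groth.Agent.H17.LocFreeRank
import Groth.Agent.H8.RankLocFree
import Groth.Agent.H8.Coh

/-!
# Finite locally free of rank `n` ⟺ all stalks free of rank `n` (coherent, locally Noetherian)
-/

set_option autoImplicit false
set_option linter.style.haveILetI false
universe u
open AlgebraicGeometry CategoryTheory Limits TopologicalSpace

namespace Groth.Agent.H17.LFn_RANK

theorem isFinLocFreeOfRank_iff_stalks {Z : Scheme.{u}} [IsLocallyNoetherian Z] (n : ℕ)
    (G : Z.Modules) (hG : Coh.IsCoh G) :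
    FlatMod.IsFinLocFreeOfRank n G ↔
      ∀ a : Z, Module.Free (Z.presheaf.stalk a) (G.presheaf.stalk a) ∧
        Module.finrank (Z.presheaf.stalk a) (G.presheaf.stalk a) = n := by
  haveI : G.IsQuasicoherent := hG.1
  constructor
  · intro h a
    obtain ⟨U, haU, ⟨e⟩⟩ := h a
    obtain ⟨b⟩ := Groth.Agent.H8.exists_basis_stalk_of_restrict_iso G e a haU
    refine ⟨Module.Free.of_basis b, ?_⟩
    rw [Module.finrank_eq_card_basis b, Fintype.card_fin]
  · intro h x
    obtain ⟨_, ⟨U, hU, rfl⟩, hxU, -⟩ :=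
      Z.isBasis_affineOpens.exists_subset_of_mem_open (Set.mem_univ x) isOpen_univ
    replace hU : IsAffineOpen U := hU
    haveI : IsNoetherianRing Γ(Z, U) := IsLocallyNoetherian.component_noetherian ⟨U, hU⟩
    haveI := Groth.Agent.H8.finite_sections_of_isCoh G hG hU
    haveI : Module.FinitePresentation Γ(Z, U) Γ(G, U) :=
      Module.finitePresentation_of_finite Γ(Z, U) Γ(G, U)
    haveI := (h x).1
    obtain ⟨f, hxf, hiso⟩ :=
      Groth.Agent.H17.LocFreeRank.exists_basicOpen_restrict_iso_freeMod_of_free_stalk_rank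
        G hU x hxU n (h x).2
    exact ⟨Z.basicOpen f, hxf, hiso⟩

end Groth.Agent.H17.LFn_RANK
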