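import Mathlib

/-!
# Cyclic submodules of torsion-free modules over local domains of depth at least two
-/

set_option autoImplicit false
set_option linter.style.haveILetI false
universe u

namespace Groth.Agent.H17.NormalRankOne

open IsLocalRing

/-- Let `R` be a Noetherian local domain with a regular sequence `x, y` in the maximal ideal, `M` a
torsion-free module and `m` a nonzero element such that `M / R m` is supported at the closed point
only. Then `m` generates `M`. -/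
theorem exists_eq_smul_of_regular_pair {R : Type u} [CommRing R] [IsDomain R] [IsLocalRing R]
    [IsNoetherianRing R] {M : Type u} [AddCommGroup M] [Module R M]
    (htf : ∀ (r : R) (μ : M), r ≠ 0 → r • μ = 0 → μ = 0) (m : M) (hm : m ≠ 0)
    (x y : R) (hx : x ≠ 0) (hxm : x ∈ maximalIdeal R) (hym : y ∈ maximalIdeal R)
    (hy : ∀ a b : R, y * a = x * b → ∃ a', a = x * a')
    (hsupp : ∀ Q : Ideal R, Q.IsPrime → Q ≠ maximalIdeal R →
      ∀ μ : M, ∃ t : R, t ∉ Q ∧ ∃ r : R, t • μ = r • m) :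
    ∀ μ : M, ∃ r : R, μ = r • m := by
  by_contra hcon
  push Not at hcon
  obtain ⟨μ₀, hμ₀⟩ := hcon
  have hmem : ∀ μ : M, μ ∈ Submodule.span R {m} ↔ ∃ r : R, μ = r • m := by
    intro μ
    rw [Submodule.mem_span_singleton]
    exact ⟨fun ⟨r, hr⟩ => ⟨r, hr.symm⟩, fun ⟨r, hr⟩ => ⟨r, hr.symm⟩⟩
  haveI : Nontrivial (M ⧸ Submodule.span R {m}) := by
    refine ⟨⟨Submodule.Quotient.mk μ₀, 0, ?_⟩⟩
    rw [Ne, Submodule.Quotient.mk_eq_zero, hmem]
    push Not
    exact hμ₀
  obtain ⟨p, hp⟩ := associatedPrimes.nonempty R (M ⧸ Submodule.span R {m})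
  obtain ⟨hpprime, c, hc⟩ := (isAssociatedPrime_iff).mp hp
  obtain ⟨μ, rfl⟩ := Submodule.Quotient.mk_surjective _ c
  have hpmem : ∀ r : R, r ∈ p ↔ ∃ r' : R, r • μ = r' • m := by
    intro r
    rw [hc, Submodule.mem_colon_singleton, Submodule.mem_bot, ← Submodule.Quotient.mk_smul,
      Submodule.Quotient.mk_eq_zero, hmem]
  have hpmax : p = maximalIdeal R := by
    by_contra hne
    obtain ⟨t, ht, r, hr⟩ := hsupp p hpprime hne μ
    exact ht ((hpmem t).mpr ⟨r, hr⟩)
  have hμ : ¬ ∃ r : R, μ = r • m := by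
    rintro ⟨r, hr⟩
    apply hpprime.ne_top
    rw [Ideal.eq_top_iff_one, hpmem]
    exact ⟨r, by rw [one_smul, hr]⟩
  obtain ⟨a, ha⟩ := (hpmem x).mp (hpmax ▸ hxm)
  obtain ⟨b, hb⟩ := (hpmem y).mp (hpmax ▸ hym)
  have h0 : (y * a - x * b) • m = 0 := by
    rw [sub_smul, mul_smul, mul_smul, ← ha, ← hb, smul_comm, sub_self]
  have hyab : y * a = x * b := by
    by_contra h
    exact hm (htf _ m (sub_ne_zero.mpr h) h0)
  obtain ⟨a', rfl⟩ := hy a b hyab
  apply hμ
  refine ⟨a', ?_⟩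
  have h1 : x • (μ - a' • m) = 0 := by
    rw [smul_sub, ha, mul_smul, sub_self]
  exact sub_eq_zero.mp (htf x _ hx h1)

end Groth.Agent.H17.NormalRankOne
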