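import Mathlib
import Groth.Agent.H8.Coh
import Groth.Agent.H8.SuppClosed
import Groth.Agent.H72.PdLocal

/-!
# Openness of the locus where a coherent module has projective dimension `≤ m`
-/

set_option autoImplicit false
set_option linter.style.haveILetI false
universe u

namespace Groth.Agent.H17.PdLocus

open AlgebraicGeometry CategoryTheory TopologicalSpace TensorProduct Groth.Agent.H8
  Groth.Agent.H72.PdLocal

variable {X : Scheme.{u}}

/-- upper semicontinuity of the projective dimension of the stalks of a coherent module -/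
theorem isOpen_setOf_pdLT [IsLocallyNoetherian X] (F : X.Modules) (hF : Coh.IsCoh F) (m : ℕ) :
    IsOpen {x : X | HasProjectiveDimensionLT
      (ModuleCat.of (X.presheaf.stalk x) (F.presheaf.stalk x)) (m + 1)} := by
  haveI : F.IsQuasicoherent := hF.1
  rw [isOpen_iff_forall_mem_open]
  intro x hx
  obtain ⟨_, ⟨U, hU, rfl⟩, hxU, -⟩ :=
    X.isBasis_affineOpens.exists_subset_of_mem_open (Set.mem_univ x) isOpen_univ
  replace hU : IsAffineOpen U := hU
  haveI : IsNoetherianRing Γ(X, U) := IsLocallyNoetherian.component_noetherian ⟨U, hU⟩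
  haveI := finite_sections_of_isCoh F hF hU
  obtain ⟨K, _, _, _, hK⟩ := exists_syzygy Γ(X, U) m Γ(F, U)
  have hfp : Module.FinitePresentation Γ(X, U) K := Module.finitePresentation_of_finite _ K
  have key : ∀ (y : X) (hyU : y ∈ U), HasProjectiveDimensionLT
      (ModuleCat.of (X.presheaf.stalk y) (F.presheaf.stalk y)) (m + 1) ↔
      hU.primeIdealOf ⟨y, hyU⟩ ∈ Module.freeLocus Γ(X, U) K := by
    intro y hyU
    letI := X.presheaf.algebra_section_stalk ⟨y, hyU⟩
    haveI := hU.isLocalization_stalk ⟨y, hyU⟩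
    letI := moduleSectionStalk F y hyU
    haveI := isScalarTower_sectionStalk F y hyU
    haveI := isLocalizedModule_germₗ F hU y hyU
    haveI : Module.Flat Γ(X, U) (X.presheaf.stalk y) :=
      IsLocalization.flat _ (hU.primeIdealOf ⟨y, hyU⟩).asIdeal.primeCompl
    have hbc : IsBaseChange (X.presheaf.stalk y) (germₗ F y hyU) :=
      (isLocalizedModule_iff_isBaseChange (hU.primeIdealOf ⟨y, hyU⟩).asIdeal.primeCompl
        (X.presheaf.stalk y) _).mp inferInstance
    have h1 := pdLT_congr hbc.equiv (m + 1)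
    have h2 := hK (X.presheaf.stalk y)
    have h3 := Module.mem_freeLocus_iff_tensor (M := K) (hU.primeIdealOf ⟨y, hyU⟩)
      (X.presheaf.stalk y)
    refine h1.symm.trans (h2.trans (Iff.trans ?_ h3.symm))
    exact ⟨fun _ => Module.free_of_flat_of_isLocalRing, fun _ => inferInstance⟩
  refine ⟨hU.fromSpec '' (Module.freeLocus Γ(X, U) K), ?_,
    hU.fromSpec.isOpenEmbedding.isOpenMap _ Module.isOpen_freeLocus, ?_⟩
  · rintro _ ⟨q, hq, rfl⟩
    have hyU : hU.fromSpec q ∈ U := by
      rw [← SetLike.mem_coe, ← hU.range_fromSpec]; exact Set.mem_range_self q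
    have hq' : hU.primeIdealOf ⟨hU.fromSpec q, hyU⟩ = q :=
      hU.fromSpec.isOpenEmbedding.injective (hU.fromSpec_primeIdealOf ⟨hU.fromSpec q, hyU⟩)
    exact (key _ hyU).mpr (hq'.symm ▸ hq)
  · exact ⟨hU.primeIdealOf ⟨x, hxU⟩, (key x hxU).mp hx, hU.fromSpec_primeIdealOf ⟨x, hxU⟩⟩

/-- all `k`: the locus `pd F_x < k` is open (for `k = 0` it is the complement of the support) -/
theorem isOpen_setOf_pdLT' [IsLocallyNoetherian X] (F : X.Modules) (hF : Coh.IsCoh F) (k : ℕ) :
    IsOpen {x : X | HasProjectiveDimensionLT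
      (ModuleCat.of (X.presheaf.stalk x) (F.presheaf.stalk x)) k} := by
  cases k with
  | zero =>
    haveI : SheafOfModules.IsFiniteType (R := X.ringCatSheaf) F := hF.2
    have h1 := (isClosed_support_of_isFiniteType F).isOpen_compl
    have h2 : {x : X | HasProjectiveDimensionLT
        (ModuleCat.of (X.presheaf.stalk x) (F.presheaf.stalk x)) 0} =
        {x : X | ¬ Subsingleton ↑(F.presheaf.stalk x)}ᶜ := by
      ext x
      simp only [Set.mem_ofPred_eq, Set.mem_compl_iff, not_not]
      rw [hasProjectiveDimensionLT_zero_iff_isZero]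
      exact ModuleCat.isZero_iff_subsingleton
    rw [h2]
    exact h1
  | succ m => exact isOpen_setOf_pdLT F hF m

theorem topologicalKrullDim_nonneg (Y : Type*) [TopologicalSpace Y] [Nonempty Y] :
    0 ≤ topologicalKrullDim Y := by
  obtain ⟨y⟩ := ‹Nonempty Y›
  haveI : Nonempty (IrreducibleCloseds Y) :=
    ⟨⟨closure {y}, isIrreducible_singleton.closure, isClosed_closure⟩⟩
  exact Order.krullDim_nonneg

theorem natCast_le_top_add {c : WithBot ℕ∞} (hc : 0 ≤ c) (n : ℕ) :
    (n : WithBot ℕ∞) ≤ ((⊤ : ℕ∞) : WithBot ℕ∞) + c := by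
  induction c using WithBot.recBotCoe with
  | bot => exact absurd hc (by simp)
  | coe c' =>
    rw [← WithBot.coe_add, top_add]
    exact le_top

theorem exists_nat_of_ne {x : WithBot ℕ∞} (h0 : x ≠ ⊥) (h1 : x ≠ ⊤) : ∃ n : ℕ, x = n := by
  induction x using WithBot.recBotCoe with
  | bot => exact absurd rfl h0
  | coe y =>
    induction y using ENat.recTopCoe with
    | top => exact absurd rfl h1
    | coe n => exact ⟨n, rfl⟩

theorem exists_nat_of_add_eq_nat {a b : WithBot ℕ∞} {D : ℕ} (h : a + b = D) :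
    ∃ c e : ℕ, a = c ∧ b = e ∧ c + e = D := by
  have ha0 : a ≠ ⊥ := by
    rintro rfl
    rw [WithBot.bot_add] at h
    exact WithBot.bot_ne_natCast D h
  have hb0 : b ≠ ⊥ := by
    rintro rfl
    rw [WithBot.add_bot] at h
    exact WithBot.bot_ne_natCast D h
  have hab : ∀ {u v : WithBot ℕ∞}, u ≠ ⊥ → v ≠ ⊥ → u + v = D → u ≠ ⊤ := by
    intro u v hu hv huv hut
    subst hut
    induction v using WithBot.recBotCoe with
    | bot => exact hv rfl
    | coe v' =>
      rw [← WithBot.coe_top, ← WithBot.coe_add, top_add] at huv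
      have : ((⊤ : ℕ∞) : WithBot ℕ∞) = ((D : ℕ∞) : WithBot ℕ∞) := huv
      exact ENat.top_ne_natCast D (WithBot.coe_injective this)
  obtain ⟨c, rfl⟩ := exists_nat_of_ne ha0 (hab ha0 hb0 h)
  obtain ⟨e, rfl⟩ := exists_nat_of_ne hb0 (hab hb0 ha0 (by rw [add_comm]; exact h))
  exact ⟨c, e, rfl, rfl, by exact_mod_cast h⟩

end Groth.Agent.H17.PdLocus
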