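import Groth.Agent.H17.ProCons
import Mathlib.Topology.Separation.Basic

set_option autoImplicit false
open Topology Set

namespace Groth.Agent.H17

variable {V U : Type*} [TopologicalSpace V] [TopologicalSpace U]

/-- The image of a set closed in the constructible topology under a map pulling back constructible
sets to constructible sets is an intersection of constructible sets. -/
theorem exists_eq_sInter_image [CompactSpace V] [QuasiSober V] [PrespectralSpace V]
    [QuasiSeparatedSpace V] [T0Space U] [PrespectralSpace U] [QuasiSeparatedSpace U]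
    (g : V → U) (hg : ∀ s : Set U, IsConstructible s → IsConstructible (g ⁻¹' s))
    (E : Set V) (hE : IsClosed[constructibleTopology V] E) :
    ∃ S : Set (Set U), (∀ T ∈ S, IsConstructible T) ∧ g '' E = ⋂₀ S := by
  classical
  refine ⟨{D | IsConstructible D ∧ g '' E ⊆ D}, fun D hD => hD.1, ?_⟩
  apply Subset.antisymm
  · exact subset_sInter fun D hD => hD.2
  · intro y hy
    by_contra hyE
    have key : ∀ e : V, ∃ D : Set U, IsConstructible D ∧ (e ∈ E → g e ∈ D) ∧ y ∉ D := by
      intro e
      by_cases he : e ∈ E
      · have hne : g e ≠ y := fun h => hyE ⟨e, he, h⟩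
        obtain ⟨W, ⟨hW1, hW2⟩, hW⟩ :
            ∃ W ∈ {U' : Set U | IsOpen U' ∧ IsCompact U'}, ¬ (g e ∈ W ↔ y ∈ W) := by
          by_contra hcon
          push_neg at hcon
          exact hne ((PrespectralSpace.isTopologicalBasis.eq_iff).mpr hcon)
        by_cases h1 : g e ∈ W
        · exact ⟨W, hW2.isConstructible hW1, fun _ => h1, fun h2 => hW ⟨fun _ => h2, fun _ => h1⟩⟩
        · have h2 : y ∈ W := by
            by_contra h2
            exact hW ⟨fun h => absurd h h1, fun h => absurd h h2⟩
          exact ⟨Wᶜ, (hW2.isConstructible hW1).compl, fun _ => h1, fun h => h h2⟩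
      · exact ⟨∅, IsConstructible.empty, fun h => absurd h he, id⟩
    choose D hD1 hD2 hD3 using key
    have hEo : IsOpen[constructibleTopology V] Eᶜ := by
      have := hE.isOpen_compl
      exact this
    obtain ⟨J, hJ⟩ := exists_finset_biInter_subset (fun e : V => (g ⁻¹' D e)ᶜ)
      (fun e => gen_isClosed_of_compl _ (by
        rw [compl_compl]
        exact (isClopen_constructibleTopology_of_isConstructible (hg _ (hD1 e))).1))
      Eᶜ hEo (by
        intro v hv hvE
        rw [mem_iInter] at hv
        exact hv v (hD2 v hvE))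
    have hD' : IsConstructible (⋃ e ∈ (J : Set V), D e) :=
      IsConstructible.biUnion J.finite_toSet fun e _ => hD1 e
    have hsub : g '' E ⊆ ⋃ e ∈ (J : Set V), D e := by
      rintro _ ⟨v, hv, rfl⟩
      by_contra hcon
      have : v ∈ ⋂ e ∈ J, (g ⁻¹' D e)ᶜ := by
        simp only [mem_iInter, mem_compl_iff, mem_preimage]
        intro e he hge
        exact hcon (mem_biUnion (by exact_mod_cast he) hge)
      exact hJ this hv
    have hy' := hy _ ⟨hD', hsub⟩
    simp only [mem_iUnion] at hy'
    obtain ⟨e, _, hye⟩ := hy'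
    exact hD3 e hye

/-- A finite union of intersections of constructible sets is an intersection of constructible
sets. -/
theorem exists_eq_sInter_iUnion {ι : Type*} [Finite ι] (A : ι → Set U)
    (hA : ∀ k, ∃ S : Set (Set U), (∀ T ∈ S, IsConstructible T) ∧ A k = ⋂₀ S) :
    ∃ S : Set (Set U), (∀ T ∈ S, IsConstructible T) ∧ ⋃ k, A k = ⋂₀ S := by
  refine ⟨{D | IsConstructible D ∧ ⋃ k, A k ⊆ D}, fun D hD => hD.1, ?_⟩
  apply Subset.antisymm
  · exact subset_sInter fun D hD => hD.2
  · intro y hy
    by_contra hyA
    simp only [mem_iUnion, not_exists] at hyA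
    have key : ∀ k, ∃ D : Set U, IsConstructible D ∧ A k ⊆ D ∧ y ∉ D := by
      intro k
      obtain ⟨S, hS, hAS⟩ := hA k
      have := hyA k
      rw [hAS, mem_sInter] at this
      push_neg at this
      obtain ⟨D, hDS, hyD⟩ := this
      exact ⟨D, hS D hDS, by rw [hAS]; exact sInter_subset_of_mem hDS, hyD⟩
    choose D hD1 hD2 hD3 using key
    have hy' := hy (⋃ k, D k) ⟨IsConstructible.iUnion hD1, iUnion_mono hD2⟩
    rw [mem_iUnion] at hy'
    obtain ⟨k, hk⟩ := hy'
    exact hD3 k hk

end Groth.Agent.H17
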