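import Groth.Agent.H17.ReflNormal

/-!
# The dual of a coherent module is reflexive when all local rings are domains

Variant of `ReflNormal.isReflexive_dual` without the integrality hypothesis on the scheme.
-/

set_option autoImplicit false
set_option linter.style.haveILetI false
universe u
open CategoryTheory CategoryTheory.Limits AlgebraicGeometry TopologicalSpace Opposite

namespace Groth.Agent.H17.ReflDualDomain

open Groth.Agent.H8 Groth.Agent.H17.HomSh Groth.Agent.H17.ReflSheaf

variable {X : Scheme.{u}} [IsLocallyNoetherian X]

/-- the dual of a coherent module on a locally Noetherian scheme whose local rings are domains is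
reflexive. -/
theorem isReflexive_dual (hdom : ∀ x : X, IsDomain (X.presheaf.stalk x)) (G : X.Modules)
    (hG : Coh.IsCoh G) : RefHull.IsReflexive (RefHull.dual G) := by
  refine isReflexive_of_closed_points _ (isCoh_dual G hG) (fun x _ => ?_)
  haveI := isFP_of_isCoh G hG
  have he : Function.Bijective (RefHull.evalStalk G (Coh.structureModule X) x) :=
    ⟨evalStalk_injective _ _ x, evalStalk_surjective _ _ x⟩
  let ι : X.presheaf.stalk x ≃ₗ[X.presheaf.stalk x] (Coh.structureModule X).presheaf.stalk x :=
    LinearEquiv.ofBijective (Groth.Agent.H2.ConnComp.L X x) (Groth.Agent.H2.ConnComp.L_bijective X x)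
  haveI : Module.Finite (X.presheaf.stalk x) (G.presheaf.stalk x) := finite_stalk_of_isCoh G hG x
  haveI : IsNoetherianRing (X.presheaf.stalk x) := inferInstance
  haveI : IsDomain (X.presheaf.stalk x) := hdom x
  haveI := Groth.Agent.H17.ReflHom.isReflexive_dual (X.presheaf.stalk x) (G.presheaf.stalk x)
  exact Module.equiv ((LinearEquiv.ofBijective _ he) ≪≫ₗ LinearEquiv.congrRight ι.symm).symm

end Groth.Agent.H17.ReflDualDomain
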