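import Mathlib
import Groth.Agent.H54.SchemeDim2

/-!
# Generizations of a point with integral local ring
-/

set_option autoImplicit false
universe u

namespace Groth.Agent.H17.RegBiequi

open AlgebraicGeometry CategoryTheory TopologicalSpace

/-- the set of generizations of `x` is homeomorphic to `Spec O_x`, hence has dimension `dim O_x` -/
theorem topologicalKrullDim_generizations (X : Scheme.{u}) (x : X) :
    topologicalKrullDim ↥{t : X | t ⤳ x} = ringKrullDim (X.presheaf.stalk x) := by
  rw [← Scheme.range_fromSpecStalk, ← PrimeSpectrum.topologicalKrullDim_eq_ringKrullDim]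
  have hemb := (X.fromSpecStalk x).isEmbedding
  exact (IsHomeomorph.topologicalKrullDim_eq _ hemb.toHomeomorph.isHomeomorph).symm

/-- if `O_x` is a domain, `x` lies on an irreducible component containing all its generizations -/
theorem exists_component_generizations (X : Scheme.{u}) (x : X) [IsDomain (X.presheaf.stalk x)] :
    ∃ T : Set X, T ∈ irreducibleComponents (X : Type u) ∧ x ∈ T ∧
      {t : X | t ∈ T ∧ t ⤳ x} = {t : X | t ⤳ x} := by
  have hemb := (X.fromSpecStalk x).isEmbedding
  obtain ⟨b, hb⟩ : ∃ b : PrimeSpectrum (X.presheaf.stalk x), b.asIdeal = ⊥ :=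
    ⟨⟨⊥, Ideal.isPrime_bot⟩, rfl⟩
  have hrange : ∀ t : X, t ⤳ x ↔ ∃ q, X.fromSpecStalk x q = t := fun t =>
    (Set.ext_iff.mp (Scheme.range_fromSpecStalk (x := x)) t).symm
  have hηx : X.fromSpecStalk x b ⤳ x := (hrange _).mpr ⟨b, rfl⟩
  have hbq : ∀ q : PrimeSpectrum (X.presheaf.stalk x), b ⤳ q := fun q =>
    (PrimeSpectrum.le_iff_specializes b q).mp (by
      change b.asIdeal ≤ q.asIdeal
      rw [hb]; exact bot_le)
  obtain ⟨ξ, hξη, hξ⟩ := Groth.Agent.H54.exists_generic_specializes (X.fromSpecStalk x b)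
  have hξeq : ξ = X.fromSpecStalk x b := by
    obtain ⟨q, rfl⟩ := (hrange ξ).mp (hξη.trans hηx)
    have h1 : q ⤳ b := hemb.isInducing.specializes_iff.mp hξη
    have h2 : q = b := (h1.antisymm (hbq q)).eq
    rw [h2]
  rw [hξeq] at hξ
  refine ⟨closure {X.fromSpecStalk x b}, hξ,
    hηx.mem_closed isClosed_closure (subset_closure rfl), ?_⟩
  ext t
  constructor
  · exact fun h => h.2
  · intro ht
    refine ⟨?_, ht⟩
    obtain ⟨q, rfl⟩ := (hrange t).mp ht
    exact specializes_iff_mem_closure.mp ((hbq q).map (X.fromSpecStalk x).continuous)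

end Groth.Agent.H17.RegBiequi
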