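import Mathlib
import Groth.Agent.H28.RelPCBC
import Groth.Agent.H28.PCDescentSch
import Groth.Agent.H6.RpushQC
import Groth.Agent.H31.SuppEquiv
import Groth.Agent.H31.ProjCI
import Groth.Agent.H31.GammaZCoprod

/-!
# Restriction to an affine open followed by direct image along a closed immersion preserves `D_QCoh`
-/

set_option autoImplicit false
set_option maxHeartbeats 400000
set_option linter.style.haveILetI false
universe u
open CategoryTheory CategoryTheory.Limits AlgebraicGeometry TopologicalSpace Opposite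
attribute [local instance] HasDerivedCategory.standard

namespace Groth.Agent.H17.RelPC_QC

/-- the (underived) direct image along a closed immersion preserves `D_QCoh`. -/
theorem isQCohD_push {Y Z : Scheme.{u}} (i : Y ⟶ Z) [IsClosedImmersion i] (K : DCoh.D Y)
    (hK : DCoh.IsQCohD K) :
    DCoh.IsQCohD ((Scheme.Modules.pushforward i).mapDerivedCategory.obj K) := by
  let C := DerivedCategory.Q.objPreimage K
  let eK : DerivedCategory.Q.obj C ≅ K := DerivedCategory.Q.objObjPreimageIso K
  haveI : DCoh.HasRpush i := Groth.Agent.H31.RpushSupport.hasRpush i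
  have h2 : DCoh.IsQCohD ((DCoh.Rpush i).obj K) := Groth.Agent.H6.RpushQC.isQCohD_Rpush i K hK
  have e : (DCoh.Rpush i).obj K ≅ (Scheme.Modules.pushforward i).mapDerivedCategory.obj K :=
    (DCoh.Rpush i).mapIso eK.symm ≪≫ Groth.Agent.H31.ProjCI.RpushObjIso i C ≪≫
      ((Scheme.Modules.pushforward i).mapDerivedCategoryFactors.app C).symm ≪≫
      (Scheme.Modules.pushforward i).mapDerivedCategory.mapIso eK
  exact Groth.Agent.H31.GammaZCoprod.isQCohD_of_iso e h2

theorem isQCohD_push_restrict {X Z : Scheme.{u}} {U : X.Opens} (hU : IsAffineOpen U) [IsAffine Z]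
    (i : (U : Scheme.{u}) ⟶ Z) [IsClosedImmersion i] (E : DCoh.D X) (hE : DCoh.IsQCohD E) :
    DCoh.IsQCohD ((Scheme.Modules.pushforward i).mapDerivedCategory.obj
      ((Scheme.Modules.restrictFunctor U.ι).mapDerivedCategory.obj E)) := by
  haveI : DCoh.HasRpush U.ι := Groth.Agent.H31.RpushSupport.hasRpush U.ι
  have h1 : DCoh.IsQCohD ((DCoh.restrictD U.ι).obj E) :=
    Groth.Agent.H31.SuppEquiv.isQCohD_restrictD U.ι E hE
  exact isQCohD_push i _ h1

end Groth.Agent.H17.RelPC_QC
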