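import Groth.Agent.H17.JacobsonCompl
import Mathlib.RingTheory.Jacobson.Ring
import Mathlib.RingTheory.KrullDimension.Zero
import Mathlib.RingTheory.KrullDimension.Field

/-!
# Semi-local domains of dimension one and Jacobson rings
-/

set_option autoImplicit false
universe u

namespace Groth.Agent.H17.SemilocalDimOne

theorem eq_one_of_le_of_not_le (x : WithBot ℕ∞) (h1 : x ≤ 1) (h0 : ¬ x ≤ 0) : x = 1 := by
  refine le_antisymm h1 ?_
  have h : 0 < x := not_le.mp h0
  induction x using WithBot.recBotCoe with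
  | bot => simp at h
  | coe n =>
    have h' : (0 : ℕ∞) < n := by exact_mod_cast h
    have : (1 : ℕ∞) ≤ n := Order.one_le_iff_pos.mpr h'
    exact_mod_cast this

/-- A Noetherian domain, not a field, with a nonzero element contained in all nonzero primes is
semi-local of dimension one. -/
theorem semilocal_dim_one_of_forall_mem {D : Type u} [CommRing D] [IsDomain D]
    [IsNoetherianRing D] {f : D} (hf : f ≠ 0)
    (hall : ∀ q : Ideal D, q.IsPrime → q ≠ ⊥ → f ∈ q) (hnf : ¬ IsField D) :
    Finite (MaximalSpectrum D) ∧ ringKrullDim D = 1 := by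
  have hfin : (Ideal.span {f}).minimalPrimes.Finite :=
    Ideal.finite_minimalPrimes_of_isNoetherianRing D _
  have hmem : ∀ Q : Ideal D, Q.IsPrime → Q ≠ ⊥ → Q ∈ (Ideal.span {f}).minimalPrimes := by
    intro Q hQ hQ0
    obtain ⟨P, hP, hPle⟩ := Ideal.exists_minimalPrimes_le
      (show Ideal.span {f} ≤ Q from (Ideal.span_singleton_le_iff_mem _).mpr (hall Q hQ hQ0))
    have hfP : f ∈ P := hP.1.2 (Ideal.mem_span_singleton_self f)
    have hP0 : P ≠ ⊥ := fun h => hf (by rw [h] at hfP; exact Ideal.mem_bot.mp hfP)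
    by_cases hPQ : P = Q
    · exact hPQ ▸ hP
    · exact (JacobsonCompl.domain_no_chain hf hall hP.1.1 hQ hP0 (lt_of_le_of_ne hPle hPQ)).elim
  constructor
  · have : Finite ↥(Ideal.span {f}).minimalPrimes := hfin.to_subtype
    refine Finite.of_injective (fun M : MaximalSpectrum D =>
      (⟨M.asIdeal, hmem _ M.isMaximal.isPrime
        (Ring.ne_bot_of_isMaximal_of_not_isField M.isMaximal hnf)⟩ :
          ↥(Ideal.span {f}).minimalPrimes)) ?_
    intro M M' h
    exact MaximalSpectrum.ext (congrArg Subtype.val h)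
  · have hle : Ring.KrullDimLE 1 D := by
      rw [Ring.krullDimLE_one_iff_of_noZeroDivisors]
      intro I hI0 hI
      obtain ⟨M, hM, hIM⟩ := Ideal.exists_le_maximal I hI.ne_top
      by_cases hIM' : I = M
      · exact hIM' ▸ hM
      · exact (JacobsonCompl.domain_no_chain hf hall hI hM.isPrime hI0
          (lt_of_le_of_ne hIM hIM')).elim
    have hnot : ¬ ringKrullDim D ≤ 0 := by
      intro h0
      have hK : Ring.KrullDimLE 0 D := Ring.krullDimLE_iff.mpr (by exact_mod_cast h0)
      exact hnf Ring.KrullDimLE.isField_of_isDomain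
    refine eq_one_of_le_of_not_le _ ?_ hnot
    have := Ring.krullDimLE_iff.mp hle
    exact_mod_cast this

/-- A Noetherian ring which is not Jacobson has a prime `p` with `A ⧸ p` semi-local of
dimension one. -/
theorem exists_prime_semilocal_dim_one {A : Type u} [CommRing A] [IsNoetherianRing A]
    (hA : ¬ IsJacobsonRing A) :
    ∃ p : Ideal A, p.IsPrime ∧ Finite (MaximalSpectrum (A ⧸ p)) ∧ ringKrullDim (A ⧸ p) = 1 := by
  rw [isJacobsonRing_iff_prime_eq] at hA
  push Not at hA
  obtain ⟨P, hP, hne⟩ := hA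
  obtain ⟨f, hfJ, hfP⟩ : ∃ f ∈ P.jacobson, f ∉ P := by
    by_contra h
    push Not at h
    exact hne (le_antisymm h Ideal.le_jacobson)
  obtain ⟨p', ⟨hp'prime, hPp', hfp'⟩, hmax⟩ :=
    set_has_maximal_iff_noetherian.mpr (inferInstance : IsNoetherian A A)
      {r : Ideal A | r.IsPrime ∧ P ≤ r ∧ f ∉ r} ⟨P, hP, le_rfl, hfP⟩
  refine ⟨p', hp'prime, ?_⟩
  have hdom : IsDomain (A ⧸ p') := Ideal.Quotient.isDomain p'
  have hsurj : Function.Surjective (Ideal.Quotient.mk p') := Ideal.Quotient.mk_surjective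
  have hker : RingHom.ker (Ideal.Quotient.mk p') = p' := Ideal.mk_ker
  apply semilocal_dim_one_of_forall_mem (f := Ideal.Quotient.mk p' f)
  · exact fun h => hfp' (Ideal.Quotient.eq_zero_iff_mem.mp h)
  · intro Q hQ hQ0
    have hr : (Ideal.comap (Ideal.Quotient.mk p') Q).IsPrime := Ideal.comap_isPrime _ Q
    have hple : p' ≤ Ideal.comap (Ideal.Quotient.mk p') Q := by
      refine hker.symm.le.trans ?_
      rw [RingHom.ker_eq_comap_bot]; exact Ideal.comap_mono bot_le
    have hpne : p' ≠ Ideal.comap (Ideal.Quotient.mk p') Q := by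
      intro h'
      apply hQ0
      rw [← Ideal.map_comap_of_surjective _ hsurj Q, ← h', Ideal.map_quotient_self]
    by_contra hfQ
    exact hmax _ ⟨hr, hPp'.trans hple, hfQ⟩ (lt_of_le_of_ne hple hpne)
  · intro hfield
    have hp'max : Ideal.IsMaximal p' := Ideal.Quotient.maximal_of_isField p' hfield
    exact hfp' (Ideal.mem_sInf.mp hfJ ⟨hPp', hp'max⟩)

/-- A Jacobson domain with finitely many maximal ideals is a field, so not of dimension one. -/
theorem ringKrullDim_ne_one_of_isJacobsonRing {D : Type u} [CommRing D] [IsDomain D]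
    [IsJacobsonRing D] [Finite (MaximalSpectrum D)] : ringKrullDim D ≠ 1 := by
  classical
  have := Fintype.ofFinite (MaximalSpectrum D)
  have hjac : (⊥ : Ideal D).jacobson = ⊥ :=
    isJacobsonRing_iff_prime_eq.mp inferInstance ⊥ Ideal.isPrime_bot
  have hinf : (Finset.univ : Finset (MaximalSpectrum D)).inf (fun M => M.asIdeal) ≤ ⊥ := by
    rw [← hjac]
    exact le_sInf (fun J hJ =>
      Finset.inf_le (f := fun M : MaximalSpectrum D => M.asIdeal) (Finset.mem_univ ⟨J, hJ.2⟩))
  obtain ⟨M, -, hM⟩ := (Ideal.IsPrime.inf_le' Ideal.isPrime_bot).mp hinf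
  have hbot : (⊥ : Ideal D).IsMaximal := by
    have := le_bot_iff.mp hM
    rw [← this]; exact M.isMaximal
  have hfield : IsField D := Ring.isField_iff_maximal_bot.mpr hbot
  rw [ringKrullDim_eq_zero_of_isField hfield]
  exact zero_ne_one

/-- EGA IV 10.5.1-type criterion. -/
theorem isJacobsonRing_iff {A : Type u} [CommRing A] [IsNoetherianRing A] :
    IsJacobsonRing A ↔
      ∀ (p : Ideal A) [p.IsPrime],
        ¬ (Finite (MaximalSpectrum (A ⧸ p)) ∧ ringKrullDim (A ⧸ p) = 1) := by
  constructor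
  · intro hA p hp ⟨hfin, hdim⟩
    have : IsDomain (A ⧸ p) := Ideal.Quotient.isDomain p
    exact ringKrullDim_ne_one_of_isJacobsonRing (D := A ⧸ p) hdim
  · intro h
    by_contra hA
    obtain ⟨p, hp, hfin, hdim⟩ := exists_prime_semilocal_dim_one hA
    exact h p ⟨hfin, hdim⟩

end Groth.Agent.H17.SemilocalDimOne
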