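import Mathlib
import Groth.Agent.H29.Depth
import Groth.Agent.H29.CM

/-!
# Support under localization (general `IsLocalizedModule` form) and the local form of `(S₁)`
-/

set_option autoImplicit false
set_option linter.style.haveILetI false
universe u

namespace Groth.Agent.H17.SuppLoc

open IsLocalRing

section Supp

variable {A : Type*} [CommRing A] (S : Submonoid A)
  {R : Type*} [CommRing R] [Algebra A R] [IsLocalization S R]
  {N M : Type*} [AddCommGroup N] [AddCommGroup M] [Module A N] [Module A M] [Module R M]
  [IsScalarTower A R M] (f : N →ₗ[A] M) [IsLocalizedModule S f]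

include S in
theorem algebraMap_notMem (Q : PrimeSpectrum R) (s : S) : algebraMap A R s ∉ Q.asIdeal :=
  fun hmem => Q.isPrime.ne_top (Ideal.eq_top_of_isUnit_mem _ hmem (IsLocalization.map_units R s))

include S f in
theorem mem_support_of_comap_mem_support (Q : PrimeSpectrum R)
    (hq : PrimeSpectrum.comap (algebraMap A R) Q ∈ Module.support A N) :
    Q ∈ Module.support R M := by
  rw [Module.mem_support_iff_exists_annihilator] at hq ⊢
  obtain ⟨n, hn⟩ := hq
  refine ⟨f n, ?_⟩
  intro r hr
  obtain ⟨⟨a, s⟩, has⟩ := IsLocalization.surj S r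
  simp only at has
  have ha0 : a • f n = 0 := by
    have h1 : (algebraMap A R a) • f n = 0 := by
      rw [← has, mul_comm, mul_smul]
      have h2 : r • f n = 0 := by
        have := hr
        rw [Submodule.mem_annihilator_span_singleton] at this
        exact this
      rw [h2, smul_zero]
    rwa [algebraMap_smul] at h1
  rw [← map_smul, IsLocalizedModule.eq_zero_iff S] at ha0
  obtain ⟨t, ht⟩ := ha0
  have hta : (t : A) * a ∈ (PrimeSpectrum.comap (algebraMap A R) Q).asIdeal := by
    apply hn
    rw [Submodule.mem_annihilator_span_singleton, mul_smul]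
    exact ht
  have h3 : algebraMap A R ((t : A) * a) ∈ Q.asIdeal := hta
  rw [map_mul] at h3
  have h4 : algebraMap A R a ∈ Q.asIdeal :=
    (Q.isPrime.mem_or_mem h3).resolve_left (algebraMap_notMem S Q t)
  rw [← has] at h4
  exact (Q.isPrime.mem_or_mem h4).resolve_right (algebraMap_notMem S Q s)

include S f in
theorem comap_mem_support_of_mem_support (Q : PrimeSpectrum R)
    (hQ : Q ∈ Module.support R M) :
    PrimeSpectrum.comap (algebraMap A R) Q ∈ Module.support A N := by
  rw [Module.mem_support_iff_exists_annihilator] at hQ ⊢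
  obtain ⟨m, hm⟩ := hQ
  obtain ⟨⟨n, s⟩, hns⟩ := IsLocalizedModule.surj S f m
  simp only at hns
  refine ⟨n, ?_⟩
  intro a ha
  rw [Submodule.mem_annihilator_span_singleton] at ha
  have h1 : (algebraMap A R (a * (s : A))) • m = 0 := by
    rw [algebraMap_smul, mul_smul]
    have h2 : (s : A) • m = f n := hns
    rw [h2, ← map_smul, ha, map_zero]
  have h3 : algebraMap A R (a * (s : A)) ∈ Q.asIdeal := by
    apply hm
    rw [Submodule.mem_annihilator_span_singleton]
    exact h1
  rw [map_mul] at h3
  exact (Q.isPrime.mem_or_mem h3).resolve_right (algebraMap_notMem S Q s)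

end Supp

section S1

variable {A : Type u} [CommRing A] [IsNoetherianRing A] {N : Type u} [AddCommGroup N] [Module A N]
  [Module.Finite A N] (p : Ideal A) [p.IsPrime] {R : Type u} [CommRing R] [Algebra A R]
  [IsLocalization.AtPrime R p] [IsLocalRing R] {M : Type u} [AddCommGroup M] [Module A M]
  [Module R M] [IsScalarTower A R M] (f : N →ₗ[A] M) [IsLocalizedModule p.primeCompl f]

include f in
/-- failure of `(S₁)` at a prime `p` means that `p` is an embedded associated prime -/
theorem not_S1_iff :
    ¬ (min (1 : WithBot ℕ∞) (Module.supportDim R M) ≤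
        ((LocCoh.depth R M : ℕ∞) : WithBot ℕ∞)) ↔
      IsAssociatedPrime p N ∧ ∃ q : Ideal A, IsAssociatedPrime q N ∧ q ≤ p ∧ q ≠ p := by
  haveI : IsNoetherianRing R := IsLocalization.isNoetherianRing p.primeCompl R inferInstance
  haveI : Module.Finite R M := Module.Finite.of_isLocalizedModule p.primeCompl f
  have hcm : (maximalIdeal R).comap (algebraMap A R) = p :=
    IsLocalization.AtPrime.under_maximalIdeal R p
  have hass : maximalIdeal R ∈ associatedPrimes R M ↔ p ∈ associatedPrimes A N := by
    have h := Module.associatedPrimes.preimage_comap_associatedPrimes_eq_associatedPrimes_of_isLocalizedModule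
      p.primeCompl R f
    rw [← h, Set.mem_preimage, hcm]
  have hcomapinj : ∀ Q : Ideal R, Q.comap (algebraMap A R) = p → Q = maximalIdeal R := by
    intro Q hQ
    have h1 : (Q.comap (algebraMap A R)).map (algebraMap A R) = Q :=
      IsLocalization.map_under p.primeCompl R Q
    have h2 : ((maximalIdeal R).comap (algebraMap A R)).map (algebraMap A R) = maximalIdeal R :=
      IsLocalization.map_under p.primeCompl R (maximalIdeal R)
    rw [← h1, hQ, ← h2, hcm]
  constructor
  · intro hP
    rw [min_le_iff, not_or] at hP
    obtain ⟨h1, h2⟩ := hP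
    have hd0 : LocCoh.depth R M = 0 := by
      by_contra hne
      apply h1
      have : (1 : ℕ∞) ≤ LocCoh.depth R M := Order.one_le_iff_ne_zero.mpr hne
      exact_mod_cast this
    rw [hd0] at h2
    have hpos : 0 < Module.supportDim R M := by
      rw [not_le] at h2
      exact_mod_cast h2
    obtain ⟨-, hnr⟩ := (Groth.Agent.H29.depth_eq_zero_iff R M).mp hd0
    have hm := (Groth.Agent.H29.forall_not_isSMulRegular_iff_mem_associatedPrimes R M).mp hnr
    refine ⟨hass.mp hm, ?_⟩
    obtain ⟨⟨Q1, hQ1⟩, ⟨Q2, hQ2⟩, hlt⟩ := Order.krullDim_pos_iff.mp hpos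
    have hlt' : Q1.asIdeal < Q2.asIdeal := hlt
    have hq1 := comap_mem_support_of_mem_support p.primeCompl f Q1 hQ1
    have hQ1m : Q1.asIdeal ≠ maximalIdeal R := by
      intro h
      have : Q2.asIdeal ≤ maximalIdeal R := IsLocalRing.le_maximalIdeal Q2.isPrime.ne_top
      rw [h] at hlt'
      exact not_le_of_gt hlt' this
    have hq1p : (PrimeSpectrum.comap (algebraMap A R) Q1).asIdeal ≤ p := by
      rw [← hcm]
      exact Ideal.comap_mono (IsLocalRing.le_maximalIdeal Q1.isPrime.ne_top)
    have hq1ne : (PrimeSpectrum.comap (algebraMap A R) Q1).asIdeal ≠ p := fun h =>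
      hQ1m (hcomapinj _ h)
    have hann : Module.annihilator A N ≤ (PrimeSpectrum.comap (algebraMap A R) Q1).asIdeal :=
      Module.mem_support_iff_of_finite.mp hq1
    obtain ⟨q0, hq0min, hq0le⟩ := Ideal.exists_minimalPrimes_le hann
    refine ⟨q0, Module.associatedPrimes.minimalPrimes_annihilator_subset_associatedPrimes A N
      hq0min, hq0le.trans hq1p, ?_⟩
    intro h
    exact hq1ne (le_antisymm hq1p (h ▸ hq0le))
  · rintro ⟨hp, q, hq, hqp, hne⟩
    have hm : maximalIdeal R ∈ associatedPrimes R M := hass.mpr hp
    haveI : Nontrivial M := by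
      by_contra hnt
      rw [not_nontrivial_iff_subsingleton] at hnt
      exact not_isAssociatedPrime_of_subsingleton hm
    have hd0 : LocCoh.depth R M = 0 :=
      (Groth.Agent.H29.depth_eq_zero_iff R M).mpr
        ⟨Groth.Agent.H29.maximalIdeal_smul_top_ne_top R M,
          (Groth.Agent.H29.forall_not_isSMulRegular_iff_mem_associatedPrimes R M).mpr hm⟩
    haveI hqprime : q.IsPrime := hq.isPrime
    have hdisj : Disjoint (p.primeCompl : Set A) (q : Set A) := by
      rw [Set.disjoint_left]
      intro a ha haq
      exact ha (hqp haq)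
    haveI hQprime : (q.map (algebraMap A R)).IsPrime :=
      IsLocalization.isPrime_of_isPrime_disjoint p.primeCompl R q hqprime hdisj
    have hQcomap : (q.map (algebraMap A R)).comap (algebraMap A R) = q :=
      IsLocalization.under_map_of_isPrime_disjoint p.primeCompl R hqprime hdisj
    have hQs : (⟨q.map (algebraMap A R), hQprime⟩ : PrimeSpectrum R) ∈ Module.support R M := by
      apply mem_support_of_comap_mem_support p.primeCompl f
      have h1 := Groth.Agent.H29.CM.mem_support_of_mem_associatedPrimes hq
      convert h1 using 1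
      exact PrimeSpectrum.ext hQcomap
    have hms : (⟨maximalIdeal R, inferInstance⟩ : PrimeSpectrum R) ∈ Module.support R M :=
      Groth.Agent.H29.CM.mem_support_of_mem_associatedPrimes hm
    have hlt : (⟨⟨q.map (algebraMap A R), hQprime⟩, hQs⟩ : Module.support R M) <
        ⟨⟨maximalIdeal R, inferInstance⟩, hms⟩ := by
      change q.map (algebraMap A R) < maximalIdeal R
      refine lt_of_le_of_ne (IsLocalRing.le_maximalIdeal hQprime.ne_top) ?_
      intro h
      apply hne
      rw [← hQcomap, h, hcm]
    have h1 : (1 : WithBot ℕ∞) ≤ Module.supportDim R M :=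
      Order.one_le_krullDim_iff.mpr ⟨_, _, hlt⟩
    intro hP
    rw [hd0, min_le_iff] at hP
    rcases hP with h | h
    · exact absurd h (by norm_num)
    · exact absurd (h1.trans h) (by norm_num)

end S1

end Groth.Agent.H17.SuppLoc
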