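import Groth.Agent.H17.TFReduced
import Groth.Agent.H22.QCohLimits

/-!
# Morphisms into torsion-free modules are determined on dense opens
-/

set_option autoImplicit false
set_option linter.style.haveILetI false
universe u
open CategoryTheory CategoryTheory.Limits AlgebraicGeometry TopologicalSpace Opposite

namespace Groth.Agent.H17.TFDense

open Groth.Agent.H8

variable {X : Scheme.{u}}

/-- On a locally Noetherian scheme, a point whose local ring is a field lies in every dense open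
subset. -/
theorem mem_of_dense_of_isField [IsLocallyNoetherian X] (U : X.Opens) (hU : Dense (U : Set X))
    (y : X) (hy : IsField (X.presheaf.stalk y)) : y ∈ U := by
  classical
  obtain ⟨_, ⟨W, hW, rfl⟩, hyW, -⟩ :=
    X.isBasis_affineOpens.exists_subset_of_mem_open (Set.mem_univ y) isOpen_univ
  replace hW : IsAffineOpen W := hW
  haveI : IsNoetherianRing Γ(X, W) := IsLocallyNoetherian.component_noetherian ⟨W, hW⟩
  have hqmin : (hW.primeIdealOf ⟨y, hyW⟩).asIdeal ∈ minimalPrimes Γ(X, W) := by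
    letI := X.presheaf.algebra_section_stalk ⟨y, hyW⟩
    haveI := hW.isLocalization_stalk ⟨y, hyW⟩
    have h1 := IsLocalization.AtPrime.ringKrullDim_eq_height
      (hW.primeIdealOf ⟨y, hyW⟩).asIdeal (X.presheaf.stalk y)
    rw [ringKrullDim_eq_zero_of_isField hy] at h1
    apply Ideal.height_eq_zero_iff.mp
    exact_mod_cast h1.symm
  have hfin := minimalPrimes.finite_of_isNoetherianRing Γ(X, W)
  obtain ⟨f, hf1, hf2⟩ : ∃ f : Γ(X, W), f ∉ (hW.primeIdealOf ⟨y, hyW⟩).asIdeal ∧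
      ∀ p ∈ minimalPrimes Γ(X, W), p ≠ (hW.primeIdealOf ⟨y, hyW⟩).asIdeal → f ∈ p := by
    by_contra hcon
    push Not at hcon
    have hle : (hfin.toFinset.erase (hW.primeIdealOf ⟨y, hyW⟩).asIdeal).inf id ≤
        (hW.primeIdealOf ⟨y, hyW⟩).asIdeal := by
      intro f hf
      by_contra hfq
      obtain ⟨p, hp, hpq, hfp⟩ := hcon f hfq
      apply hfp
      have hmem : p ∈ hfin.toFinset.erase (hW.primeIdealOf ⟨y, hyW⟩).asIdeal :=
        Finset.mem_erase.mpr ⟨hpq, hfin.mem_toFinset.mpr hp⟩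
      exact (Finset.inf_le hmem : _ ≤ id p) hf
    obtain ⟨p, hp, hpq⟩ := (Ideal.IsPrime.inf_le' (hW.primeIdealOf ⟨y, hyW⟩).isPrime).mp hle
    rw [Finset.mem_erase] at hp
    have hpmin : p ∈ minimalPrimes Γ(X, W) := hfin.mem_toFinset.mp hp.2
    have hqp : (hW.primeIdealOf ⟨y, hyW⟩).asIdeal ≤ p := hqmin.2 ⟨hpmin.1.1, bot_le⟩ hpq
    exact hp.1 (le_antisymm hpq hqp)
  have hyf : y ∈ X.basicOpen f := (mem_basicOpen_iff_notMem_primeIdealOf hW y hyW f).mpr hf1
  obtain ⟨z, hzf, hzU⟩ := hU.inter_open_nonempty (X.basicOpen f) (X.basicOpen f).2 ⟨y, hyf⟩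
  have hzW : z ∈ W := X.basicOpen_le f hzf
  have hfr : f ∉ (hW.primeIdealOf ⟨z, hzW⟩).asIdeal :=
    (mem_basicOpen_iff_notMem_primeIdealOf hW z hzW f).mp hzf
  obtain ⟨p, hpmin, hpr⟩ := Ideal.exists_minimalPrimes_le
    (bot_le : ⊥ ≤ (hW.primeIdealOf ⟨z, hzW⟩).asIdeal)
  have hpq : p = (hW.primeIdealOf ⟨y, hyW⟩).asIdeal := by
    by_contra hne
    exact hfr (hpr (hf2 p hpmin hne))
  have hle : hW.primeIdealOf ⟨y, hyW⟩ ≤ hW.primeIdealOf ⟨z, hzW⟩ := by
    change (hW.primeIdealOf ⟨y, hyW⟩).asIdeal ≤ (hW.primeIdealOf ⟨z, hzW⟩).asIdeal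
    rw [← hpq]
    exact hpr
  have hspec : y ⤳ z := by
    have h1 := ((PrimeSpectrum.le_iff_specializes _ _).mp hle).map hW.fromSpec.continuous
    rwa [hW.fromSpec_primeIdealOf ⟨y, hyW⟩, hW.fromSpec_primeIdealOf ⟨z, hzW⟩] at h1
  exact hspec.mem_open U.2 hzU

/-- A section of a torsion-free quasi-coherent module on a reduced locally Noetherian scheme
which vanishes on the intersection with a dense open vanishes. -/
theorem eq_zero_of_res_dense_eq_zero [IsLocallyNoetherian X] [IsReduced X] (F : X.Modules)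
    [F.IsQuasicoherent] (hF : TorSh.IsTorsionFree F) (U : X.Opens) (hU : Dense (U : Set X))
    {W : X.Opens} (s : Γ(F, W))
    (h : F.presheaf.map (homOfLE (inf_le_left : W ⊓ U ≤ W)).op s = 0) : s = 0 := by
  apply Groth.Agent.H17.TFReduced.eq_zero_of_germ_eq_zero F hF s
  intro y hy hfld
  have hyU := mem_of_dense_of_isField U hU y hfld
  have hyWU : y ∈ W ⊓ U := ⟨hy, hyU⟩
  rw [← germ_res y F (inf_le_left : W ⊓ U ≤ W) hyWU s, h, map_zero]

/-- A section of a torsion-free quasi-coherent module on a reduced locally Noetherian scheme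
which vanishes on an open containing the intersection with a dense open vanishes. -/
theorem eq_zero_of_res_eq_zero_of_dense [IsLocallyNoetherian X] [IsReduced X] (F : X.Modules)
    [F.IsQuasicoherent] (hF : TorSh.IsTorsionFree F) (U : X.Opens) (hU : Dense (U : Set X))
    {W O : X.Opens} (hOW : O ≤ W) (hWU : ∀ y : X, y ∈ W → y ∈ U → y ∈ O) (s : Γ(F, W))
    (h : F.presheaf.map (homOfLE hOW).op s = 0) : s = 0 := by
  apply Groth.Agent.H17.TFReduced.eq_zero_of_germ_eq_zero F hF s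
  intro y hy hfld
  have hyU := mem_of_dense_of_isField U hU y hfld
  rw [← germ_res y F hOW (hWU y hy hyU) s, h, map_zero]

/-- A morphism into a torsion-free quasi-coherent module on a reduced locally Noetherian scheme
which vanishes on a dense open vanishes. -/
theorem hom_eq_zero_of_restrict_eq_zero [IsLocallyNoetherian X] [IsReduced X] {G F : X.Modules}
    [F.IsQuasicoherent] (hF : TorSh.IsTorsionFree F) (U : X.Opens) (hU : Dense (U : Set X))
    (g : G ⟶ F) (h : (Scheme.Modules.restrictFunctor U.ι).map g = 0) : g = 0 := by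
  apply Scheme.Modules.hom_ext
  intro W
  ext t
  have hOW : U.ι ''ᵁ (U.ι ⁻¹ᵁ W) ≤ W := by
    rintro _ ⟨y, hy, rfl⟩
    exact hy
  have hWU : ∀ y : X, y ∈ W → y ∈ U → y ∈ U.ι ''ᵁ (U.ι ⁻¹ᵁ W) := by
    intro y hyW hyU
    exact ⟨⟨y, hyU⟩, hyW, rfl⟩
  apply eq_zero_of_res_eq_zero_of_dense F hF U hU hOW hWU
  have h1 : g.app (U.ι ''ᵁ (U.ι ⁻¹ᵁ W)) = 0 := by
    have h2 := congrArg (fun φ => Scheme.Modules.Hom.app φ (U.ι ⁻¹ᵁ W)) h
    exact h2
  have h3 := Groth.Agent.H22.QCohLimits.app_res g hOW t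
  change F.presheaf.map (homOfLE hOW).op (g.app W t) = 0
  rw [← h3, h1]
  rfl

end Groth.Agent.H17.TFDense
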