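import Mathlib
import Groth.Prelude.Def_TorSh
import Groth.Agent.S6295
import Groth.Agent.H8.QCohStalk
import Groth.Agent.H17.HomSh

/-!
# Sections of torsion-free quasi-coherent modules on reduced Noetherian schemes

A section of a torsion-free quasi-coherent module on a reduced locally Noetherian scheme which
vanishes at all points whose local ring is a field vanishes.
-/

set_option autoImplicit false
set_option linter.style.haveILetI false
universe u
open CategoryTheory CategoryTheory.Limits AlgebraicGeometry TopologicalSpace Opposite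

namespace Groth.Agent.H17.TFReduced

open Groth.Agent.H8

variable {X : Scheme.{u}}

/-- affine version: a section over an affine open with Noetherian reduced coordinate ring, of a
torsion-free quasi-coherent module, vanishes as soon as its germs at the points whose local ring is
a field vanish. -/
theorem eq_zero_of_germ_eq_zero_affine (F : X.Modules) [F.IsQuasicoherent]
    (hF : TorSh.IsTorsionFree F) {W : X.Opens} (hW : IsAffineOpen W)
    [IsNoetherianRing Γ(X, W)] [IsReduced Γ(X, W)] (m : Γ(F, W))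
    (h : ∀ (y : X) (hy : y ∈ W), IsField (X.presheaf.stalk y) → F.presheaf.germ W y hy m = 0) :
    m = 0 := by
  classical
  let I : Ideal Γ(X, W) := (Submodule.span Γ(X, W) {m}).annihilator
  have hI : ∀ a, a ∈ I ↔ a • m = 0 := fun a => Submodule.mem_annihilator_span_singleton _ _
  have h1 : ∀ p ∈ minimalPrimes Γ(X, W), ¬ I ≤ p := by
    intro p hp hIp
    have hp' : p.IsPrime := hp.1.1
    have hyW : hW.fromSpec ⟨p, hp'⟩ ∈ W := by
      have h1 : hW.fromSpec ⟨p, hp'⟩ ∈ Set.range hW.fromSpec := ⟨_, rfl⟩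
      rwa [hW.range_fromSpec] at h1
    have hpy : hW.primeIdealOf ⟨hW.fromSpec ⟨p, hp'⟩, hyW⟩ = ⟨p, hp'⟩ :=
      hW.fromSpec.isOpenEmbedding.injective (hW.fromSpec_primeIdealOf ⟨_, hyW⟩)
    have hfield : IsField (X.presheaf.stalk (hW.fromSpec ⟨p, hp'⟩)) := by
      letI := X.presheaf.algebra_section_stalk ⟨hW.fromSpec ⟨p, hp'⟩, hyW⟩
      have hloc := hW.isLocalization_stalk ⟨hW.fromSpec ⟨p, hp'⟩, hyW⟩
      rw [hpy] at hloc
      haveI : IsLocalization.AtPrime (X.presheaf.stalk (hW.fromSpec ⟨p, hp'⟩)) p := hloc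
      have hfld := (Groth.Agent.S6295.result Γ(X, W)).1 ⟨p, hp'⟩ hp
      exact (IsLocalization.algEquiv p.primeCompl (Localization.AtPrime p)
        (X.presheaf.stalk (hW.fromSpec ⟨p, hp'⟩))).symm.toRingEquiv.toMulEquiv.isField hfld
    have h0 := h _ hyW hfield
    letI := moduleSectionStalk F (hW.fromSpec ⟨p, hp'⟩) hyW
    haveI := isLocalizedModule_germₗ F hW (hW.fromSpec ⟨p, hp'⟩) hyW
    obtain ⟨c, hc⟩ := (IsLocalizedModule.eq_zero_iff
      (hW.primeIdealOf ⟨hW.fromSpec ⟨p, hp'⟩, hyW⟩).asIdeal.primeCompl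
      (germₗ F (hW.fromSpec ⟨p, hp'⟩) hyW)).mp h0
    have hcI : (c : Γ(X, W)) ∈ I := (hI _).mpr hc
    have hcp : (c : Γ(X, W)) ∈ p := hIp hcI
    have e : (hW.primeIdealOf ⟨hW.fromSpec ⟨p, hp'⟩, hyW⟩).asIdeal = p :=
      congrArg PrimeSpectrum.asIdeal hpy
    exact c.2 (e.ge hcp)
  obtain ⟨a, haI, ha⟩ : ∃ a ∈ I, ∀ p ∈ minimalPrimes Γ(X, W), a ∉ p := by
    have hfin : (minimalPrimes Γ(X, W)).Finite := minimalPrimes.finite_of_isNoetherianRing _
    by_contra hcon
    push Not at hcon
    have hsub : (I : Set Γ(X, W)) ⊆ ⋃ p ∈ (hfin.toFinset : Set (Ideal Γ(X, W))),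
        ((id p : Ideal Γ(X, W)) : Set Γ(X, W)) := by
      intro a ha
      obtain ⟨p, hp, hap⟩ := hcon a ha
      simp only [Set.mem_iUnion]
      exact ⟨p, by simpa using hp, hap⟩
    obtain ⟨p, hp, hIp⟩ := (Ideal.subset_union_prime (f := id) ⊥ ⊥
      (fun p hp _ _ => (hfin.mem_toFinset.mp hp).1.1)).mp hsub
    exact h1 p (hfin.mem_toFinset.mp hp) hIp
  have hnzd : a ∈ nonZeroDivisors Γ(X, W) := by
    by_contra hna
    obtain ⟨p, hp, hap⟩ := ((Groth.Agent.S6295.result Γ(X, W)).2.2 a).mp hna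
    exact ha p hp hap
  refine Groth.Agent.H17.HomSh.section_ext_germ F m 0 (fun z => ?_)
  rw [map_zero]
  have hreg : IsRegular (X.presheaf.germ W z.1 z.2 a) := by
    letI := X.presheaf.algebra_section_stalk ⟨z.1, z.2⟩
    haveI := hW.isLocalization_stalk ⟨z.1, z.2⟩
    have := IsLocalization.map_nonZeroDivisors_le
      (hW.primeIdealOf ⟨z.1, z.2⟩).asIdeal.primeCompl (X.presheaf.stalk z.1)
      (Submonoid.mem_map_of_mem _ hnzd)
    exact isRegular_iff_mem_nonZeroDivisors.mpr this
  have hsm := (hF z.1).isSMulRegular hreg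
  apply hsm
  change X.presheaf.germ W z.1 z.2 a • F.presheaf.germ W z.1 z.2 m =
    X.presheaf.germ W z.1 z.2 a • 0
  rw [smul_zero, ← germ_smul, (hI a).mp haI, map_zero]

/-- A section of a torsion-free quasi-coherent module on a reduced locally Noetherian scheme
vanishes as soon as its germs at the points whose local ring is a field vanish. -/
theorem eq_zero_of_germ_eq_zero [IsLocallyNoetherian X] [IsReduced X] (F : X.Modules)
    [F.IsQuasicoherent] (hF : TorSh.IsTorsionFree F) {U : X.Opens} (s : Γ(F, U))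
    (h : ∀ (y : X) (hy : y ∈ U), IsField (X.presheaf.stalk y) → F.presheaf.germ U y hy s = 0) :
    s = 0 := by
  refine Groth.Agent.H17.HomSh.section_ext_germ F s 0 (fun z => ?_)
  rw [map_zero]
  obtain ⟨W, hW, hzW, hWU₀⟩ := exists_isAffineOpen_mem_and_subset (x := z.1) (U := U) z.2
  have hWU : W ≤ U := hWU₀
  haveI : IsNoetherianRing Γ(X, W) := IsLocallyNoetherian.component_noetherian ⟨W, hW⟩
  have h0 : F.presheaf.map (homOfLE hWU).op s = 0 := by
    apply eq_zero_of_germ_eq_zero_affine F hF hW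
    intro y hy hfld
    rw [TopCat.Presheaf.germ_res_apply]
    exact h y (hWU hy) hfld
  have := congrArg (F.presheaf.germ W z.1 hzW) h0
  rwa [TopCat.Presheaf.germ_res_apply, map_zero] at this

end Groth.Agent.H17.TFReduced
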